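import Mathlib

/-!
Two candidate degrees that do not divide the order of E₆(q).
-/

set_option autoImplicit false

namespace Cfsg.Agent.Lib.E6Deg29

/-- The order of the universal group. -/
def ordU (q : ℕ) : ℕ :=
  q ^ 36 * ((q ^ 2 - 1) * (q ^ 5 - 1) * (q ^ 6 - 1) * (q ^ 8 - 1) * (q ^ 9 - 1) * (q ^ 12 - 1))

theorem dvd_step {M a b c s t : ℤ} (e : s * M + t * a = c) (h : M ∣ a * b) : M ∣ c * b := by
  obtain ⟨u, hu⟩ := h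
  exact ⟨s * b + t * u, by rw [← e]; linear_combination t * hu⟩

theorem dvd_pow_step {M a c s t : ℤ} (e : s * M + t * a = c) : ∀ (m : ℕ) (b : ℤ), M ∣ a ^ m * b → M ∣ c ^ m * b
  | 0, b, h => by simpa using h
  | m + 1, b, h => by
    have h1 := dvd_step e (b := a ^ m * b) (by rwa [← mul_assoc, ← pow_succ'])
    rw [mul_left_comm] at h1
    have h2 := dvd_pow_step e m _ h1
    rwa [pow_succ, mul_assoc]

theorem peel {M a c s t k b : ℤ} {m : ℕ} (e : s * M + t * a = c) (h : M ∣ k * (a ^ m * b)) :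
    M ∣ k * c ^ m * b := by
  have h' := dvd_pow_step e m (k * b) (by rwa [mul_left_comm] at h)
  rwa [← mul_assoc, mul_comm (c ^ m) k] at h'

theorem cast_ordU (q : ℕ) (hq : 1 ≤ q) : (ordU q : ℤ) = (q : ℤ) ^ 36 *
    (((q : ℤ) - 1) ^ 6 * (((q : ℤ) + 1) ^ 4 * (((q : ℤ) ^ 2 + q + 1) ^ 3 * (((q : ℤ) ^ 2 + 1) ^ 2 *
      (((q : ℤ) ^ 4 + (q : ℤ) ^ 3 + (q : ℤ) ^ 2 + q + 1) ^ 1 * (((q : ℤ) ^ 2 - q + 1) ^ 2 *
        (((q : ℤ) ^ 4 + 1) ^ 1 * (((q : ℤ) ^ 6 + (q : ℤ) ^ 3 + 1) ^ 1 * (((q : ℤ) ^ 4 - (q : ℤ) ^ 2 + 1) ^ 1 * 1))))))))) := by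
  have h : ∀ d, 1 ≤ q ^ d := fun d => Nat.one_le_pow _ _ (by omega)
  simp only [ordU, Nat.cast_mul, Nat.cast_pow, Nat.cast_sub (h _), Nat.cast_one]
  ring

theorem R1_dvd (q : ℕ) (hq : 1 ≤ q) :
    let x : ℤ := q
    let M : ℤ := x ^ 10 + x ^ 9 + x ^ 8 + 2 * x ^ 7 + 3 * x ^ 6 + 3 * x ^ 5 + 3 * x ^ 4 + 3 * x ^ 3 + 2 * x ^ 2 + x + 1
    M ∣ (ordU q : ℤ) → M ∣ 507135073473 := by
  intro x M h
  rw [cast_ordU q hq] at h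
  have c0 : IsCoprime M x := ⟨1, -(x ^ 9 + x ^ 8 + x ^ 7 + 2 * x ^ 6 + 3 * x ^ 5 + 3 * x ^ 4 + 3 * x ^ 3 + 3 * x ^ 2 + 2 * x + 1), by ring⟩
  have h0 := (c0.pow_right (n := 36)).dvd_of_dvd_mul_left h
  rw [← one_mul (_ * _)] at h0
  have h1 := peel (s := 1) (t := -x ^ 9 - 2 * x ^ 8 - 3 * x ^ 7 - 5 * x ^ 6 - 8 * x ^ 5 - 11 * x ^ 4 - 14 * x ^ 3 - 17 * x ^ 2 - 19 * x - 20) (c := 21) (show _ * M + _ * (x - 1) = _ by ring) (m := 6) h0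
  have h2 := peel (s := 1) (t := -x ^ 9 - x ^ 7 - x ^ 6 - 2 * x ^ 5 - x ^ 4 - 2 * x ^ 3 - x ^ 2 - x) (c := 1) (show _ * M + _ * (x + 1) = _ by ring) (m := 4) h1
  have h3 := peel (s := -x + 1) (t := x ^ 9 - x ^ 8 + 2 * x ^ 6 - x ^ 5 - x ^ 4 + 2 * x ^ 3 - x ^ 2 - 2 * x + 2) (c := 3) (show _ * M + _ * (x ^ 2 + x + 1) = _ by ring) (m := 3) h2
  have h4 := peel (s := -1) (t := x ^ 8 + x ^ 7 + x ^ 5 + 3 * x ^ 4 + 2 * x ^ 3 + x + 2) (c := 1) (show _ * M + _ * (x ^ 2 + 1) = _ by ring) (m := 2) h3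
  have h5 := peel (s := 1) (t := -x ^ 6 - x ^ 3 - x ^ 2 - x) (c := 1) (show _ * M + _ * (x ^ 4 + x ^ 3 + x ^ 2 + x + 1) = _ by ring) (m := 1) h4
  have h6 := peel (s := x - 1) (t := -x ^ 9 - x ^ 8 - x ^ 5 - x ^ 4 + x ^ 2 + 2 * x + 2) (c := 1) (show _ * M + _ * (x ^ 2 - x + 1) = _ by ring) (m := 2) h5
  have h7 := peel (s := x ^ 3 - x + 1) (t := -x ^ 9 - x ^ 8 - 2 * x ^ 6 - 2 * x ^ 5 - x ^ 4 - 2 * x ^ 3 - x ^ 2) (c := 1) (show _ * M + _ * (x ^ 4 + 1) = _ by ring) (m := 1) h6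
  have h8 := peel (s := -x ^ 5 + 2 * x ^ 4 - x ^ 3 + x ^ 2 - 2 * x + 1) (t := x ^ 9 - x ^ 8 - x ^ 6 + 2 * x ^ 5 - x ^ 4 - x ^ 3 - x ^ 2 + x + 2) (c := 3) (show _ * M + _ * (x ^ 6 + x ^ 3 + 1) = _ by ring) (m := 1) h7
  have h9 := peel (s := 4 * x ^ 3 + 12 * x ^ 2 - 41 * x + 23) (t := -4 * x ^ 9 - 16 * x ^ 8 + 21 * x ^ 7 - 18 * x ^ 6 + 7 * x ^ 5 + 9 * x ^ 4 + 15 * x ^ 3 + 33 * x ^ 2 + 18 * x + 50) (c := 73) (show _ * M + _ * (x ^ 4 - x ^ 2 + 1) = _ by ring) (m := 1) h8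
  norm_num at h9
  exact h9

theorem R2_dvd (q : ℕ) (hq : 1 ≤ q) :
    let x : ℤ := q
    let M : ℤ := x ^ 9 + x ^ 8 + x ^ 5 + x ^ 4 + x ^ 3 + x ^ 2 - 1
    M ∣ (ordU q : ℤ) → M ∣ 20000000 := by
  intro x M h
  rw [cast_ordU q hq] at h
  have c0 : IsCoprime M x := ⟨-1, x ^ 8 + x ^ 7 + x ^ 4 + x ^ 3 + x ^ 2 + x, by ring⟩
  have h0 := (c0.pow_right (n := 36)).dvd_of_dvd_mul_left h
  rw [← one_mul (_ * _)] at h0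
  have h1 := peel (s := 1) (t := -x ^ 8 - 2 * x ^ 7 - 2 * x ^ 6 - 2 * x ^ 5 - 3 * x ^ 4 - 4 * x ^ 3 - 5 * x ^ 2 - 6 * x - 6) (c := 5) (show _ * M + _ * (x - 1) = _ by ring) (m := 6) h0
  have h2 := peel (s := -1) (t := x ^ 8 + x ^ 4 + x ^ 2) (c := 1) (show _ * M + _ * (x + 1) = _ by ring) (m := 4) h1
  have h3 := peel (s := x) (t := -x ^ 8 + x ^ 6 - x ^ 5 - x ^ 4 + x ^ 3 - x ^ 2 - x + 2) (c := 2) (show _ * M + _ * (x ^ 2 + x + 1) = _ by ring) (m := 3) h2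
  have h4 := peel (s := -x) (t := x ^ 8 + x ^ 7 - x ^ 6 - x ^ 5 + 2 * x ^ 4 + 2 * x ^ 3 - x ^ 2 - x + 1) (c := 1) (show _ * M + _ * (x ^ 2 + 1) = _ by ring) (m := 2) h3
  have h5 := peel (s := -x ^ 3 - 2 * x ^ 2 + 2 * x - 4) (t := x ^ 8 + 2 * x ^ 7 - 3 * x ^ 6 + 2 * x ^ 5 + 3 * x ^ 4 - x ^ 3 + x + 1) (c := 5) (show _ * M + _ * (x ^ 4 + x ^ 3 + x ^ 2 + x + 1) = _ by ring) (m := 1) h4
  have h6 := peel (s := -1) (t := x ^ 7 + 2 * x ^ 6 + x ^ 5 - x ^ 4 - x ^ 3 + x ^ 2 + 3 * x + 3) (c := 4) (show _ * M + _ * (x ^ 2 - x + 1) = _ by ring) (m := 2) h5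
  have h7 := peel (s := -x ^ 2 + x - 1) (t := x ^ 7 + x ^ 4 + x) (c := 1) (show _ * M + _ * (x ^ 4 + 1) = _ by ring) (m := 1) h6
  have h8 := peel (s := -x ^ 2 + x - 1) (t := x ^ 5 + x) (c := 1) (show _ * M + _ * (x ^ 6 + x ^ 3 + 1) = _ by ring) (m := 1) h7
  have h9 := peel (s := -x ^ 2 + x - 1) (t := x ^ 7 + x ^ 5 + x ^ 4 + x ^ 3 + x ^ 2 + x + 1) (c := 2) (show _ * M + _ * (x ^ 4 - x ^ 2 + 1) = _ by ring) (m := 1) h8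
  norm_num at h9
  exact h9

/-- The first candidate. -/
theorem not_dvd_one {q k : ℕ} (hq : 2 ≤ q)
    (hk : (k : ℤ) = (q : ℤ) ^ 11 + (q : ℤ) ^ 8 + (q : ℤ) ^ 7 - (q : ℤ) ^ 3 - (q : ℤ) ^ 2 - 1) : ¬ k ∣ ordU q := by
  intro hd
  have hdz : (k : ℤ) ∣ (ordU q : ℤ) := Int.natCast_dvd_natCast.2 hd
  set x : ℤ := (q : ℤ) with hx
  have hM : (x ^ 10 + x ^ 9 + x ^ 8 + 2 * x ^ 7 + 3 * x ^ 6 + 3 * x ^ 5 + 3 * x ^ 4 + 3 * x ^ 3 + 2 * x ^ 2 + x + 1) ∣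
      (k : ℤ) := ⟨x - 1, by rw [hk]; ring⟩
  have h1 := Int.le_of_dvd (by norm_num) (R1_dvd q (by omega) (hM.trans hdz))
  have hx2 : 2 ≤ x := by rw [hx]; exact_mod_cast hq
  have hq15 : q < 15 := by
    by_contra h
    have h15 : 15 ≤ x := by rw [hx]; exact_mod_cast (not_lt.1 h)
    have : (15 : ℤ) ^ 10 ≤ x ^ 10 := pow_le_pow_left₀ (by norm_num) h15 10
    have : ∀ n : ℕ, 0 ≤ x ^ n := fun n => pow_nonneg (by omega) n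
    linarith [this 9, this 8, this 7, this 6, this 5, this 4, this 3, this 2]
  rw [hx] at hk
  have hk' : k + (q ^ 3 + q ^ 2 + 1) = q ^ 11 + q ^ 8 + q ^ 7 := by zify; rw [hk]; ring
  obtain rfl : k = q ^ 11 + q ^ 8 + q ^ 7 - (q ^ 3 + q ^ 2 + 1) := by omega
  revert hd
  interval_cases q <;> decide +kernel

/-- The second candidate. -/
theorem not_dvd_two {q k : ℕ} (hq : 2 ≤ q)
    (hk : (k : ℤ) + 1 = (q : ℤ) * ((q : ℤ) ^ 6 + (q : ℤ) ^ 3 + 1) * ((q : ℤ) ^ 4 + 1)) : ¬ k ∣ ordU q := by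
  intro hd
  have hdz : (k : ℤ) ∣ (ordU q : ℤ) := Int.natCast_dvd_natCast.2 hd
  set x : ℤ := (q : ℤ) with hx
  have hM : (x ^ 9 + x ^ 8 + x ^ 5 + x ^ 4 + x ^ 3 + x ^ 2 - 1) ∣ (k : ℤ) :=
    ⟨x ^ 2 - x + 1, by linear_combination hk⟩
  have h1 := Int.le_of_dvd (by norm_num) (R2_dvd q (by omega) (hM.trans hdz))
  have hx2 : 2 ≤ x := by rw [hx]; exact_mod_cast hq
  have hq7 : q < 7 := by
    by_contra h
    have h7 : 7 ≤ x := by rw [hx]; exact_mod_cast (not_lt.1 h)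
    have : (7 : ℤ) ^ 9 ≤ x ^ 9 := pow_le_pow_left₀ (by norm_num) h7 9
    have : ∀ n : ℕ, 0 ≤ x ^ n := fun n => pow_nonneg (by omega) n
    linarith [this 8, this 5, this 4, this 3, this 2]
  rw [hx] at hk
  have hk' : k + 1 = q * (q ^ 6 + q ^ 3 + 1) * (q ^ 4 + 1) := by exact_mod_cast hk
  obtain rfl : k = q * (q ^ 6 + q ^ 3 + 1) * (q ^ 4 + 1) - 1 := by omega
  revert hd
  interval_cases q <;> decide +kernel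

end Cfsg.Agent.Lib.E6Deg29
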