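import Cfsg.Agent.Lib.E6Deg29.Arith

/-!
Three candidate degrees that do not divide the order of ²E₆(q).
-/

set_option autoImplicit false

namespace Cfsg.Agent.Lib.E6Deg29.Tw

/-- The order of the universal group. -/
def ordT (q : ℕ) : ℕ :=
  q ^ 36 * ((q ^ 2 - 1) * (q ^ 5 + 1) * (q ^ 6 - 1) * (q ^ 8 - 1) * (q ^ 9 + 1) * (q ^ 12 - 1))

theorem cast_ordT (q : ℕ) (hq : 1 ≤ q) : (ordT q : ℤ) = (q : ℤ) ^ 36 *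
    (((q : ℤ) - 1) ^ 4 * (((q : ℤ) + 1) ^ 6 * (((q : ℤ) ^ 2 + (q : ℤ) + 1) ^ 2 * (((q : ℤ) ^ 2 + 1) ^ 2 * (((q : ℤ) ^ 2 - (q : ℤ) + 1) ^ 3 * (((q : ℤ) ^ 4 + 1) ^ 1 * (((q : ℤ) ^ 4 - (q : ℤ) ^ 3 + (q : ℤ) ^ 2 - (q : ℤ) + 1) ^ 1 * (((q : ℤ) ^ 4 - (q : ℤ) ^ 2 + 1) ^ 1 * (((q : ℤ) ^ 6 - (q : ℤ) ^ 3 + 1) ^ 1 * 1))))))))) := by
  have h : ∀ d, 1 ≤ q ^ d := fun d => Nat.one_le_pow _ _ (by omega)
  simp only [ordT, Nat.cast_mul, Nat.cast_add, Nat.cast_pow, Nat.cast_sub (h _), Nat.cast_one]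
  ring

theorem Q0_dvd (q : ℕ) (hq : 1 ≤ q) :
    let x : ℤ := q
    let M : ℤ := x ^ 10 + x ^ 9 + x ^ 8 + x ^ 6 + x ^ 5 + x ^ 4 + x ^ 3 + x + 1
    M ∣ (ordT q : ℤ) → M ∣ 84144825 := by
  intro x M h
  rw [cast_ordT q hq] at h
  rw [← one_mul (_ * _)] at h
  have g := peel (s := 1) (t := -(x ^ 9 + x ^ 8 + x ^ 7 + x ^ 5 + x ^ 4 + x ^ 3 + x ^ 2 + 1)) (c := 1) (show _ * M + _ * x = _ by ring) (m := 36) h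
  have g0 := peel (s := 1) (t := -x ^ 9 - 2 * x ^ 8 - 3 * x ^ 7 - 3 * x ^ 6 - 4 * x ^ 5 - 5 * x ^ 4 - 6 * x ^ 3 - 7 * x ^ 2 - 7 * x - 8) (c := 9) (show _ * M + _ * (x - 1) = _ by ring) (m := 4) g
  have g1 := peel (s := 1) (t := -x ^ 9 - x ^ 7 + x ^ 6 - 2 * x ^ 5 + x ^ 4 - 2 * x ^ 3 + x ^ 2 - x) (c := 1) (show _ * M + _ * (x + 1) = _ by ring) (m := 6) g0
  have g2 := peel (s := -x + 1) (t := x ^ 9 - x ^ 8 + x ^ 5 - x ^ 4 + x ^ 2 - 2 * x + 2) (c := 3) (show _ * M + _ * (x ^ 2 + x + 1) = _ by ring) (m := 2) g1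
  have g3 := peel (s := -2 * x + 1) (t := 2 * x ^ 9 + x ^ 8 - x ^ 7 - 2 * x ^ 6 + 3 * x ^ 5 + 3 * x ^ 4 - 2 * x ^ 3 - 2 * x ^ 2 + x + 4) (c := 5) (show _ * M + _ * (x ^ 2 + 1) = _ by ring) (m := 2) g2
  have g4 := peel (s := x - 1) (t := -x ^ 9 - x ^ 8 + 2 * x ^ 6 + x ^ 5 - x ^ 4 - 2 * x ^ 3 - x ^ 2 + 2 * x + 2) (c := 1) (show _ * M + _ * (x ^ 2 - x + 1) = _ by ring) (m := 3) g3
  have g5 := peel (s := -x ^ 3 - x + 1) (t := x ^ 9 + x ^ 8 + 2 * x ^ 7 - x ^ 4 + x ^ 2 + 2) (c := 3) (show _ * M + _ * (x ^ 4 + 1) = _ by ring) (m := 1) g4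
  have g6 := peel (s := 1) (t := -x ^ 6 - 2 * x ^ 5 - 2 * x ^ 4 - x ^ 3 - x ^ 2 - x) (c := 1) (show _ * M + _ * (x ^ 4 - x ^ 3 + x ^ 2 - x + 1) = _ by ring) (m := 1) g5
  have g7 := peel (s := -x - 1) (t := x ^ 7 + 2 * x ^ 6 + 3 * x ^ 5 + 3 * x ^ 4 + 3 * x ^ 3 + 3 * x ^ 2 + 2 * x + 2) (c := 1) (show _ * M + _ * (x ^ 4 - x ^ 2 + 1) = _ by ring) (m := 1) g6
  have g8 := peel (s := -13 * x ^ 5 + 2 * x ^ 4 + 7 * x ^ 3 + 9 * x ^ 2 - 16 * x + 1) (t := 13 * x ^ 9 + 11 * x ^ 8 + 4 * x ^ 7 - 5 * x ^ 6 + 24 * x ^ 5 + 21 * x ^ 4 + x ^ 3 + 7 * x ^ 2 + 15 * x + 18) (c := 19) (show _ * M + _ * (x ^ 6 - x ^ 3 + 1) = _ by ring) (m := 1) g7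
  norm_num at g8
  exact g8

theorem Q0_small : ∀ q : ℕ, q < 7 → 2 ≤ q → ¬ (q ^ 11 + q ^ 7 + q ^ 2 - (q ^ 8 + q ^ 3 + 1)) ∣ ordT q := by decide +kernel

theorem not_dvd_Q0 {q k : ℕ} (hq : 2 ≤ q) (hk : (k : ℤ) = (q : ℤ) ^ 11 - (q : ℤ) ^ 8 + (q : ℤ) ^ 7 - (q : ℤ) ^ 3 + (q : ℤ) ^ 2 - 1) : ¬ k ∣ ordT q := by
  intro hd
  by_cases hsm : q < 7
  · have h3 : q ^ 3 ≤ q ^ 6 := Nat.pow_le_pow_right (by omega) (by norm_num)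
    have he : k = q ^ 11 + q ^ 7 + q ^ 2 - (q ^ 8 + q ^ 3 + 1) := by
      have : k + (q ^ 8 + q ^ 3 + 1) = q ^ 11 + q ^ 7 + q ^ 2 := by zify; rw [hk]; ring
      omega
    exact Q0_small q hsm hq (he ▸ hd)
  · have hx : (7 : ℤ) ≤ (q : ℤ) := by exact_mod_cast (not_lt.1 hsm)
    have hdz : (k : ℤ) ∣ (ordT q : ℤ) := Int.natCast_dvd_natCast.2 hd
    have hM : ((q : ℤ) ^ 10 + (q : ℤ) ^ 9 + (q : ℤ) ^ 8 + (q : ℤ) ^ 6 + (q : ℤ) ^ 5 + (q : ℤ) ^ 4 + (q : ℤ) ^ 3 + (q : ℤ) + 1) ∣ (k : ℤ) :=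
      ⟨(q : ℤ) - 1, by linear_combination hk⟩
    have h1 := Int.le_of_dvd (by norm_num) (Q0_dvd q (by omega) (hM.trans hdz))
    have : (7 : ℤ) ^ 10 ≤ (q : ℤ) ^ 10 := pow_le_pow_left₀ (by norm_num) hx 10
    have h0 : ∀ n : ℕ, 0 ≤ (q : ℤ) ^ n := fun n => pow_nonneg (by omega) n
    linarith [h0 2, h0 3, h0 4, h0 5, h0 6, h0 7, h0 8, h0 9]

theorem Q2_dvd (q : ℕ) (hq : 1 ≤ q) :
    let x : ℤ := q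
    let M : ℤ := x ^ 10 + x ^ 9 + x ^ 8 + x ^ 6 + x ^ 5 + 2 * x ^ 4 + x ^ 3 + x ^ 2 + x + 2
    M ∣ (ordT q : ℤ) → M ∣ 36981110181769223602176 := by
  intro x M h
  rw [cast_ordT q hq] at h
  rw [← one_mul (_ * _)] at h
  have g := peel (s := 1) (t := -(x ^ 9 + x ^ 8 + x ^ 7 + x ^ 5 + x ^ 4 + 2 * x ^ 3 + x ^ 2 + x + 1)) (c := 2) (show _ * M + _ * x = _ by ring) (m := 36) h
  have g0 := peel (s := 1) (t := -x ^ 9 - 2 * x ^ 8 - 3 * x ^ 7 - 3 * x ^ 6 - 4 * x ^ 5 - 5 * x ^ 4 - 7 * x ^ 3 - 8 * x ^ 2 - 9 * x - 10) (c := 12) (show _ * M + _ * (x - 1) = _ by ring) (m := 4) g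
  have g1 := peel (s := 1) (t := -x ^ 9 - x ^ 7 + x ^ 6 - 2 * x ^ 5 + x ^ 4 - 3 * x ^ 3 + 2 * x ^ 2 - 3 * x + 2) (c := 4) (show _ * M + _ * (x + 1) = _ by ring) (m := 6) g0
  have g2 := peel (s := -x + 1) (t := x ^ 9 - x ^ 8 + x ^ 5 - x ^ 4 + x ^ 3 - x ^ 2 + 1) (c := 3) (show _ * M + _ * (x ^ 2 + x + 1) = _ by ring) (m := 2) g1
  have g3 := peel (s := -x + 1) (t := x ^ 9 - x ^ 7 - x ^ 6 + 2 * x ^ 5 + x ^ 4 - x ^ 3 - 2 * x ^ 2 + x + 2) (c := 4) (show _ * M + _ * (x ^ 2 + 1) = _ by ring) (m := 2) g2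
  have g4 := peel (s := x - 1) (t := -x ^ 9 - x ^ 8 + 2 * x ^ 6 + x ^ 5 - x ^ 4 - 3 * x ^ 3 - x ^ 2 + 2 * x + 3) (c := 1) (show _ * M + _ * (x ^ 2 - x + 1) = _ by ring) (m := 3) g3
  have g5 := peel (s := -x + 1) (t := x ^ 7 - x ^ 4 + x) (c := 2) (show _ * M + _ * (x ^ 4 + 1) = _ by ring) (m := 1) g4
  have g6 := peel (s := -x ^ 3 - x ^ 2 - 3 * x + 6) (t := x ^ 9 + 3 * x ^ 8 + 7 * x ^ 7 + 3 * x ^ 6 - 4 * x ^ 5 - 7 * x ^ 4 - x ^ 3 - x ^ 2 - x - 1) (c := 11) (show _ * M + _ * (x ^ 4 - x ^ 3 + x ^ 2 - x + 1) = _ by ring) (m := 1) g5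
  have g7 := peel (s := -x + 1) (t := x ^ 7 + x ^ 5 - x ^ 4 + x ^ 3 - x ^ 2 + x - 1) (c := 1) (show _ * M + _ * (x ^ 4 - x ^ 2 + 1) = _ by ring) (m := 1) g6
  have g8 := peel (s := -x + 1) (t := x ^ 5 + x) (c := 2) (show _ * M + _ * (x ^ 6 - x ^ 3 + 1) = _ by ring) (m := 1) g7
  norm_num at g8
  exact g8

theorem Q2_small : ∀ q : ℕ, q < 181 → 2 ≤ q → ¬ (q * (q ^ 6 - q ^ 3 + 1) * (q ^ 4 + 1) - 2) ∣ ordT q := by decide +kernel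

theorem not_dvd_Q2 {q k : ℕ} (hq : 2 ≤ q) (hk : (k : ℤ) + 2 = (q : ℤ) * ((q : ℤ) ^ 6 - (q : ℤ) ^ 3 + 1) * ((q : ℤ) ^ 4 + 1)) : ¬ k ∣ ordT q := by
  intro hd
  by_cases hsm : q < 181
  · have h3 : q ^ 3 ≤ q ^ 6 := Nat.pow_le_pow_right (by omega) (by norm_num)
    have he : k = q * (q ^ 6 - q ^ 3 + 1) * (q ^ 4 + 1) - 2 := by
      have : k + 2 = q * (q ^ 6 - q ^ 3 + 1) * (q ^ 4 + 1) := by
        zify [h3]; exact hk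
      omega
    exact Q2_small q hsm hq (he ▸ hd)
  · have hx : (181 : ℤ) ≤ (q : ℤ) := by exact_mod_cast (not_lt.1 hsm)
    have hdz : (k : ℤ) ∣ (ordT q : ℤ) := Int.natCast_dvd_natCast.2 hd
    have hM : ((q : ℤ) ^ 10 + (q : ℤ) ^ 9 + (q : ℤ) ^ 8 + (q : ℤ) ^ 6 + (q : ℤ) ^ 5 + 2 * (q : ℤ) ^ 4 + (q : ℤ) ^ 3 + (q : ℤ) ^ 2 + (q : ℤ) + 2) ∣ (k : ℤ) :=
      ⟨(q : ℤ) - 1, by linear_combination hk⟩
    have h1 := Int.le_of_dvd (by norm_num) (Q2_dvd q (by omega) (hM.trans hdz))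
    have : (181 : ℤ) ^ 10 ≤ (q : ℤ) ^ 10 := pow_le_pow_left₀ (by norm_num) hx 10
    have h0 : ∀ n : ℕ, 0 ≤ (q : ℤ) ^ n := fun n => pow_nonneg (by omega) n
    linarith [h0 2, h0 3, h0 4, h0 5, h0 6, h0 7, h0 8, h0 9]

theorem Q1_dvd (q : ℕ) (hq : 1 ≤ q) :
    let x : ℤ := q
    let M : ℤ := x ^ 7 + x ^ 5 - x ^ 4 + x ^ 3 - x ^ 2 + x - 1
    M ∣ (ordT q : ℤ) → M ∣ 4353013 := by
  intro x M h
  rw [cast_ordT q hq] at h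
  rw [← one_mul (_ * _)] at h
  have g := peel (s := -1) (t := (x ^ 6 + x ^ 4 - x ^ 3 + x ^ 2 - x + 1)) (c := 1) (show _ * M + _ * x = _ by ring) (m := 36) h
  have g0 := peel (s := 1) (t := -x ^ 6 - x ^ 5 - 2 * x ^ 4 - x ^ 3 - 2 * x ^ 2 - x - 2) (c := 1) (show _ * M + _ * (x - 1) = _ by ring) (m := 4) g
  have g1 := peel (s := -1) (t := x ^ 6 - x ^ 5 + 2 * x ^ 4 - 3 * x ^ 3 + 4 * x ^ 2 - 5 * x + 6) (c := 7) (show _ * M + _ * (x + 1) = _ by ring) (m := 6) g0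
  have g2 := peel (s := -x - 1) (t := x ^ 6) (c := 1) (show _ * M + _ * (x ^ 2 + x + 1) = _ by ring) (m := 2) g1
  have g3 := peel (s := -1) (t := x ^ 5 - x ^ 2 + x) (c := 1) (show _ * M + _ * (x ^ 2 + 1) = _ by ring) (m := 2) g2
  have g4 := peel (s := -x + 1) (t := x ^ 6 - 2 * x ^ 3 + 2) (c := 1) (show _ * M + _ * (x ^ 2 - x + 1) = _ by ring) (m := 3) g3
  have g5 := peel (s := x ^ 2) (t := -x ^ 5 - x ^ 3 + x ^ 2 + 1) (c := 1) (show _ * M + _ * (x ^ 4 + 1) = _ by ring) (m := 1) g4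
  have g6 := peel (s := x ^ 2 - x) (t := -x ^ 5 + x ^ 2 + 1) (c := 1) (show _ * M + _ * (x ^ 4 - x ^ 3 + x ^ 2 - x + 1) = _ by ring) (m := 1) g5
  have g7 := peel (s := x ^ 3 + 8 * x ^ 2 - 11 * x - 14) (t := -x ^ 6 - 8 * x ^ 5 + 9 * x ^ 4 - x ^ 3 + 28 * x ^ 2 + 3 * x + 23) (c := 37) (show _ * M + _ * (x ^ 4 - x ^ 2 + 1) = _ by ring) (m := 1) g6
  have g8 := peel (s := -x ^ 4 + x ^ 2 - 1) (t := x ^ 5 + x) (c := 1) (show _ * M + _ * (x ^ 6 - x ^ 3 + 1) = _ by ring) (m := 1) g7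
  norm_num at g8
  exact g8

theorem Q1_small : ∀ q : ℕ, q < 9 → 2 ≤ q → ¬ (q * (q ^ 6 - q ^ 3 + 1) * (q ^ 4 + 1) - 1) ∣ ordT q := by decide +kernel

theorem not_dvd_Q1 {q k : ℕ} (hq : 2 ≤ q) (hk : (k : ℤ) + 1 = (q : ℤ) * ((q : ℤ) ^ 6 - (q : ℤ) ^ 3 + 1) * ((q : ℤ) ^ 4 + 1)) : ¬ k ∣ ordT q := by
  intro hd
  by_cases hsm : q < 9
  · have h3 : q ^ 3 ≤ q ^ 6 := Nat.pow_le_pow_right (by omega) (by norm_num)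
    have he : k = q * (q ^ 6 - q ^ 3 + 1) * (q ^ 4 + 1) - 1 := by
      have : k + 1 = q * (q ^ 6 - q ^ 3 + 1) * (q ^ 4 + 1) := by
        zify [h3]; exact hk
      omega
    exact Q1_small q hsm hq (he ▸ hd)
  · have hx : (9 : ℤ) ≤ (q : ℤ) := by exact_mod_cast (not_lt.1 hsm)
    have hdz : (k : ℤ) ∣ (ordT q : ℤ) := Int.natCast_dvd_natCast.2 hd
    have hM : ((q : ℤ) ^ 7 + (q : ℤ) ^ 5 - (q : ℤ) ^ 4 + (q : ℤ) ^ 3 - (q : ℤ) ^ 2 + (q : ℤ) - 1) ∣ (k : ℤ) :=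
      ⟨(q : ℤ) ^ 4 - (q : ℤ) ^ 2 + 1, by linear_combination hk⟩
    have h1 := Int.le_of_dvd (by norm_num) (Q1_dvd q (by omega) (hM.trans hdz))
    have : (9 : ℤ) ^ 7 ≤ (q : ℤ) ^ 7 := pow_le_pow_left₀ (by norm_num) hx 7
    have h0 : ∀ n : ℕ, 0 ≤ (q : ℤ) ^ n := fun n => pow_nonneg (by omega) n
    have h4 : 0 ≤ ((q : ℤ) - 1) * ((q : ℤ) ^ 4 + (q : ℤ) ^ 2) := mul_nonneg (by omega) (add_nonneg (h0 4) (h0 2))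
    nlinarith [h0 3]

end Cfsg.Agent.Lib.E6Deg29.Tw
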