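import Cfsg.Agent.Lib.E6Deg29.Datum
import Cfsg.Agent.Lib.ChevStructure.RankOne

/-!
A vector fixed by a maximal unipotent subgroup is fixed by the whole group when the Levi subgroup of the
parabolic of the highest root fixes all such vectors: a braid relation for the remaining simple root.
-/

set_option autoImplicit false
set_option linter.unusedSectionVars false
set_option maxRecDepth 100000

namespace Cfsg.Agent.Lib.E6Deg29

open Cfsg.Lie Cfsg.Agent.Lib.ChevStructure Cfsg.Agent.Lib.SubfieldTwist29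
open Cfsg.Agent.Lib.ChevStructure.Core (hD)
open scoped MatrixGroups Matrix

/-- A mean of vectors of the same invariant norm equal to one of that norm forces equality. -/
theorem eq_of_mean {G : Type*} [Group G] [Finite G] {k : ℕ} (ρ : Representation ℂ G (Fin k → ℂ)) {ι : Type*}
    [Fintype ι] (g : ι → G) (v : Fin k → ℂ) (h : ∑ t, ρ (g t) v = (Fintype.card ι : ℂ) • v) (t : ι) :
    ρ (g t) v = v := by
  classical
  have := Fintype.ofFinite G
  set N : (Fin k → ℂ) → ℝ := fun u => ∑ x : G, ∑ i, Complex.normSq (ρ x u i) with hN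
  have hinv : ∀ y u, N (ρ y u) = N u := fun y u => by
    refine Fintype.sum_equiv (Equiv.mulRight y) _ _ fun x => ?_
    simp [map_mul]
  have hzero : ∀ u, N u = 0 → u = 0 := fun u hu => by
    funext i
    have h1 := (Finset.sum_eq_zero_iff_of_nonneg fun x _ => Finset.sum_nonneg fun i _ => Complex.normSq_nonneg _).1 hu 1
      (Finset.mem_univ _)
    have h2 := (Finset.sum_eq_zero_iff_of_nonneg fun i _ => Complex.normSq_nonneg _).1 h1 i (Finset.mem_univ _)
    simpa using Complex.normSq_eq_zero.1 h2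
  have key : ∀ (x : G) (i : Fin k), ∑ t, Complex.normSq (ρ x (ρ (g t) v - v) i) =
      (∑ t, Complex.normSq (ρ x (ρ (g t) v) i)) - (Fintype.card ι : ℝ) * Complex.normSq (ρ x v i) := by
    intro x i
    have e := congrArg (fun u => ρ x u i) h
    simp only [map_sum, map_smul, Finset.sum_apply, Pi.smul_apply, smul_eq_mul] at e
    simp only [map_sub, Pi.sub_apply, Complex.normSq_sub, Finset.sum_sub_distrib, Finset.sum_add_distrib,
      ← Finset.mul_sum, ← Complex.re_sum, ← Finset.sum_mul, e, Finset.sum_const, Finset.card_univ, nsmul_eq_mul]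
    have e2 : ((Fintype.card ι : ℂ) * ρ x v i * (starRingEnd ℂ) (ρ x v i)).re =
        (Fintype.card ι : ℝ) * Complex.normSq (ρ x v i) := by
      rw [mul_assoc, Complex.mul_conj]; simp
    rw [e2]
    ring
  have hsum : ∑ t, N (ρ (g t) v - v) = 0 := by
    calc ∑ t, N (ρ (g t) v - v) = ∑ x : G, ∑ i, ∑ t, Complex.normSq (ρ x (ρ (g t) v - v) i) := by
          simp only [hN]; rw [Finset.sum_comm]; exact Finset.sum_congr rfl fun x _ => Finset.sum_comm
      _ = ∑ t, N (ρ (g t) v) - (Fintype.card ι : ℝ) * N v := by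
          simp only [key, Finset.sum_sub_distrib, hN, Finset.mul_sum]
          congr 1
          rw [Finset.sum_comm (s := (Finset.univ : Finset ι))]
          exact Finset.sum_congr rfl fun x _ => Finset.sum_comm
      _ = 0 := by simp [hinv]
  have h0 := (Finset.sum_eq_zero_iff_of_nonneg fun t _ => Finset.sum_nonneg fun x _ =>
    Finset.sum_nonneg fun i _ => Complex.normSq_nonneg _).1 hsum t (Finset.mem_univ _)
  exact sub_eq_zero.1 (hzero _ h0)

/-- The simple root outside the Levi subgroup. -/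
def rA : Rt chevE6 := ⟨46, by decide⟩

/-- Its neighbour. -/
def rB : Rt chevE6 := ⟨39, by decide⟩

/-- The negative of their sum. -/
def rW : Rt chevE6 := ⟨24, by decide⟩

theorem pA : cE.p ⟨1, by decide⟩ = rA ∧ cE.p ⟨3, by decide⟩ = rB := by decide +kernel

theorem refl_facts : cE.w ⟨1, by decide⟩ rB = ⟨47, by decide⟩ ∧ cE.w ⟨3, by decide⟩ ⟨47, by decide⟩ = rA ∧
    cE.w ⟨1, by decide⟩ rA = rA.rev ∧ cE.w ⟨3, by decide⟩ rA.rev = rW ∧ cE.w ⟨1, by decide⟩ rW = rB.rev := by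
  decide +kernel

theorem neg_step : ∀ r : Rt chevE6, r.val < 36 → r ≠ rA.rev →
    (cE.w ⟨1, by decide⟩ r).val < 36 ∧ r ≠ rA ∧ rA.rev ≠ r ∧
    (chevE6.commTerms rA.rev.val r.val = [] ∨
      ∃ T : Rt chevE6, T.val < 36 ∧ T ≠ rA.rev ∧
        (chevE6.commTerms rA.rev.val r.val = [(T.val, 1, 1, 1)] ∨
          chevE6.commTerms rA.rev.val r.val = [(T.val, -1, 1, 1)])) := by
  decide +kernel

theorem simple_cases : ∀ i, cE.p i = rA ∨ pr chevE6 top (cE.p i) = 0 := by decide +kernel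

theorem b_grade : pr chevE6 top rB = 0 ∧ pr chevE6 top rB.rev = 0 := by decide +kernel

theorem shift_facts :
    cE.v rW = cE.v rB.rev - pr chevE6 rA rB.rev • cE.v rA ∧
    cE.v rB.rev = cE.v rW - pr chevE6 rA rW • cE.v rA ∧
    cE.v rW = cE.v rA.rev - pr chevE6 rB rA.rev • cE.v rB ∧
    cE.v rA.rev = cE.v rW - pr chevE6 rB rW • cE.v rB ∧
    cE.v rA = cE.v rA.rev - pr chevE6 rA rA.rev • cE.v rA ∧
    cE.v rA.rev = cE.v rA - pr chevE6 rA rA • cE.v rA := by
  decide +kernel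

theorem order_facts : rA.rev ≠ rB.rev ∧ rA.rev ≠ rB.rev.rev ∧
    (chevE6.commTerms rB.rev.val rA.rev.val = [(rW.val, 1, 1, 1)] ∨
      chevE6.commTerms rB.rev.val rA.rev.val = [(rW.val, -1, 1, 1)]) ∧
    rW ≠ rA.rev ∧ rW ≠ rA.rev.rev ∧ chevE6.commTerms rA.rev.val rW.val = [] := by
  decide +kernel

variable {F : Type*} [Field F]

/-- A Weyl element of the group. -/
noncomputable def ng (r : Rt chevE6) (u : Fˣ) : ↥(chevE6.group F) :=
  xg F r u * xg F r.rev (-(↑u⁻¹ : F)) * xg F r u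

theorem ng_val (r : Rt chevE6) (u : Fˣ) : ((ng r u : ↥(chevE6.group F)) : GL chevE6.Idx F) = cE.nR F r u := rfl

theorem ng_conj (r s s' : Rt chevE6) (h : cE.v s' = cE.v s - pr chevE6 r s • cE.v r) (u : Fˣ) :
    ∃ c : F, c ≠ 0 ∧ ∀ t, ng r u * xg F s t = xg F s' (c * t) * ng r u := by
  obtain ⟨z, hv, c, hc, hconj⟩ := nR_conj cE F r u s
  have hz : z = s' := cE.v_inj (hv.trans h.symm)
  subst hz
  exact ⟨c, hc, fun t => Subtype.ext (mul_inv_eq_iff_eq_mul.1 (hconj t))⟩

theorem ng_sq_conj (r s : Rt chevE6) (u u' : Fˣ) : ∃ c : F, c ≠ 0 ∧ ∀ t,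
    ng r u * ng r u' * xg F s t = xg F s (c * t) * (ng r u * ng r u') := by
  obtain ⟨z, hv, c, hc, hconj⟩ := nR_conj cE F r u' s
  obtain ⟨z', hv', c', hc', hconj'⟩ := nR_conj cE F r u z
  have hp : pr chevE6 r z = -pr chevE6 r s := by
    rw [pr_lin cE (show cE.v z = (1 : ℤ) • cE.v s + (-pr chevE6 r s) • cE.v r by rw [hv]; module) r, cE.pr_self]
    ring
  have hz : z' = s := cE.v_inj (by rw [hv', hp, hv]; module)
  subst hz
  refine ⟨c' * c, mul_ne_zero hc' hc, fun t => Subtype.ext ?_⟩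
  simp only [Subgroup.coe_mul, ng_val, xg]
  rw [mul_assoc (cE.nR F r u), mul_inv_eq_iff_eq_mul.1 (hconj t), ← mul_assoc (cE.nR F r u),
    mul_inv_eq_iff_eq_mul.1 (hconj' (c * t)), ← mul_assoc c', mul_assoc]

theorem xg_add (r : Rt chevE6) (s t : F) : xg F r s * xg F r t = xg F r (s + t) := Subtype.ext (cE.X_add F r s t)

theorem xg_zero (r : Rt chevE6) : xg F r (0 : F) = 1 := Subtype.ext (cE.X_zero F r)

theorem sl_identity (r : Rt chevE6) (t : Fˣ) :
    xg F r (t : F) = xg F r.rev (↑t⁻¹ : F) * ng r t * xg F r.rev (↑t⁻¹ : F) := by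
  refine Subtype.ext ?_
  obtain ⟨φ, -, hφ⟩ := cE.exists_slHom F r
  simp only [Subgroup.coe_mul, xg, ng]
  simp only [← (hφ _).1, ← (hφ _).2, ← map_mul]
  refine congrArg φ (Subtype.ext ?_)
  simp only [Matrix.SpecialLinearGroup.coe_mul, slU_val, slL_val, Matrix.mul_fin_two]
  ext i j
  fin_cases i <;> fin_cases j <;> simp <;> field_simp <;> ring

theorem P_nR_back (i : Fin chevE6.rank) (r : Rt chevE6) (u : Fˣ) :
    ∃ u' : Fˣ, (cE.P F i)⁻¹ * cE.nR F r u * cE.P F i = cE.nR F (cE.w i r) u' := by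
  refine ⟨(cE.ηU F i (cE.w i r))⁻¹ * u, ?_⟩
  have h := cE.P_nR_conj F i (cE.w i r) ((cE.ηU F i (cE.w i r))⁻¹ * u)
  rw [cE.w_w, mul_inv_cancel_left] at h
  rw [← h]; group

variable [Fintype F] {k : ℕ} (ρ : Representation ℂ ↥(chevE6.group F) (Fin k → ℂ))

/-- The vectors fixed by the negative root groups. -/
def UFix (v : Fin k → ℂ) : Prop := ∀ r : Rt chevE6, r.val < 36 → ∀ t, ρ (xg F r t) v = v

theorem rho_mul (a b : ↥(chevE6.group F)) (v : Fin k → ℂ) : ρ (a * b) v = ρ a (ρ b v) := by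
  rw [map_mul]; rfl

theorem sum_scale {c : F} (hc : c ≠ 0) (f : F → Fin k → ℂ) : ∑ t, f (c * t) = ∑ t, f t :=
  Fintype.sum_equiv (Equiv.mulLeft₀ c hc) _ _ fun _ => rfl

/-- The operator of the simple root. -/
noncomputable def opT (v : Fin k → ℂ) : Fin k → ℂ := ∑ t : F, ρ (xg F rA.rev t) (ρ (ng rA 1) v)

variable (hL : ∀ v, UFix ρ v → ∀ a t, ρ (xg F (rt30 a) t) v = v)
include hL

theorem fix_grade {v : Fin k → ℂ} (hv : UFix ρ v) {r : Rt chevE6} (hr : pr chevE6 top r = 0) (t : F) :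
    ρ (xg F r t) v = v := by
  obtain ⟨a, rfl⟩ := rt30_cases r hr
  exact hL v hv a t

theorem fix_ng {v : Fin k → ℂ} (hv : UFix ρ v) (u : Fˣ) :
    ρ (ng rB u) v = v ∧ ρ (ng rB.rev u) v = v := by
  have h1 := fix_grade ρ hL hv b_grade.1
  have h2 := fix_grade ρ hL hv b_grade.2
  have h3 : ∀ t, ρ (xg F rB.rev.rev t) v = v := by rw [cE.rev_rev]; exact h1
  refine ⟨?_, ?_⟩ <;> simp only [ng, rho_mul, h1, h2, h3]

theorem ufix_opT {v : Fin k → ℂ} (hv : UFix ρ v) : UFix ρ (opT ρ v) := by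
  intro r hr u
  rw [opT, map_sum]
  by_cases hrA : r = rA.rev
  · subst hrA
    exact Fintype.sum_equiv (Equiv.addLeft u) _ _ fun t => by
      rw [← rho_mul, xg_add]; rfl
  obtain ⟨hw, hne, hne', hterms⟩ := neg_step r hr hrA
  have hn : ∀ s : Rt chevE6, s.val < 36 → s ≠ rA.rev → ∀ z : F, ρ (xg F s z) (ρ (ng rA 1) v) = ρ (ng rA 1) v := by
    intro s hs hsA z
    have hw' := (neg_step s hs hsA).1
    have e1 : cE.v (cE.w ⟨1, by decide⟩ s) = cE.v s - pr chevE6 rA s • cE.v rA := by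
      rw [cE.v_w, ← cE.pr_p, pA.1, ← cE.v_p ⟨1, by decide⟩, pA.1]
    obtain ⟨c, hc, hcc⟩ := ng_conj (F := F) rA (cE.w ⟨1, by decide⟩ s) s
      (by
        have hA : pr chevE6 rA (cE.w ⟨1, by decide⟩ s) = -pr chevE6 rA s := by
          rw [pr_lin cE (show cE.v (cE.w ⟨1, by decide⟩ s) = (1 : ℤ) • cE.v s + (-pr chevE6 rA s) • cE.v rA by
            rw [e1]; module) rA, cE.pr_self]
          ring
        rw [hA, e1]; module) 1
    have e := hcc (c⁻¹ * z)
    rw [mul_inv_cancel_left₀ hc] at e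
    rw [← rho_mul, ← e, rho_mul, hv _ hw']
  refine Finset.sum_congr rfl fun t _ => ?_
  have hne2 : r ≠ (rA.rev).rev := by rwa [cE.rev_rev]
  rw [← rho_mul]
  rcases hterms with h | ⟨T, hT, hTA, hc⟩
  · have e := conj_comm F (a := rA.rev) (s := r) hne'.symm hne2 h (-t) u
    have e' : xg F r u * xg F rA.rev t = xg F rA.rev t * xg F r u := by
      refine Subtype.ext ?_
      simp only [Subgroup.coe_mul, xg]
      rw [mul_inv_eq_iff_eq_mul] at e
      have e2 := congrArg (fun g => cE.X F rA.rev t * g * cE.X F rA.rev t) e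
      simp only [← mul_assoc, cE.X_add, add_neg_cancel, cE.X_zero, one_mul] at e2
      rw [mul_assoc (cE.X F rA.rev t * cE.X F r u), cE.X_add, neg_add_cancel, cE.X_zero, mul_one] at e2
      exact e2
    rw [e', rho_mul, hn r hr hrA]
  · obtain ⟨c, hcT⟩ : ∃ c : ℤ, chevE6.commTerms rA.rev.val r.val = [(T.val, c, 1, 1)] := by
      rcases hc with h | h <;> exact ⟨_, h⟩
    have e := conj_term F (a := rA.rev) (s := r) hne'.symm hne2 hcT (-t) u
    have e' : xg F r u * xg F rA.rev t = xg F rA.rev t * (xg F r u * xg F T ((c : F) * (-t) * u)) := by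
      refine Subtype.ext ?_
      simp only [Subgroup.coe_mul, xg]
      rw [← e, cE.X_inv, neg_neg, ← mul_assoc, ← mul_assoc, cE.X_add, add_neg_cancel, cE.X_zero, one_mul]
    rw [e', rho_mul, rho_mul, hn T hT hTA, hn r hr hrA]

theorem ufix_sq {v : Fin k → ℂ} (hv : UFix ρ v) : UFix ρ (ρ (ng rA 1 * ng rA 1) v) := by
  intro r hr t
  obtain ⟨c, hc, h⟩ := ng_sq_conj (F := F) rA r 1 1
  have e := h (c⁻¹ * t)
  rw [mul_inv_cancel_left₀ hc] at e
  rw [← rho_mul, ← e, rho_mul, hv r hr]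

theorem opT_injective {w : Fin k → ℂ} (hw : UFix ρ w) (h0 : opT ρ w = 0) : w = 0 := by
  classical
  set w2 := ρ (ng rA 1 * ng rA 1) w with hw2
  have hfix := ufix_sq ρ hL hw
  rw [← hw2] at hfix
  have hA' : (rA.rev).val < 36 := by decide
  obtain ⟨c, hc, hcc⟩ := ng_conj (F := F) rA rA.rev rA shift_facts.2.2.2.2.1 1
  have h1 : ∑ t : F, ρ (xg F rA t) w2 = 0 := by
    have e := congrArg (ρ (ng rA 1)) h0
    rw [opT, map_sum, map_zero] at e
    rw [← sum_scale hc, ← e]
    refine Finset.sum_congr rfl fun t _ => ?_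
    simp only [hw2, ← rho_mul]
    rw [← mul_assoc (ng rA 1) (xg F rA.rev t), hcc, mul_assoc]
  have hY : ∀ t : Fˣ, ∑ u : F, ρ (xg F rA.rev u) (ρ (ng rA t) w2) = 0 := by
    intro t
    obtain ⟨d, hd, hdd⟩ := ng_sq_conj (F := F) rA rA.rev t 1
    rw [← sum_scale hd]
    calc ∑ u : F, ρ (xg F rA.rev (d * u)) (ρ (ng rA t) w2)
        = ∑ u : F, ρ (ng rA t * ng rA 1) (ρ (xg F rA.rev u) (ρ (ng rA 1) w)) := by
          refine Finset.sum_congr rfl fun u _ => ?_
          simp only [hw2, ← rho_mul]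
          rw [← mul_assoc (ng rA t * ng rA 1), hdd]
          simp only [mul_assoc]
      _ = 0 := by
          rw [← map_sum, show ∑ u : F, ρ (xg F rA.rev u) (ρ (ng rA 1) w) = opT ρ w from rfl, h0, map_zero]
  have h2 : (Fintype.card F : ℂ) • w2 = 0 := by
    have e := congrArg (fun x => ∑ u : F, ρ (xg F rA.rev u) x) h1
    simp only [map_sum, map_zero, Finset.sum_const_zero] at e
    rw [Finset.sum_comm, ← Finset.add_sum_erase Finset.univ _ (Finset.mem_univ (0 : F))] at e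
    simp only [xg_zero, map_one, Module.End.one_apply, hfix _ hA', Finset.sum_const, Finset.card_univ] at e
    rw [Finset.sum_eq_zero, add_zero, ← Nat.cast_smul_eq_nsmul ℂ] at e
    · exact e
    · intro t ht
      have ht0 := Finset.ne_of_mem_erase ht
      set tu := Units.mk0 t ht0
      rw [show t = (tu : F) from rfl, sl_identity rA tu]
      simp only [rho_mul, hfix _ hA']
      simp only [← rho_mul ρ (xg F rA.rev _) (xg F rA.rev _), xg_add]
      rw [← hY tu]
      exact Fintype.sum_equiv (Equiv.addRight (↑tu⁻¹ : F)) _ _ fun u => rfl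
  have h3 : w2 = 0 := (smul_eq_zero.1 h2).resolve_left (Nat.cast_ne_zero.2 Fintype.card_ne_zero)
  have h4 : ρ (ng rA 1 * ng rA 1)⁻¹ w2 = w := by rw [hw2, ← rho_mul, inv_mul_cancel]; simp
  rw [← h4, h3, map_zero]

theorem opB_eq {v : Fin k → ℂ} (hv : UFix ρ v) :
    ∑ t : F, ρ (xg F rB.rev t) (ρ (ng rB 1) v) = (Fintype.card F : ℂ) • v := by
  simp only [(fix_ng ρ hL hv 1).1, fix_grade ρ hL hv b_grade.2, Finset.sum_const, Finset.card_univ]
  exact (Nat.cast_smul_eq_nsmul ℂ _ _).symm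

theorem braid_vec {v : Fin k → ℂ} (hv : UFix ρ v) :
    ρ (ng rA 1 * ng rB 1 * ng rA 1) v = ρ (ng rB 1 * ng rA 1 * ng rB 1) v := by
  obtain ⟨p1, p3⟩ := pA
  obtain ⟨f1, f2, f3, f4, f5⟩ := refl_facts
  have hPA : cE.P F ⟨1, by decide⟩ = ((ng rA 1 : ↥(chevE6.group F)) : GL chevE6.Idx F) := by
    rw [Core.P, p1, ng_val]
  have hPB : cE.P F ⟨3, by decide⟩ = ((ng rB 1 : ↥(chevE6.group F)) : GL chevE6.Idx F) := by
    rw [Core.P, p3, ng_val]
  obtain ⟨ε, hε⟩ : ∃ ε : Fˣ, ng rB 1 * ng rA 1 * ng rB 1 = ng rA ε * (ng rB 1 * ng rA 1) := by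
    refine ⟨cE.ηU F ⟨3, by decide⟩ ⟨47, by decide⟩ * (cE.ηU F ⟨1, by decide⟩ rB * 1), Subtype.ext ?_⟩
    have h1 := cE.P_nR_conj F ⟨1, by decide⟩ rB 1
    have h2 := cE.P_nR_conj F ⟨3, by decide⟩ ⟨47, by decide⟩ (cE.ηU F ⟨1, by decide⟩ rB * 1)
    rw [f1, hPA, ng_val] at h1
    rw [f2, hPB, ng_val, ← h1] at h2
    simp only [Subgroup.coe_mul, ng_val, ← h2]
    group
  obtain ⟨e1, he1⟩ : ∃ e : Fˣ → Fˣ, ∀ u, (ng rA 1 * ng rB 1 * ng rA 1)⁻¹ * ng rA u * (ng rA 1 * ng rB 1 * ng rA 1) =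
      ng rB.rev (e u) := by
    suffices ∀ u : Fˣ, ∃ e, (ng rA 1 * ng rB 1 * ng rA 1)⁻¹ * ng rA u * (ng rA 1 * ng rB 1 * ng rA 1) =
      ng rB.rev e from Classical.axiomOfChoice this
    intro u
    obtain ⟨a, ha⟩ := P_nR_back (F := F) ⟨1, by decide⟩ rA u
    obtain ⟨b, hb⟩ := P_nR_back (F := F) ⟨3, by decide⟩ rA.rev a
    obtain ⟨c, hc⟩ := P_nR_back (F := F) ⟨1, by decide⟩ rW b
    rw [hPA, f3] at ha
    rw [hPB, f4, ← ha] at hb
    rw [hPA, f5, ← hb] at hc
    refine ⟨c, Subtype.ext ?_⟩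
    simp only [Subgroup.coe_mul, Subgroup.coe_inv, ng_val] at hc ⊢
    rw [← hc]; group
  set g : ↥(chevE6.group F) := ng rA 1 * ng rB 1 * ng rA 1 with hg
  have e : ng rB 1 * ng rA 1 * ng rB 1 = g * ((g⁻¹ * ng rA ε * g) * (g⁻¹ * ng rA 1 * g)⁻¹) * ng rB 1 ^ 0 := by
    rw [hε, hg]; group
  rw [e, he1, he1, pow_zero, mul_one, rho_mul ρ g, rho_mul ρ (ng rB.rev (e1 ε))]
  have hinv : ρ (ng rB.rev (e1 1))⁻¹ v = v := by
    conv_lhs => rw [← (fix_ng ρ hL hv (e1 1)).2, ← rho_mul, inv_mul_cancel]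
    simp
  rw [hinv, (fix_ng ρ hL hv (e1 ε)).2]

theorem opT_opT {v : Fin k → ℂ} (hv : UFix ρ v) : opT ρ (opT ρ v) = (Fintype.card F : ℂ) • opT ρ v := by
  classical
  have hq : (Fintype.card F : ℂ) ≠ 0 := Nat.cast_ne_zero.2 Fintype.card_ne_zero
  obtain ⟨s1, s2, s3, s4, -, -⟩ := shift_facts
  obtain ⟨ca, hca, A1⟩ := ng_conj (F := F) rA rB.rev rW s1 1
  obtain ⟨ca', hca', A2⟩ := ng_conj (F := F) rA rW rB.rev s2 1
  obtain ⟨cb, hcb, B1⟩ := ng_conj (F := F) rB rA.rev rW s3 1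
  obtain ⟨cb', hcb', B2⟩ := ng_conj (F := F) rB rW rA.rev s4 1
  let S : (Fin k → ℂ) → Fin k → ℂ := fun u => ∑ x : F, ∑ y : F, ∑ z : F,
    ρ (xg F rA.rev x) (ρ (xg F rW y) (ρ (xg F rB.rev z) u))
  set u1 := ρ (ng rA 1 * ng rB 1 * ng rA 1) v with hu1
  have hT := ufix_opT ρ hL hv
  have h1 : (Fintype.card F : ℂ) • opT ρ (opT ρ v) = S u1 := by
    calc (Fintype.card F : ℂ) • opT ρ (opT ρ v)
        = ∑ p : F, ρ (xg F rA.rev p) (ρ (ng rA 1) (∑ r : F, ρ (xg F rB.rev r) (ρ (ng rB 1) (opT ρ v)))) := by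
          rw [opB_eq ρ hL hT, opT, Finset.smul_sum]
          simp only [map_smul]
      _ = ∑ p : F, ∑ r : F, ∑ s : F,
            ρ (xg F rA.rev p) (ρ (xg F rW (ca * r)) (ρ (xg F rB.rev (ca' * (cb * s))) u1)) := by
          refine Finset.sum_congr rfl fun p _ => ?_
          simp only [opT, map_sum]
          refine Finset.sum_congr rfl fun r _ => Finset.sum_congr rfl fun s _ => ?_
          simp only [hu1, ← rho_mul]
          refine congrArg (fun g => ρ g v) (congrArg (xg F rA.rev p * ·) ?_)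
          calc ng rA 1 * (xg F rB.rev r * (ng rB 1 * (xg F rA.rev s * ng rA 1)))
              = (ng rA 1 * xg F rB.rev r) * (ng rB 1 * xg F rA.rev s) * ng rA 1 := by group
            _ = xg F rW (ca * r) * (ng rA 1 * xg F rW (cb * s)) * ng rB 1 * ng rA 1 := by rw [A1, B1]; group
            _ = _ := by rw [A2]; group
      _ = S u1 := by
          refine Finset.sum_congr rfl fun p _ => ?_
          rw [sum_scale hca fun y => ∑ s : F, ρ (xg F rA.rev p) (ρ (xg F rW y) (ρ (xg F rB.rev (ca' * (cb * s))) u1))]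
          refine Finset.sum_congr rfl fun r _ => ?_
          rw [sum_scale hcb fun z => ρ (xg F rA.rev p) (ρ (xg F rW r) (ρ (xg F rB.rev (ca' * z)) u1)),
            sum_scale hca' fun z => ρ (xg F rA.rev p) (ρ (xg F rW r) (ρ (xg F rB.rev z) u1))]
  obtain ⟨o1, o2, o3, o4, o5, o6⟩ := order_facts
  obtain ⟨e, he⟩ : ∃ e : ℤ, chevE6.commTerms rB.rev.val rA.rev.val = [(rW.val, e, 1, 1)] := by
    rcases o3 with h | h <;> exact ⟨_, h⟩
  have hswap : ∀ p y s : F, xg F rB.rev p * (xg F rW y * xg F rA.rev s) =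
      xg F rA.rev s * (xg F rW ((e : F) * p * s + y) * xg F rB.rev p) := by
    intro p y s
    have hWB : cE.X F rB.rev p * cE.X F rW y = cE.X F rW y * cE.X F rB.rev p := by
      have h : rW ≠ rB.rev ∧ rW ≠ rB.rev.rev ∧ chevE6.commTerms rB.rev.val rW.val = [] := by decide +kernel
      exact mul_inv_eq_iff_eq_mul.1 (conj_comm F h.1 h.2.1 h.2.2 p y)
    have hBA := mul_inv_eq_iff_eq_mul.1 (conj_term F o1 o2 he p s)
    have hAW := mul_inv_eq_iff_eq_mul.1 (conj_comm F o4 o5 o6 s y)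
    refine Subtype.ext ?_
    simp only [Subgroup.coe_mul, xg]
    calc cE.X F rB.rev p * (cE.X F rW y * cE.X F rA.rev s)
        = (cE.X F rB.rev p * cE.X F rA.rev s) * cE.X F rW y := by rw [← hAW]; simp only [mul_assoc]
      _ = cE.X F rA.rev s * cE.X F rW ((e : F) * p * s) * (cE.X F rW y * cE.X F rB.rev p) := by
          rw [hBA, ← hWB]; simp only [mul_assoc]
      _ = _ := by rw [← cE.X_add]; simp only [mul_assoc]
  have h2 : ((Fintype.card F : ℂ) * Fintype.card F) • opT ρ v = S u1 := by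
    calc ((Fintype.card F : ℂ) * Fintype.card F) • opT ρ v
        = ∑ p : F, ρ (xg F rB.rev p) (ρ (ng rB 1) (∑ r : F, ρ (xg F rA.rev r) (ρ (ng rA 1)
            (∑ s : F, ρ (xg F rB.rev s) (ρ (ng rB 1) v))))) := by
          rw [opB_eq ρ hL hv]
          simp only [map_smul, ← Finset.smul_sum]
          rw [show ∑ p : F, ρ (xg F rB.rev p) (ρ (ng rB 1) (∑ r : F, ρ (xg F rA.rev r) (ρ (ng rA 1) v))) =
            (Fintype.card F : ℂ) • opT ρ v from opB_eq ρ hL hT, smul_smul]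
      _ = ∑ p : F, ∑ r : F, ∑ s : F,
            ρ (xg F rA.rev (cb' * (ca * s))) (ρ (xg F rW ((e : F) * p * (cb' * (ca * s)) + cb * r))
              (ρ (xg F rB.rev p) u1)) := by
          simp only [map_sum]
          refine Finset.sum_congr rfl fun p _ => Finset.sum_congr rfl fun r _ => Finset.sum_congr rfl fun s _ => ?_
          simp only [hu1, braid_vec ρ hL hv, ← rho_mul]
          refine congrArg (fun g => ρ g v) ?_
          calc xg F rB.rev p * (ng rB 1 * (xg F rA.rev r * (ng rA 1 * (xg F rB.rev s * ng rB 1))))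
              = xg F rB.rev p * ((ng rB 1 * xg F rA.rev r) * ((ng rA 1 * xg F rB.rev s) * ng rB 1)) := by group
            _ = xg F rB.rev p * (xg F rW (cb * r) * ((ng rB 1 * xg F rW (ca * s)) * (ng rA 1 * ng rB 1))) := by
                rw [B1, A1]; group
            _ = (xg F rB.rev p * (xg F rW (cb * r) * xg F rA.rev (cb' * (ca * s)))) *
                  (ng rB 1 * ng rA 1 * ng rB 1) := by rw [B2]; group
            _ = _ := by rw [hswap]; group
      _ = S u1 := by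
          have inner : ∀ p : F, (∑ r : F, ∑ s : F,
              ρ (xg F rA.rev (cb' * (ca * s))) (ρ (xg F rW ((e : F) * p * (cb' * (ca * s)) + cb * r))
                (ρ (xg F rB.rev p) u1))) =
              ∑ x : F, ∑ y : F, ρ (xg F rA.rev x) (ρ (xg F rW y) (ρ (xg F rB.rev p) u1)) := by
            intro p
            rw [Finset.sum_comm,
              sum_scale hca fun x => ∑ r : F,
                ρ (xg F rA.rev (cb' * x)) (ρ (xg F rW ((e : F) * p * (cb' * x) + cb * r)) (ρ (xg F rB.rev p) u1)),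
              sum_scale hcb' fun x => ∑ r : F,
                ρ (xg F rA.rev x) (ρ (xg F rW ((e : F) * p * x + cb * r)) (ρ (xg F rB.rev p) u1))]
            refine Finset.sum_congr rfl fun x _ => ?_
            rw [sum_scale hcb fun r => ρ (xg F rA.rev x) (ρ (xg F rW ((e : F) * p * x + r)) (ρ (xg F rB.rev p) u1))]
            exact Fintype.sum_equiv (Equiv.addLeft ((e : F) * p * x)) _ _ fun r => rfl
          simp only [inner, S]
          rw [Finset.sum_comm]
          exact Finset.sum_congr rfl fun x _ => Finset.sum_comm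
  refine smul_right_injective _ hq ?_
  simp only [h1, smul_smul, h2]

/-- Such vectors are fixed by the group. -/
theorem fixed_all {v : Fin k → ℂ} (hv : UFix ρ v) (g : ↥(chevE6.group F)) : ρ g v = v := by
  classical
  have hT : opT ρ v = (Fintype.card F : ℂ) • v := by
    refine sub_eq_zero.1 (opT_injective ρ hL (fun r hr t => ?_) ?_)
    · rw [map_sub, map_smul, ufix_opT ρ hL hv r hr, hv r hr]
    · have h := opT_opT ρ hL hv
      simp only [opT] at h ⊢
      simp only [map_sub, map_smul, Finset.sum_sub_distrib, ← Finset.smul_sum]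
      rw [h, sub_self]
  have hn : ρ (ng rA 1) v = v := by
    have := eq_of_mean ρ (fun t : F => xg F rA.rev t * ng rA 1) v (by simp only [rho_mul]; exact hT) 0
    simpa [xg_zero] using this
  have hA' : (rA.rev).val < 36 := by decide
  obtain ⟨c, hc, hcc⟩ := ng_conj (F := F) rA rA.rev rA shift_facts.2.2.2.2.1 1
  have hXA : ∀ t, ρ (xg F rA t) v = v := fun t => by
    have e := congrArg (fun g => ρ g v) (hcc (c⁻¹ * t))
    simp only [rho_mul, mul_inv_cancel_left₀ hc, hn, hv _ hA'] at e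
    exact e.symm
  let St : Subgroup ↥(chevE6.group F) :=
    { carrier := {g | ρ g v = v}
      one_mem' := by simp
      mul_mem' := fun {a b} (ha : ρ a v = v) (hb : ρ b v = v) => by
        show ρ (a * b) v = v; rw [rho_mul, hb, ha]
      inv_mem' := fun {a} (ha : ρ a v = v) => by
        show ρ a⁻¹ v = v; conv_lhs => rw [← ha, ← rho_mul, inv_mul_cancel]
        simp }
  have hsimple : ∀ i t, xg F (cE.p i) t ∈ St := fun i t => by
    rcases simple_cases i with e | e
    · rw [e]; exact hXA t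
    · exact fix_grade ρ hL hv e t
  have hsneg : ∀ i t, xg F (cE.p i).rev t ∈ St := fun i t => by
    refine hv _ ?_ t
    have : ∀ i, ((cE.p i).rev).val < 36 := by decide +kernel
    exact this i
  have key : ∀ r : Rt chevE6, ∀ t : F, xg F r t ∈ St := by
    refine cE.ind (fun r => ∀ t : F, xg F r t ∈ St) hsimple fun i r ih t => ?_
    have hn : ng (cE.p i) (1 : Fˣ) ∈ St :=
      mul_mem (mul_mem (hsimple i _) (hsneg i _)) (hsimple i _)
    have e : xg F (cE.w i r) t = ng (cE.p i) 1 * xg F r ((cE.η i r : F) * t) * (ng (cE.p i) 1)⁻¹ := by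
      refine Subtype.ext ?_
      have := cE.P_X_conj F i r ((cE.η i r : F) * t)
      rw [← mul_assoc, ← Int.cast_mul, cE.η_mul_self, Int.cast_one, one_mul] at this
      simp only [Subgroup.coe_mul, Subgroup.coe_inv, ng_val]
      exact this.symm
    rw [e]
    exact mul_mem (mul_mem hn (ih _)) (inv_mem hn)
  have hle : chevE6.group F ≤ St.map (chevE6.group F).subtype := by
    refine (Subgroup.closure_le _).2 ?_
    rintro x ⟨r, t, hx⟩
    have e : x = cE.X F r t := cE.eq_X (by rw [hx, ChevalleyDatum.x, dif_pos r.isLt])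
    exact ⟨xg F r t, key r t, e.symm⟩
  obtain ⟨g', hg', e⟩ := hle g.2
  have hgg : g' = g := Subtype.ext e
  exact hgg ▸ hg'

end Cfsg.Agent.Lib.E6Deg29
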