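import Cfsg.Agent.Lib.E6Deg29.Tables2

/-!
The fixed field of an involution, and the twenty coordinates of the vectors symmetric under the graph symmetry.
-/

set_option autoImplicit false
set_option linter.unusedSectionVars false

namespace Cfsg.Agent.Lib.E6Deg29.Tw

variable {K : Type*} [Field K]

/-- The fixed field. -/
abbrev Fx (φ : K ≃+* K) : Subfield K := RingHom.eqLocusField (φ : K →+* K) (RingHom.id K)

variable {φ : K ≃+* K}

theorem fx_val (s : Fx φ) : φ (s : K) = s := s.2

theorem mem_fx {x : K} : x ∈ Fx φ ↔ φ x = x := Iff.rfl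

theorem φ_sg (b : Bool) : φ (sg b : K) = sg b := by cases b <;> simp [sg]

theorem sg_beq (a b : Bool) : (sg (a == b) : K) = sg a * sg b := by cases a <;> cases b <;> simp [sg]

theorem sg_true : (sg true : K) = 1 := by simp [sg]

/-- The projection to the fixed field. -/
noncomputable def prj (φ : K ≃+* K) (z : K) : Fx φ :=
  haveI := Classical.dec (φ z = z)
  if h : φ z = z then ⟨z, h⟩ else 0

theorem prj_val (s : Fx φ) : prj φ (s : K) = s := by
  unfold prj; rw [dif_pos (fx_val s)]

/-- The symmetric vectors. -/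
def Sym (φ : K ≃+* K) (Y : Fin 20 → K) : Prop := ∀ i, Y (p20 i) = sg (e20 i) * φ (Y i)

/-- The vector with given coordinates. -/
def emb (φ : K ≃+* K) (ω : K) (y : Fin 20 → Fx φ) : Fin 20 → K := fun i =>
  if p20 i = i then (y i : K)
  else if i < p20 i then (y i : K) + ω * y (p20 i) else sg (e20 i) * φ ((y (p20 i) : K) + ω * y i)

variable (h2 : ∀ x : K, φ (φ x) = x)
include h2

theorem Sym.fixed {Y : Fin 20 → K} (h : Sym φ Y) {i : Fin 20} (hi : p20 i = i) : φ (Y i) = Y i := by
  have := h i
  rw [hi, (p20_inv i).2.2 hi, sg_true, one_mul] at this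
  exact this.symm

theorem emb_sym (ω : K) (y : Fin 20 → Fx φ) : Sym φ (emb φ ω y) := by
  intro i
  obtain ⟨hii, hee, hfx⟩ := p20_inv i
  by_cases hi : p20 i = i
  · have h1 : emb φ ω y i = (y i : K) := by simp [emb, hi]
    rw [hi, hfx hi, sg_true, one_mul, h1, fx_val]
  · have hne : ¬p20 (p20 i) = p20 i := fun h => hi (by rw [hii] at h; exact h.symm)
    rcases lt_trichotomy i (p20 i) with hlt | heq | hgt
    · simp only [emb, if_neg hi, hii, if_pos hlt, if_neg hlt.ne, if_neg (not_lt.2 hlt.le), hee]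
    · exact absurd heq.symm hi
    · simp only [emb, if_neg hi, hii, if_pos hgt, if_neg hgt.ne', if_neg (not_lt.2 hgt.le), map_mul, φ_sg, h2, hee]
      rw [← mul_assoc, sg_mul_self, one_mul]

variable {ω : K} (hω : φ ω ≠ ω)
include hω

theorem pair_inj {a b a' b' : Fx φ} (h : (a : K) + ω * b = (a' : K) + ω * b') : a = a' ∧ b = b' := by
  have hb : b = b' := by
    by_contra hne
    have hd : ((b : K) - b') ≠ 0 := sub_ne_zero.2 fun e => hne (Subtype.ext e)
    refine hω ?_
    have hw : ω = ((a' : K) - a) / ((b : K) - b') := by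
      rw [eq_div_iff hd]; linear_combination h
    rw [hw, map_div₀, map_sub, map_sub, fx_val, fx_val, fx_val, fx_val]
  subst hb
  exact ⟨Subtype.ext (by linear_combination h), rfl⟩

theorem emb_injective : Function.Injective (emb φ ω) := by
  intro y y' h
  have hrep : ∀ i, i < p20 i → y i = y' i ∧ y (p20 i) = y' (p20 i) := by
    intro i hlt
    have := congrFun h i
    simp only [emb, if_neg hlt.ne', if_pos hlt] at this
    exact pair_inj h2 hω this
  funext i
  rcases lt_trichotomy i (p20 i) with hlt | heq | hgt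
  · exact (hrep i hlt).1
  · have := congrFun h i
    simp only [emb, if_pos heq.symm] at this
    exact Subtype.ext this
  · have := (hrep (p20 i) (by rwa [(p20_inv i).1])).2
    rwa [(p20_inv i).1] at this

theorem exists_pair (z : K) : ∃ a b : Fx φ, z = (a : K) + ω * b := by
  have hd : φ ω - ω ≠ 0 := sub_ne_zero.2 hω
  have hb : φ ((φ z - z) / (φ ω - ω)) = (φ z - z) / (φ ω - ω) := by
    rw [map_div₀, map_sub, map_sub, h2, h2, ← neg_sub (φ z) z, ← neg_sub (φ ω) ω, neg_div_neg_eq]
  have ha : φ (z - ω * ((φ z - z) / (φ ω - ω))) = z - ω * ((φ z - z) / (φ ω - ω)) := by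
    rw [map_sub, map_mul, hb]
    field_simp
    ring
  exact ⟨⟨_, ha⟩, ⟨_, hb⟩, by simp⟩

theorem emb_surjective {Y : Fin 20 → K} (hY : Sym φ Y) : ∃ y, emb φ ω y = Y := by
  choose a b hab using exists_pair h2 hω
  let y : Fin 20 → Fx φ := fun i => if p20 i = i then prj φ (Y i) else if i < p20 i then a (Y i) else b (Y (p20 i))
  refine ⟨y, funext fun i => ?_⟩
  obtain ⟨hii, hee, -⟩ := p20_inv i
  rcases lt_trichotomy i (p20 i) with hlt | heq | hgt
  · have hne : ¬p20 (p20 i) = p20 i := by rw [hii]; exact hlt.ne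
    simp only [emb, y, if_neg hlt.ne', if_pos hlt, if_neg hne, hii, if_neg (not_lt.2 hlt.le)]
    exact (hab _).symm
  · have hf := Sym.fixed h2 hY heq.symm
    simp only [emb, y, if_pos heq.symm]
    rw [prj, dif_pos hf]
  · have hne : ¬p20 (p20 i) = p20 i := by rw [hii]; exact hgt.ne'
    simp only [emb, y, if_neg hgt.ne, if_neg (not_lt.2 hgt.le), if_neg hne, hii, if_pos hgt]
    rw [← hab]
    have := hY (p20 i)
    rw [hii, hee] at this
    exact this.symm

theorem exists_tr : ∃ ξ : K, ξ + φ ξ ≠ 0 := by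
  by_cases h : (1 : K) + φ 1 = 0
  · refine ⟨ω, fun h' => hω ?_⟩
    rw [map_one] at h
    have h11 : (-1 : K) = 1 := by linear_combination -h
    calc φ ω = -ω := by linear_combination h'
      _ = ω := by rw [← neg_one_mul, h11, one_mul]
  · exact ⟨1, h⟩

end Cfsg.Agent.Lib.E6Deg29.Tw
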