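import Cfsg.Agent.Lib.E6Deg29.Datum
import Cfsg.Agent.Lib.E6Deg29.Fields
import Cfsg.Agent.Lib.LieTwisted.Twist.E6

/-!
The fixed points of a twisting in the radical of the parabolic of the highest root as a Heisenberg subgroup
over the fixed field, and the transformations of its dual.
-/

set_option autoImplicit false
set_option linter.unusedSectionVars false
set_option maxRecDepth 100000

namespace Cfsg.Agent.Lib.E6Deg29.Tw

open Cfsg.Lie Cfsg.Agent.Lib.ChevStructure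
open Cfsg.Agent.Lib.ChevStructure.Core (hD)
open Cfsg.Agent.Lib.LieTwisted
open scoped MatrixGroups Matrix

/-- The permutation of the roots. -/
abbrev πR : Equiv.Perm (Rt chevE6) := Twist.Frob.rootPerm Twist.E6.g

/-- The signs of the roots. -/
abbrev εR (r : Rt chevE6) : ℤ := GraphData.symE6.ε r

theorem wt_sym : ∀ i, πR (wt20 i) = wt20 (p20 i) ∧ εR (wt20 i) = sgZ (e20 i) := by decide +kernel

theorem rt_sym : ∀ a, πR (rt30 a) = rt30 (p30 a) ∧ εR (rt30 a) = sgZ (e30 a) := by decide +kernel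

/-- A root fixed with trivial signs. -/
def FixRt (r : Rt chevE6) : Prop := πR r = r ∧ εR r = 1 ∧ πR r.rev = r.rev ∧ εR r.rev = 1

instance (r : Rt chevE6) : Decidable (FixRt r) := by unfold FixRt; infer_instance

theorem fix_low : FixRt low := by decide +kernel

theorem fix_zero : FixRt (wt20 0) := by decide +kernel

theorem fix_refl : FixRt (refl20 19) := by decide +kernel

theorem rt_pair_comm : ∀ a, p30 a ≠ a → rt30 a ≠ rt30 (p30 a) ∧ rt30 a ≠ (rt30 (p30 a)).rev ∧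
    chevE6.commTerms (rt30 (p30 a)).val (rt30 a).val = [] := by
  decide +kernel

/-- A twisting of E₆ and its group of fixed points. -/
structure Tws (K : Type*) [Field K] where
  /-- the field involution -/
  φ : K ≃+* K
  h2 : ∀ x, φ (φ x) = x
  /-- a moved element -/
  ω : K
  hω : φ ω ≠ ω
  /-- the automorphism -/
  Θ : GL chevE6.Idx K ≃* GL chevE6.Idx K
  hΘ : ∀ r t, Θ (cE.X K r t) = cE.X K (πR r) ((εR r : K) * φ t)
  /-- the group -/
  G1 : Subgroup (GL chevE6.Idx K)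
  mem_G1 : ∀ g, g ∈ G1 ↔ g ∈ chevE6.group K ∧ Θ g = g

variable {K : Type*} [Field K]

/-- The symmetry of the vectors. -/
def tau (φ : K ≃+* K) (Z : Fin 20 → K) : Fin 20 → K := fun i => sg (e20 i) * φ (Z (p20 i))

/-- The involution as an equivalence. -/
def p20E : Fin 20 ≃ Fin 20 := ⟨p20, p20, fun i => (p20_inv i).1, fun i => (p20_inv i).1⟩

theorem dot_tau (φ : K ≃+* K) (Z κ : Fin 20 → K) : φ (dot Z κ) = dot (tau φ Z) (tau φ κ) := by
  rw [dot, map_sum, dot]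
  refine Fintype.sum_equiv p20E _ _ fun i => ?_
  show φ (Z i * κ i) = sg (e20 (p20 i)) * φ (Z (p20 (p20 i))) * (sg (e20 (p20 i)) * φ (κ (p20 (p20 i))))
  rw [(p20_inv i).1, map_mul]
  linear_combination (-(φ (Z i) * φ (κ i))) * sg_mul_self (F := K) (e20 (p20 i))

theorem dot_add_left (a b κ : Fin 20 → K) : dot (a + b) κ = dot a κ + dot b κ := by
  simp [dot, add_mul, Finset.sum_add_distrib]

theorem dot_smul_left (c : K) (a κ : Fin 20 → K) : dot (c • a) κ = c * dot a κ := by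
  simp [dot, Finset.mul_sum, mul_assoc]

theorem tau_smul (φ : K ≃+* K) (c : K) (Z : Fin 20 → K) : tau φ (c • Z) = φ c • tau φ Z := by
  funext i; simp [tau]; ring

variable {φ : K ≃+* K} (h2 : ∀ x : K, φ (φ x) = x)
include h2

theorem tau_tau (Z : Fin 20 → K) : tau φ (tau φ Z) = Z := by
  funext i
  simp only [tau, map_mul, φ_sg, h2, (p20_inv i).1, (p20_inv i).2.1]
  rw [← mul_assoc, sg_mul_self, one_mul]

theorem sym_iff (Y : Fin 20 → K) : Sym φ Y ↔ tau φ Y = Y := by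
  constructor
  · intro h
    funext i
    simp only [tau, h i, map_mul, φ_sg, h2]
    rw [← mul_assoc, sg_mul_self, one_mul]
  · intro h i
    conv_lhs => rw [← h]
    simp only [tau, (p20_inv i).1, (p20_inv i).2.1]

theorem sym_add_tau (Z : Fin 20 → K) : Sym φ (Z + tau φ Z) := by
  rw [sym_iff h2]
  funext i
  simp only [tau, Pi.add_apply, map_add, map_mul, φ_sg, h2, (p20_inv i).1, (p20_inv i).2.1]
  linear_combination (Z i) * sg_mul_self (F := K) (e20 i)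

theorem dot_sym_fixed {Y κ : Fin 20 → K} (hY : Sym φ Y) (hκ : Sym φ κ) : φ (dot Y κ) = dot Y κ := by
  rw [dot_tau, (sym_iff h2 Y).1 hY, (sym_iff h2 κ).1 hκ]

omit h2

theorem emb_add (ω : K) (y y' : Fin 20 → Fx φ) : emb φ ω (y + y') = emb φ ω y + emb φ ω y' := by
  funext i
  simp only [emb, Pi.add_apply, AddMemClass.coe_add]
  split_ifs
  · rfl
  · ring
  · simp only [map_add, map_mul]; ring

theorem emb_smul (ω : K) (c : Fx φ) (y : Fin 20 → Fx φ) : emb φ ω (c • y) = (c : K) • emb φ ω y := by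
  funext i
  simp only [emb, Pi.smul_apply, smul_eq_mul, MulMemClass.coe_mul]
  split_ifs
  · rfl
  · ring
  · simp only [map_add, map_mul, fx_val]; ring

theorem emb_zero (ω : K) : emb φ ω (0 : Fin 20 → Fx φ) = 0 := by
  funext i; simp [emb]

theorem emb_fixed (ω : K) (y : Fin 20 → Fx φ) {i : Fin 20} (hi : p20 i = i) : emb φ ω y i = (y i : K) := by
  simp [emb, hi]

include h2 in
theorem prj_add {a b : K} (ha : φ a = a) (hb : φ b = b) : prj φ (a + b) = prj φ a + prj φ b := by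
  apply Subtype.ext
  simp [prj, ha, hb, map_add]

namespace Tws

variable (T : Tws K)

theorem exists_one : ∃ ξ : K, ξ + T.φ ξ = 1 := by
  obtain ⟨ξ, hξ⟩ := exists_tr T.h2 T.hω
  exact ⟨ξ / (ξ + T.φ ξ), by rw [map_div₀, map_add, T.h2, add_comm (T.φ ξ) ξ, ← add_div, div_self hξ]⟩

theorem Θ_fixX {r : Rt chevE6} (hr : FixRt r) {t : K} (ht : T.φ t = t) : T.Θ (cE.X K r t) = cE.X K r t := by
  rw [T.hΘ, hr.1, hr.2.1, ht, Int.cast_one, one_mul]

theorem Θ_low (t : K) : T.Θ (cE.X K low t) = cE.X K low (T.φ t) := by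
  rw [T.hΘ, fix_low.1, fix_low.2.1, Int.cast_one, one_mul]

theorem Θ_wt (i : Fin 20) (t : K) : T.Θ (cE.X K (wt20 i) t) = cE.X K (wt20 (p20 i)) (sg (e20 i) * T.φ t) := by
  rw [T.hΘ, (wt_sym i).1, (wt_sym i).2, sgZ_cast]

theorem Θ_rt (a : Fin 30) (t : K) : T.Θ (cE.X K (rt30 a) t) = cE.X K (rt30 (p30 a)) (sg (e30 a) * T.φ t) := by
  rw [T.hΘ, (rt_sym a).1, (rt_sym a).2, sgZ_cast]

theorem Θ_nR {r : Rt chevE6} (hr : FixRt r) {u : Kˣ} (hu : T.φ (u : K) = u) :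
    T.Θ (cE.nR K r u) = cE.nR K r u := by
  have hr' : FixRt r.rev := ⟨hr.2.2.1, hr.2.2.2, by rw [cE.rev_rev]; exact hr.1, by rw [cE.rev_rev]; exact hr.2.1⟩
  rw [Core.nR, map_mul, map_mul, T.Θ_fixX hr hu,
    T.Θ_fixX hr' (show T.φ (-((u⁻¹ : Kˣ) : K)) = _ by rw [map_neg, Units.val_inv_eq_inv_val, map_inv₀, hu])]

theorem nR_mem {r : Rt chevE6} (hr : FixRt r) {u : Kˣ} (hu : T.φ (u : K) = u) : cE.nR K r u ∈ T.G1 :=
  (T.mem_G1 _).2 ⟨cE.nR_mem_group r u, T.Θ_nR hr hu⟩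

theorem hD_mem1 {r : Rt chevE6} (hr : FixRt r) {u : Kˣ} (hu : T.φ (u : K) = u) : hD K r u ∈ T.G1 := by
  rw [← cE.hR_eq K r u]
  exact mul_mem (T.nR_mem hr hu) (T.nR_mem hr (by simp))

/-- The orbit element of a root of the Levi subgroup. -/
noncomputable def lev (a : Fin 30) (x : K) : GL chevE6.Idx K :=
  if p30 a = a then cE.X K (rt30 a) x else cE.X K (rt30 a) x * cE.X K (rt30 (p30 a)) (sg (e30 a) * T.φ x)

theorem lev_mem {a : Fin 30} {x : K} (hx : p30 a = a → T.φ x = x) : T.lev a x ∈ T.G1 := by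
  rw [T.mem_G1, lev]
  split_ifs with h
  · refine ⟨cE.X_mem_group _ _, ?_⟩
    rw [T.Θ_rt, h, (p30_inv a).2 h, hx h, sg_true, one_mul]
  · refine ⟨mul_mem (cE.X_mem_group _ _) (cE.X_mem_group _ _), ?_⟩
    obtain ⟨h1, h2, h3⟩ := rt_pair_comm a h
    rw [map_mul, T.Θ_rt, T.Θ_rt, (p30_inv a).1, map_mul, φ_sg, T.h2]
    have e : (sg (e30 (p30 a)) : K) * (sg (e30 a) * x) = x := by
      have he : ∀ a, e30 (p30 a) = e30 a := by decide +kernel
      rw [he, ← mul_assoc, sg_mul_self, one_mul]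
    rw [e]
    exact mul_inv_eq_iff_eq_mul.1 (conj_comm K h1 h2 h3 _ _)

theorem Θ_rad {v : GL chevE6.Idx K} (hv : v ∈ radM K) :
    T.Θ v ∈ radM K ∧ kapv (T.Θ v) = tau T.φ (kapv v) := by
  refine rad_induction (fun v => T.Θ v ∈ radM K ∧ kapv (T.Θ v) = tau T.φ (kapv v)) (fun t => ?_)
    (fun j t => ?_) ?_ ?_ ?_ hv
  · rw [T.Θ_low]
    refine ⟨X_rad low_le _, ?_⟩
    rw [kapv_low, kapv_low]; funext i; simp [tau]
  · rw [T.Θ_wt]
    refine ⟨X_rad (wt20_le _) _, ?_⟩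
    rw [kapv_wt, kapv_wt]
    funext i
    simp only [tau]
    by_cases h : i = p20 j
    · subst h; rw [(p20_inv j).1, Pi.single_eq_same, Pi.single_eq_same, (p20_inv j).2.1]
    · rw [Pi.single_eq_of_ne h, Pi.single_eq_of_ne (fun e => h (by rw [← e, (p20_inv i).1])), map_zero, mul_zero]
  · rw [map_one]
    exact ⟨one_mem _, by rw [kapv_one]; funext i; simp [tau]⟩
  · intro p r hp hr ⟨ihp, ihp'⟩ ⟨ihr, ihr'⟩
    rw [map_mul]
    refine ⟨mul_mem ihp ihr, ?_⟩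
    rw [kapv_mul ihp ihr, ihp', ihr', kapv_mul hp hr]
    funext i; simp [tau, mul_add]
  · intro p hp ⟨ihp, ihp'⟩
    rw [map_inv]
    refine ⟨inv_mem ihp, ?_⟩
    rw [kapv_inv ihp, ihp', kapv_inv hp]
    funext i; simp [tau]

theorem ker_low {v : GL chevE6.Idx K} [Finite K] (hv : v ∈ radM K) (h0 : kapv v = 0) : ∃ t, v = cE.X K low t := by
  obtain ⟨t, ht⟩ := ((heis K).κ_ker ⟨⟨v, radM_le K hv⟩, hv⟩).1 h0
  exact ⟨Multiplicative.toAdd t, congrArg (fun z : ↥(rad K) => ((z : ↥(chevE6.group K)) : GL chevE6.Idx K)) ht⟩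

variable [Finite K]

/-- A fixed element from any element of the radical. -/
theorem exists_lift {g : GL chevE6.Idx K} (hg : g ∈ radM K) :
    ∃ s, g * T.Θ g * cE.X K low s ∈ T.G1 := by
  obtain ⟨hΘg, hκ⟩ := T.Θ_rad hg
  have hm1 : T.Θ g * g ∈ radM K := mul_mem hΘg hg
  have hm2 : g * T.Θ g ∈ radM K := mul_mem hg hΘg
  obtain ⟨d, hd⟩ := ker_low (v := T.Θ g * g * (g * T.Θ g)⁻¹) (mul_mem hm1 (inv_mem hm2)) (by
    rw [kapv_mul hm1 (inv_mem hm2), kapv_inv hm2, kapv_mul hΘg hg, kapv_mul hg hΘg]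
    abel)
  rw [mul_inv_eq_iff_eq_mul] at hd
  have hΘΘ : T.Θ (T.Θ g) = g := by
    have key : ∀ v ∈ radM K, T.Θ (T.Θ v) = v := by
      intro v hv
      refine rad_induction (fun v => T.Θ (T.Θ v) = v) (fun t => ?_) (fun j t => ?_) ?_ ?_ ?_ hv
      · rw [T.Θ_low, T.Θ_low, T.h2]
      · rw [T.Θ_wt, T.Θ_wt, (p20_inv j).1, (p20_inv j).2.1, map_mul, φ_sg, T.h2, ← mul_assoc, sg_mul_self, one_mul]
      · simp
      · intro x y _ _ hx hy; rw [map_mul, map_mul, hx, hy]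
      · intro x _ hx; rw [map_inv, map_inv, hx]
    exact key g hg
  have hφd : T.φ d = -d := by
    have h := congrArg T.Θ hd
    rw [map_mul, map_mul, map_mul, hΘΘ, T.Θ_low, hd, ← mul_assoc, cE.X_add] at h
    have h1 : cE.X K low (T.φ d + d) = 1 := mul_right_cancel (b := g * T.Θ g) (by rw [← h, one_mul])
    exact eq_neg_of_add_eq_zero_left (cE.X_eq_one h1)
  obtain ⟨ξ, hξ⟩ := T.exists_one
  refine ⟨ξ * d, (T.mem_G1 _).2 ⟨mul_mem (mul_mem (radM_le K hg) (radM_le K hΘg)) (cE.X_mem_group _ _), ?_⟩⟩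
  rw [map_mul, map_mul, hΘΘ, T.Θ_low, hd, low_central hm2, mul_assoc, cE.X_add, map_mul, hφd]
  congr 2
  linear_combination (-d) * hξ

/-- The fixed points of the radical. -/
noncomputable def Q1 : Subgroup ↥T.G1 := (radM K).subgroupOf T.G1

theorem mem_Q1 {h : ↥T.G1} : h ∈ T.Q1 ↔ (h : GL chevE6.Idx K) ∈ radM K := Iff.rfl

theorem rad_val (h : ↥T.Q1) : ((h : ↥T.G1) : GL chevE6.Idx K) ∈ radM K := h.2

/-- The coordinate vector. -/
noncomputable def κK (h : ↥T.Q1) : Fin 20 → K := kapv ((h : ↥T.G1) : GL chevE6.Idx K)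

theorem κK_sym (h : ↥T.Q1) : Sym T.φ (T.κK h) := by
  rw [sym_iff T.h2]
  have := (T.Θ_rad (T.rad_val h)).2
  rw [((T.mem_G1 _).1 (h : ↥T.G1).2).2] at this
  exact this.symm

theorem exists_κK {Y : Fin 20 → K} (hY : Sym T.φ Y) : ∃ h : ↥T.Q1, T.κK h = Y := by
  obtain ⟨ξ, hξ⟩ := T.exists_one
  obtain ⟨g, hg, hgY⟩ := exists_coord (ξ • Y)
  obtain ⟨s, hs⟩ := T.exists_lift hg
  obtain ⟨hΘg, hκ⟩ := T.Θ_rad hg
  have hm := mul_mem (mul_mem hg hΘg) (X_rad low_le s)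
  refine ⟨⟨⟨_, hs⟩, hm⟩, ?_⟩
  show kapv (g * T.Θ g * cE.X K low s) = Y
  rw [kapv_mul (mul_mem hg hΘg) (X_rad low_le s), kapv_mul hg hΘg, kapv_low, add_zero, hκ, hgY, tau_smul,
    (sym_iff T.h2 Y).1 hY, ← add_smul, hξ, one_smul]

theorem dot_fixed {Y : Fin 20 → K} (hY : Sym T.φ Y) (h : ↥T.Q1) : T.φ (dot Y (T.κK h)) = dot Y (T.κK h) :=
  dot_sym_fixed T.h2 hY (T.κK_sym h)

theorem eq_zero_of_dot {D : Fin 20 → K} (h : ∀ κ, Sym T.φ κ → dot D κ = 0) : D = 0 := by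
  classical
  funext i
  have h1 := h _ (sym_add_tau T.h2 (Pi.single i 1))
  have h2 := h _ (sym_add_tau T.h2 (T.ω • Pi.single i 1))
  rw [tau_smul, dot_add, show dot D (T.ω • Pi.single i (1 : K)) = T.ω * D i by
      rw [← Pi.single_smul', dot_single, smul_eq_mul, mul_one, mul_comm],
    show dot D (T.φ T.ω • tau T.φ (Pi.single i 1)) = T.φ T.ω * dot D (tau T.φ (Pi.single i 1)) by
      simp [dot, Finset.mul_sum, mul_left_comm]] at h2
  rw [dot_add, dot_single, mul_one] at h1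
  have h3 : (T.ω - T.φ T.ω) * D i = 0 := by linear_combination h2 - T.φ T.ω * h1
  exact (mul_eq_zero.1 h3).resolve_left (sub_ne_zero.2 fun e => T.hω e.symm)

theorem sym_of_dot {Y : Fin 20 → K} (h : ∀ a : ↥T.Q1, T.φ (dot Y (T.κK a)) = dot Y (T.κK a)) : Sym T.φ Y := by
  rw [sym_iff T.h2, ← sub_eq_zero]
  refine T.eq_zero_of_dot fun κ hκ => ?_
  obtain ⟨a, rfl⟩ := T.exists_κK hκ
  have := h a
  rw [dot_tau, (sym_iff T.h2 _).1 hκ] at this
  rw [show dot (tau T.φ Y - Y) (T.κK a) = dot (tau T.φ Y) (T.κK a) - dot Y (T.κK a) by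
    simp [dot, sub_mul, Finset.sum_sub_distrib], this, sub_self]

theorem κK_mul (h k : ↥T.Q1) : T.κK (h * k) = T.κK h + T.κK k := kapv_mul h.2 k.2

/-- The coordinates over the fixed field. -/
noncomputable def crd (h : ↥T.Q1) : Fin 20 → Fx T.φ := fun j =>
  prj T.φ (dot (emb T.φ T.ω (Pi.single j 1)) (T.κK h))

theorem crd_val (h : ↥T.Q1) (j : Fin 20) :
    (T.crd h j : K) = dot (emb T.φ T.ω (Pi.single j 1)) (T.κK h) := by
  unfold crd
  rw [prj, dif_pos (T.dot_fixed (emb_sym T.h2 T.ω _) h)]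

theorem dot_crd (y : Fin 20 → Fx T.φ) (h : ↥T.Q1) :
    ((dot y (T.crd h) : Fx T.φ) : K) = dot (emb T.φ T.ω y) (T.κK h) := by
  classical
  have key : ∀ s : Finset (Fin 20), ((∑ i ∈ s, y i * T.crd h i : Fx T.φ) : K) =
      dot (emb T.φ T.ω (∑ i ∈ s, y i • (Pi.single i 1 : Fin 20 → Fx T.φ))) (T.κK h) := by
    intro s
    induction s using Finset.induction_on with
    | empty => simp [emb_zero, dot]
    | insert i t hi ih =>
      rw [Finset.sum_insert hi, Finset.sum_insert hi, emb_add, dot_add_left, AddMemClass.coe_add, ih,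
        MulMemClass.coe_mul, crd_val, emb_smul, dot_smul_left]
  have e : (∑ i, y i • (Pi.single i 1 : Fin 20 → Fx T.φ)) = y := by
    funext j
    simp [Finset.sum_apply, Pi.single_apply]
  rw [dot, key, e]

theorem crd_inj {h : ↥T.Q1} (h0 : T.crd h = 0) : T.κK h = 0 := by
  refine T.eq_zero_of_dot fun κ hκ => ?_
  obtain ⟨y, rfl⟩ := emb_surjective T.h2 T.hω hκ
  have := T.dot_crd y h
  rw [h0, dot_zero] at this
  rw [show dot (T.κK h) (emb T.φ T.ω y) = dot (emb T.φ T.ω y) (T.κK h) by simp [dot, mul_comm], ← this]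
  rfl

theorem crd_mul (h k : ↥T.Q1) : T.crd (h * k) = T.crd h + T.crd k := by
  funext j
  apply Subtype.ext
  rw [Pi.add_apply, AddMemClass.coe_add, crd_val, crd_val, crd_val, κK_mul, dot_add]

theorem crd_surj : Function.Surjective T.crd := by
  classical
  choose f hf using fun y : Fin 20 → Fx T.φ => T.exists_κK (emb_sym T.h2 T.ω y)
  have hinj : Function.Injective (T.crd ∘ f) := by
    intro a b hab
    refine emb_injective T.h2 T.hω ?_
    rw [← hf a, ← hf b]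
    refine sub_eq_zero.1 (T.eq_zero_of_dot fun κ hκ => ?_)
    obtain ⟨y, rfl⟩ := emb_surjective T.h2 T.hω hκ
    have h1 := T.dot_crd y (f a)
    rw [show T.crd (f a) = T.crd (f b) from hab, T.dot_crd y (f b)] at h1
    rw [show ∀ u v : Fin 20 → K, dot (u - v) (emb T.φ T.ω y) =
      dot (emb T.φ T.ω y) u - dot (emb T.φ T.ω y) v from fun u v => by
        simp [dot, sub_mul, Finset.sum_sub_distrib, mul_comm], h1, sub_self]
  exact Function.Surjective.of_comp (Finite.injective_iff_surjective.1 hinj)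

/-- The centre. -/
noncomputable def zeta1 : Multiplicative (Fx T.φ) →* ↥T.Q1 :=
  MonoidHom.mk' (fun t => ⟨⟨cE.X K low ((Multiplicative.toAdd t : Fx T.φ) : K),
    (T.mem_G1 _).2 ⟨cE.X_mem_group _ _, T.Θ_fixX fix_low (fx_val _)⟩⟩, X_rad low_le _⟩)
    fun a b => Subtype.ext (Subtype.ext (cE.X_add K low _ _).symm)

theorem zeta1_val (t : Multiplicative (Fx T.φ)) :
    (((T.zeta1 t : ↥T.Q1) : ↥T.G1) : GL chevE6.Idx K) = cE.X K low ((Multiplicative.toAdd t : Fx T.φ) : K) := rfl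

theorem κK_ker (h : ↥T.Q1) : T.crd h = 0 ↔ ∃ t, h = T.zeta1 t := by
  constructor
  · intro h0
    obtain ⟨t, ht⟩ := ker_low (T.rad_val h) (T.crd_inj h0)
    have hfix := ((T.mem_G1 _).1 (h : ↥T.G1).2).2
    rw [ht, T.Θ_low] at hfix
    refine ⟨Multiplicative.ofAdd ⟨t, xE_inj hfix⟩, Subtype.ext (Subtype.ext ?_)⟩
    exact ht
  · rintro ⟨t, rfl⟩
    funext j
    apply Subtype.ext
    rw [crd_val, κK, zeta1_val, kapv_low, dot_zero, Pi.zero_apply, ZeroMemClass.coe_zero]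

theorem exists_pairing (Z : Fin 20 → K) :
    ∃ g ∈ radM K, ∀ v ∈ radM K, g * v * g⁻¹ = cE.X K low (dot Z (kapv v)) * v := by
  classical
  suffices h : ∀ s : Finset (Fin 20), ∃ g ∈ radM K, ∀ v ∈ radM K,
      g * v * g⁻¹ = cE.X K low (∑ i ∈ s, Z i * kapv v i) * v from h Finset.univ
  intro s
  induction s using Finset.induction_on with
  | empty => exact ⟨1, one_mem _, fun v _ => by simp [cE.X_zero]⟩
  | insert i t hi ih =>
    obtain ⟨g, hg, e⟩ := ih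
    refine ⟨_, mul_mem (X_rad (wt20_le (part i).1) (sg (part i).2 * Z i)) hg, fun v hv => ?_⟩
    set p := cE.X K (wt20 (part i).1) (sg (part i).2 * Z i)
    rw [show p * g * v * (p * g)⁻¹ = p * (g * v * g⁻¹) * p⁻¹ by group, e v hv,
      pair_conj i (Z i) (mul_mem (X_rad low_le _) hv), kapv_mul (X_rad low_le _) hv, kapv_low, zero_add,
      ← mul_assoc, cE.X_add, Finset.sum_insert hi]

theorem pair1 (Y : Fin 20 → K) (hY : Sym T.φ Y) :
    ∃ g : ↥T.Q1, ∀ h : ↥T.Q1, (((g * h * g⁻¹ : ↥T.Q1) : ↥T.G1) : GL chevE6.Idx K) =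
      cE.X K low (dot Y (T.κK h)) * ((h : ↥T.G1) : GL chevE6.Idx K) := by
  obtain ⟨ξ, hξ⟩ := T.exists_one
  obtain ⟨g, hg, hconj⟩ := exists_pairing (ξ • Y)
  obtain ⟨s, hs⟩ := T.exists_lift hg
  obtain ⟨hΘg, hκ⟩ := T.Θ_rad hg
  refine ⟨⟨⟨_, hs⟩, mul_mem (mul_mem hg hΘg) (X_rad low_le s)⟩, fun h => ?_⟩
  set v := ((h : ↥T.G1) : GL chevE6.Idx K) with hv'
  have hv : v ∈ radM K := h.2
  have hvfix : T.Θ v = v := ((T.mem_G1 _).1 (h : ↥T.G1).2).2
  have hc : T.Θ g * v * (T.Θ g)⁻¹ = cE.X K low (dot (T.φ ξ • Y) (kapv v)) * v := by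
    have := congrArg T.Θ (hconj v hv)
    simp only [map_mul, map_inv, hvfix, T.Θ_low, dot_tau, tau_smul, (sym_iff T.h2 Y).1 hY] at this
    rw [this, show tau T.φ (kapv v) = kapv v from (sym_iff T.h2 _).1 (T.κK_sym h)]
  show g * T.Θ g * cE.X K low s * v * (g * T.Θ g * cE.X K low s)⁻¹ = cE.X K low (dot Y (kapv v)) * v
  rw [show g * T.Θ g * cE.X K low s * v * (g * T.Θ g * cE.X K low s)⁻¹ =
      g * (T.Θ g * (cE.X K low s * v * (cE.X K low s)⁻¹) * (T.Θ g)⁻¹) * g⁻¹ by group,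
    low_central hv, mul_inv_cancel_right, hc, hconj _ (mul_mem (X_rad low_le _) hv),
    kapv_mul (X_rad low_le _) hv, kapv_low, zero_add, ← mul_assoc, cE.X_add, ← dot_add_left, ← add_smul, hξ,
    one_smul]

theorem conj19 : ∃ (h : ↥T.Q1) (g : ↥T.G1), T.crd h = Pi.single 19 1 ∧
    g * (h : ↥T.G1) * g⁻¹ = ((T.zeta1 (Multiplicative.ofAdd 1) : ↥T.Q1) : ↥T.G1) := by
  classical
  have h19 : p20 19 = 19 := top_fix.1
  have hX : T.Θ (cE.X K (wt20 19) 1) = cE.X K (wt20 19) 1 := by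
    rw [T.Θ_wt, h19, (p20_inv 19).2.2 h19, sg_true, one_mul, map_one]
  obtain ⟨s', hv, c, hc, hconj⟩ := SubfieldTwist29.nR_conj cE K (refl20 19) 1 (wt20 19)
  obtain ⟨h1, h2⟩ := refl_cert 19
  have hs : s' = low := by
    refine cE.v_inj ?_
    rw [hv, h1, one_smul]
    funext m
    simp only [Pi.sub_apply]
    exact (h2 m).symm
  subst hs
  have hn := hconj 1
  rw [mul_one] at hn
  have hcφ : T.φ c = c := by
    have := congrArg T.Θ hn
    rw [map_mul, map_mul, map_inv, T.Θ_nR fix_refl (by simp), hX, T.Θ_low, hn] at this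
    exact (xE_inj this).symm
  have hu : T.φ (((Units.mk0 c hc)⁻¹ : Kˣ) : K) = (((Units.mk0 c hc)⁻¹ : Kˣ) : K) := by
    simp [hcφ]
  refine ⟨⟨⟨cE.X K (wt20 19) 1, (T.mem_G1 _).2 ⟨cE.X_mem_group _ _, hX⟩⟩, X_rad (wt20_le 19) _⟩,
    ⟨hD K (wt20 0) (Units.mk0 c hc)⁻¹ * cE.nR K (refl20 19) 1,
      mul_mem (T.hD_mem1 fix_zero hu) (T.nR_mem fix_refl (by simp))⟩, ?_, ?_⟩
  · funext j
    apply Subtype.ext
    rw [crd_val, κK, kapv_wt, dot_single, mul_one, emb_fixed _ _ h19]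
    rcases eq_or_ne j 19 with rfl | hj
    · simp
    · rw [Pi.single_eq_of_ne hj, Pi.single_eq_of_ne hj.symm]
  · refine Subtype.ext ?_
    simp only [Subgroup.coe_mul, Subgroup.coe_inv, zeta1_val, toAdd_ofAdd, OneMemClass.coe_one]
    rw [show hD K (wt20 0) (Units.mk0 c hc)⁻¹ * cE.nR K (refl20 19) 1 * cE.X K (wt20 19) 1 *
      (hD K (wt20 0) (Units.mk0 c hc)⁻¹ * cE.nR K (refl20 19) 1)⁻¹ = hD K (wt20 0) (Units.mk0 c hc)⁻¹ *
        (cE.nR K (refl20 19) 1 * cE.X K (wt20 19) 1 * (cE.nR K (refl20 19) 1)⁻¹) *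
        (hD K (wt20 0) (Units.mk0 c hc)⁻¹)⁻¹ by group, hn, scale_low]
    congr 1
    simp [inv_mul_cancel₀ hc]

/-- A unit of the fixed field in the field. -/
noncomputable def unit1 (s : (Fx T.φ)ˣ) : Kˣ := Units.map ((Fx T.φ).subtype : Fx T.φ →* K) s

/-- The fixed points of the radical as a Heisenberg subgroup over the fixed field. -/
noncomputable def heis1 : Heis ↥T.G1 (Fx T.φ) 20 where
  Q := T.Q1
  κ := T.crd
  ζ := T.zeta1
  κ_mul := T.crd_mul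
  κ_surj := T.crd_surj
  κ_ker := T.κK_ker
  ζ_inj a b h := Multiplicative.toAdd.injective (Subtype.ext (xE_inj
    (congrArg (fun z : ↥T.Q1 => ((z : ↥T.G1) : GL chevE6.Idx K)) h)))
  central t h := Subtype.ext (Subtype.ext (low_central h.2 _))
  pair i u := by
    obtain ⟨g, hg⟩ := T.pair1 ((u : K) • emb T.φ T.ω (Pi.single i 1)) (by
      rw [← emb_smul]; exact emb_sym T.h2 T.ω _)
    refine ⟨g, fun h => Subtype.ext (Subtype.ext ?_)⟩
    rw [hg h, dot_smul_left, ← crd_val]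
    rfl
  scaleZ s := ⟨⟨hD K (wt20 0) (T.unit1 s), T.hD_mem1 fix_zero (fx_val (s : Fx T.φ))⟩,
    fun t => Subtype.ext (scale_low (T.unit1 s) (t : K))⟩
  b := 19
  conjb := T.conj19

variable [Fintype (Fx T.φ)] (ψ : AddChar (Fx T.φ) ℂ) {V : Type*} [AddCommGroup V] [Module ℂ V] [FiniteDimensional ℂ V]
  (ρ : Representation ℂ ↥T.G1 V)

open Classical in
/-- The multiplicity of a character, transported to symmetric vectors. -/
noncomputable def mS (Y : Fin 20 → K) : ℕ :=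
  if h : ∃ y, emb T.φ T.ω y = Y then T.heis1.m ψ ρ h.choose else 0

theorem mS_emb (y : Fin 20 → Fx T.φ) : T.mS ψ ρ (emb T.φ T.ω y) = T.heis1.m ψ ρ y := by
  have h : ∃ y', emb T.φ T.ω y' = emb T.φ T.ω y := ⟨y, rfl⟩
  rw [mS, dif_pos h, emb_injective T.h2 T.hω h.choose_spec]

theorem mS_zero : T.mS ψ ρ 0 = T.heis1.m ψ ρ 0 := by rw [← emb_zero T.ω, mS_emb]

theorem mS_sym {Y : Fin 20 → K} (h : 0 < T.mS ψ ρ Y) : Sym T.φ Y := by
  by_contra hn
  rw [mS, dif_neg (fun ⟨y, hy⟩ => hn (hy ▸ emb_sym T.h2 T.ω y))] at h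
  exact lt_irrefl _ h

theorem sum_mS [Fintype K] (f : (Fin 20 → K) → ℂ) : ∑ Y, (T.mS ψ ρ Y : ℂ) * f Y =
    ∑ y, (T.heis1.m ψ ρ y : ℂ) * f (emb T.φ T.ω y) := by
  classical
  rw [← Finset.sum_subset (Finset.subset_univ (Finset.univ.image (emb T.φ T.ω))) fun Y _ hY => by
    rw [mS, dif_neg (fun ⟨y, hy⟩ => hY (hy ▸ Finset.mem_image_of_mem _ (Finset.mem_univ y))), Nat.cast_zero,
      zero_mul], Finset.sum_image (emb_injective T.h2 T.hω).injOn]
  exact Finset.sum_congr rfl fun y _ => by rw [mS_emb]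

/-- Transformations from conjugation by elements normalising the radical. -/
def Nrm (A : (Fin 20 → K) → (Fin 20 → K)) : Prop :=
  ∃ u ∈ T.G1, ∀ v ∈ radM K, u * v * u⁻¹ ∈ radM K ∧ ∀ Y, dot Y (kapv (u * v * u⁻¹)) = dot (A Y) (kapv v)

theorem mS_move {A B : (Fin 20 → K) → (Fin 20 → K)} (hA : T.Nrm A) (hB : T.Nrm B) (hBA : ∀ Y, B (A Y) = Y)
    (Y : Fin 20 → K) : T.mS ψ ρ (A Y) = T.mS ψ ρ Y := by
  have key : ∀ A, T.Nrm A → ∀ Y, Sym T.φ Y → Sym T.φ (A Y) ∧ T.mS ψ ρ (A Y) = T.mS ψ ρ Y := by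
    rintro A ⟨u, hu, hconj⟩ Y hY
    have hs : ∀ Y, Sym T.φ Y → Sym T.φ (A Y) := fun Y hY => T.sym_of_dot fun a => by
      obtain ⟨h1, h2⟩ := hconj _ (T.rad_val a)
      have e := T.dot_fixed hY ⟨(⟨u, hu⟩ : ↥T.G1) * (a : ↥T.G1) * (⟨u, hu⟩ : ↥T.G1)⁻¹, h1⟩
      change T.φ (dot Y (kapv (u * ((a : ↥T.G1) : GL chevE6.Idx K) * u⁻¹))) =
        dot Y (kapv (u * ((a : ↥T.G1) : GL chevE6.Idx K) * u⁻¹)) at e
      rwa [h2] at e
    refine ⟨hs Y hY, ?_⟩
    choose f hf using fun y : Fin 20 → Fx T.φ => emb_surjective T.h2 T.hω (hs _ (emb_sym T.h2 T.ω y))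
    obtain ⟨y, rfl⟩ := emb_surjective T.h2 T.hω hY
    rw [← hf y, mS_emb, mS_emb]
    refine T.heis1.m_moves ψ ρ (φ := f) ⟨⟨u, hu⟩, fun a => ?_⟩ y
    obtain ⟨h1, h2⟩ := hconj _ (T.rad_val a)
    refine ⟨⟨(⟨u, hu⟩ : ↥T.G1) * (a : ↥T.G1) * (⟨u, hu⟩ : ↥T.G1)⁻¹, h1⟩, rfl, fun y => Subtype.ext ?_⟩
    refine ((T.dot_crd y _).trans ?_).trans (T.dot_crd (f y) a).symm
    rw [hf]
    exact h2 _
  by_cases hY : Sym T.φ Y
  · exact (key A hA Y hY).2
  · have hAY : ¬Sym T.φ (A Y) := fun h => hY (hBA Y ▸ (key B hB _ h).1)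
    have z : ∀ Z, ¬Sym T.φ Z → T.mS ψ ρ Z = 0 := fun Z hZ =>
      Nat.eq_zero_of_not_pos fun h => hZ (T.mS_sym ψ ρ h)
    rw [z _ hY, z _ hAY]

theorem nrm_fix {a : Fin 30} (ha : p30 a = a) {x : K} (hx : T.φ x = x) : T.Nrm (act a x) := by
  have := T.lev_mem (a := a) (x := x) fun _ => hx
  rw [lev, if_pos ha] at this
  exact ⟨_, this, fun v hv => move_conj a x hv⟩

theorem nrm_pair {a : Fin 30} (ha : p30 a ≠ a) (x : K) :
    T.Nrm fun Y => act (p30 a) (sg (e30 a) * T.φ x) (act a x Y) := by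
  have := T.lev_mem (a := a) (x := x) fun h => absurd h ha
  rw [lev, if_neg ha] at this
  refine ⟨_, this, fun v hv => ?_⟩
  set A := cE.X K (rt30 a) x
  set B := cE.X K (rt30 (p30 a)) (sg (e30 a) * T.φ x)
  obtain ⟨h1, h1'⟩ := move_conj (p30 a) (sg (e30 a) * T.φ x) hv
  obtain ⟨h2, h2'⟩ := move_conj a x h1
  rw [show A * B * v * (A * B)⁻¹ = A * (B * v * B⁻¹) * A⁻¹ by group]
  exact ⟨h2, fun Y => (h2' Y).trans (h1' _)⟩

theorem mS_fix {a : Fin 30} (ha : p30 a = a) {x : K} (hx : T.φ x = x) (Y : Fin 20 → K) :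
    T.mS ψ ρ (act a x Y) = T.mS ψ ρ Y :=
  T.mS_move ψ ρ (T.nrm_fix ha hx) (T.nrm_fix ha (x := -x) (by rw [map_neg, hx])) (act_act a x) Y

theorem mS_pair {a : Fin 30} (ha : p30 a ≠ a) (x : K) (Y : Fin 20 → K) :
    T.mS ψ ρ (act (p30 a) (sg (e30 a) * T.φ x) (act a x Y)) = T.mS ψ ρ Y := by
  have hb : p30 (p30 a) ≠ p30 a := fun h => ha (by rw [(p30_inv a).1] at h; exact h.symm)
  refine T.mS_move ψ ρ (T.nrm_pair ha x) (T.nrm_pair hb (-(sg (e30 a) * T.φ x))) (fun Z => ?_) Y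
  have he : ∀ a, e30 (p30 a) = e30 a := by decide +kernel
  show act _ _ (act _ _ (act _ _ (act _ _ Z))) = Z
  rw [(p30_inv a).1, he, map_neg, map_mul, φ_sg, T.h2, mul_neg, ← mul_assoc, sg_mul_self, one_mul]
  rw [act_act, act_act]

theorem mS_scale {s : K} (hs : T.φ s = s) (hs0 : s ≠ 0) (Y : Fin 20 → K) :
    T.mS ψ ρ (s • Y) = T.mS ψ ρ Y := by
  have key : ∀ u : Kˣ, T.φ (u : K) = u → T.Nrm fun Y => (u : K) • Y := fun u hu =>
    ⟨hD K low u, T.hD_mem1 fix_low hu, fun v hv => ⟨(scale_rad u hv).1, fun Y => by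
      rw [(scale_rad u hv).2]
      simp only [dot, Pi.smul_apply, smul_eq_mul]
      exact Finset.sum_congr rfl fun i _ => by ring⟩⟩
  exact T.mS_move ψ ρ (key (Units.mk0 s hs0) hs) (key (Units.mk0 s hs0)⁻¹ (by simp [hs]))
    (fun Z => by simp [smul_smul, hs0]) Y

end Tws

end Cfsg.Agent.Lib.E6Deg29.Tw
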