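import Cfsg.Agent.Lib.E6Deg29.Braid
import Cfsg.Agent.Lib.E6Deg29.Datum2

/-!
A vector fixed by the fixed points of the radical is fixed by the whole twisted group when the Levi subgroup
fixes all such vectors: a braid relation for the remaining fixed simple root.
-/

set_option autoImplicit false
set_option linter.unusedSectionVars false
set_option maxRecDepth 100000

namespace Cfsg.Agent.Lib.E6Deg29.Tw

open Cfsg.Lie Cfsg.Agent.Lib.ChevStructure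
open Cfsg.Agent.Lib.ChevStructure.Core (hD)
open scoped MatrixGroups Matrix

theorem fix_roots : FixRt rA ∧ FixRt rA.rev ∧ FixRt rB ∧ FixRt rB.rev ∧ FixRt rW := by decide +kernel

theorem fix_rev {r : Rt chevE6} (h : FixRt r) : FixRt r.rev :=
  ⟨h.2.2.1, h.2.2.2, by rw [cE.rev_rev]; exact h.1, by rw [cE.rev_rev]; exact h.2.1⟩

theorem rA_rev_eq : rA.rev = wt20 19 := by decide +kernel

theorem b_levi : (∃ a, p30 a = a ∧ rt30 a = rB) ∧ ∃ a, p30 a = a ∧ rt30 a = rB.rev := by decide +kernel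

theorem n_wt : ∀ j : Fin 20, j ≠ 19 → pr chevE6 top (cE.w ⟨1, by decide⟩ (wt20 j)) ≤ -1 ∨
    pr chevE6 top (cE.w ⟨1, by decide⟩ (wt20 j)) = 0 := by
  decide +kernel

theorem n_low : pr chevE6 top (cE.w ⟨1, by decide⟩ low) ≤ -1 := by decide +kernel

variable {K : Type*} [Field K] [Finite K]

namespace Tws

variable (T : Tws K)

theorem exists_unit {u : Kˣ} (hu : T.φ (u : K) = u) : ∃ u' : (Fx T.φ)ˣ, T.unit1 u' = u :=
  ⟨Units.mk0 ⟨u, hu⟩ fun h => u.ne_zero (congrArg Subtype.val h), Units.ext rfl⟩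

open Classical in
/-- A root element of a fixed root. -/
noncomputable def x1 (r : Rt chevE6) (t : Fx T.φ) : ↥T.G1 :=
  if h : FixRt r then ⟨cE.X K r (t : K), (T.mem_G1 _).2 ⟨cE.X_mem_group _ _, T.Θ_fixX h (fx_val t)⟩⟩ else 1

theorem x1_val {r : Rt chevE6} (h : FixRt r) (t : Fx T.φ) : (T.x1 r t : GL chevE6.Idx K) = cE.X K r (t : K) := by
  rw [x1, dif_pos h]

theorem x1_add (r : Rt chevE6) (s t : Fx T.φ) : T.x1 r s * T.x1 r t = T.x1 r (s + t) := by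
  by_cases h : FixRt r
  · exact Subtype.ext (by rw [Subgroup.coe_mul, T.x1_val h, T.x1_val h, T.x1_val h, cE.X_add]; rfl)
  · simp [x1, h]

theorem x1_zero (r : Rt chevE6) : T.x1 r 0 = 1 := by
  by_cases h : FixRt r
  · exact Subtype.ext (by rw [T.x1_val h, ZeroMemClass.coe_zero, cE.X_zero]; rfl)
  · simp [x1, h]

/-- A Weyl element of a fixed root. -/
noncomputable def ng1 (r : Rt chevE6) (u : (Fx T.φ)ˣ) : ↥T.G1 :=
  T.x1 r u * T.x1 r.rev (-(↑u⁻¹ : Fx T.φ)) * T.x1 r u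

theorem ng1_val {r : Rt chevE6} (h : FixRt r) (u : (Fx T.φ)ˣ) :
    (T.ng1 r u : GL chevE6.Idx K) = cE.nR K r (T.unit1 u) := by
  simp only [ng1, Subgroup.coe_mul, T.x1_val h, T.x1_val (fix_rev h), Core.nR]
  rfl

theorem unit1_one : T.unit1 1 = 1 := map_one _

theorem ng1_conj {r s s' : Rt chevE6} (hr : FixRt r) (hs : FixRt s) (hs' : FixRt s')
    (h : cE.v s' = cE.v s - pr chevE6 r s • cE.v r) (u : (Fx T.φ)ˣ) :
    ∃ c : Fx T.φ, c ≠ 0 ∧ ∀ t, T.ng1 r u * T.x1 s t = T.x1 s' (c * t) * T.ng1 r u := by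
  obtain ⟨z, hv, c, hc, hconj⟩ := SubfieldTwist29.nR_conj cE K r (T.unit1 u) s
  have hz : z = s' := cE.v_inj (hv.trans h.symm)
  subst hz
  have hcφ : T.φ c = c := by
    have e := hconj 1
    rw [mul_one] at e
    have := congrArg T.Θ e
    rw [map_mul, map_mul, map_inv, T.Θ_nR hr (fx_val (u : Fx T.φ)), T.Θ_fixX hs (map_one _), e, T.hΘ, hs'.1,
      hs'.2.1, Int.cast_one, one_mul] at this
    exact (xE_inj this).symm
  refine ⟨⟨c, hcφ⟩, fun h => hc (congrArg Subtype.val h), fun t => Subtype.ext ?_⟩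
  rw [Subgroup.coe_mul, Subgroup.coe_mul, T.ng1_val hr, T.x1_val hs, T.x1_val hs', MulMemClass.coe_mul]
  exact mul_inv_eq_iff_eq_mul.1 (hconj t)

theorem ng1_sq_conj {r s : Rt chevE6} (hr : FixRt r) (hs : FixRt s) (u u' : (Fx T.φ)ˣ) :
    ∃ c : Fx T.φ, c ≠ 0 ∧ ∀ t, T.ng1 r u * T.ng1 r u' * T.x1 s t = T.x1 s (c * t) * (T.ng1 r u * T.ng1 r u') := by
  obtain ⟨c, hc, h⟩ := ng_sq_conj r s (T.unit1 u) (T.unit1 u')
  have h' : ∀ t : K, cE.nR K r (T.unit1 u) * cE.nR K r (T.unit1 u') * cE.X K s t =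
      cE.X K s (c * t) * (cE.nR K r (T.unit1 u) * cE.nR K r (T.unit1 u')) := fun t => congrArg Subtype.val (h t)
  have hcφ : T.φ c = c := by
    have e := h' 1
    rw [mul_one] at e
    have := congrArg T.Θ e
    rw [map_mul, map_mul, map_mul, map_mul, T.Θ_nR hr (fx_val (u : Fx T.φ)), T.Θ_nR hr (fx_val (u' : Fx T.φ)),
      T.Θ_fixX hs (map_one _), e, T.hΘ, hs.1, hs.2.1, Int.cast_one, one_mul] at this
    exact (xE_inj (mul_right_cancel this)).symm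
  refine ⟨⟨c, hcφ⟩, fun h => hc (congrArg Subtype.val h), fun t => Subtype.ext ?_⟩
  simp only [Subgroup.coe_mul, T.ng1_val hr, T.x1_val hs, MulMemClass.coe_mul]
  exact h' t

theorem sl_identity1 {r : Rt chevE6} (hr : FixRt r) (t : (Fx T.φ)ˣ) :
    T.x1 r (t : Fx T.φ) = T.x1 r.rev (↑t⁻¹ : Fx T.φ) * T.ng1 r t * T.x1 r.rev (↑t⁻¹ : Fx T.φ) := by
  refine Subtype.ext ?_
  have e := congrArg Subtype.val (sl_identity (F := K) r (T.unit1 t))
  simp only [Subgroup.coe_mul, ng_val] at e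
  simp only [Subgroup.coe_mul, T.x1_val hr, T.x1_val (fix_rev hr), T.ng1_val hr]
  exact e

theorem x1_mem_Q1 (t : Fx T.φ) : T.x1 rA.rev t ∈ T.Q1 := by
  rw [mem_Q1, T.x1_val fix_roots.2.1, rA_rev_eq]
  exact X_rad (wt20_le 19) _

theorem κK_x1 (t : Fx T.φ) : T.κK ⟨_, T.x1_mem_Q1 t⟩ = Pi.single 19 (t : K) := by
  show kapv ((T.x1 rA.rev t : GL chevE6.Idx K)) = _
  rw [T.x1_val fix_roots.2.1, rA_rev_eq, kapv_wt]

variable [Fintype (Fx T.φ)] {k : ℕ} (ρ : Representation ℂ ↥T.G1 (Fin k → ℂ))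

/-- The fixed vectors of the radical. -/
def QFix (v : Fin k → ℂ) : Prop := ∀ h ∈ T.Q1, ρ h v = v

theorem rho_mul1 (a b : ↥T.G1) (v : Fin k → ℂ) : ρ (a * b) v = ρ a (ρ b v) := by
  rw [map_mul]; rfl

theorem sum_scale1 {c : Fx T.φ} (hc : c ≠ 0) (f : Fx T.φ → Fin k → ℂ) : ∑ t, f (c * t) = ∑ t, f t :=
  Fintype.sum_equiv (Equiv.mulLeft₀ c hc) _ _ fun _ => rfl

/-- The operator of the simple root. -/
noncomputable def opT1 (v : Fin k → ℂ) : Fin k → ℂ :=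
  ∑ t : Fx T.φ, ρ (T.x1 rA.rev t) (ρ (T.ng1 rA 1) v)

variable (hL : ∀ v, T.QFix ρ v → ∀ a x, (hx : p30 a = a → T.φ x = x) → ρ ⟨T.lev a x, T.lev_mem hx⟩ v = v)
include hL

theorem fix_B {v : Fin k → ℂ} (hv : T.QFix ρ v) (t : Fx T.φ) :
    ρ (T.x1 rB t) v = v ∧ ρ (T.x1 rB.rev t) v = v := by
  obtain ⟨⟨a, ha, hra⟩, ⟨b, hb, hrb⟩⟩ := b_levi
  constructor
  · have e : T.x1 rB t = ⟨T.lev a (t : K), T.lev_mem fun _ => fx_val t⟩ :=
      Subtype.ext (by rw [T.x1_val fix_roots.2.2.1, ← hra]; exact (if_pos ha).symm)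
    rw [e]; exact hL v hv a _ fun _ => fx_val t
  · have e : T.x1 rB.rev t = ⟨T.lev b (t : K), T.lev_mem fun _ => fx_val t⟩ :=
      Subtype.ext (by rw [T.x1_val fix_roots.2.2.2.1, ← hrb]; exact (if_pos hb).symm)
    rw [e]; exact hL v hv b _ fun _ => fx_val t

theorem fix_ng1 {v : Fin k → ℂ} (hv : T.QFix ρ v) (u : (Fx T.φ)ˣ) :
    ρ (T.ng1 rB u) v = v ∧ ρ (T.ng1 rB.rev u) v = v := by
  have h1 := fun t => (T.fix_B ρ hL hv t).1
  have h2 := fun t => (T.fix_B ρ hL hv t).2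
  have h3 : ∀ t, ρ (T.x1 rB.rev.rev t) v = v := by rw [cE.rev_rev]; exact h1
  refine ⟨?_, ?_⟩ <;> simp only [ng1, rho_mul1, h1, h2, h3]

theorem qfix_opT1 {v : Fin k → ℂ} (hv : T.QFix ρ v) : T.QFix ρ (T.opT1 ρ v) := by
  classical
  set n := T.ng1 rA 1 with hndef
  set w := ρ n v with hw
  let St : Subgroup ↥T.G1 :=
    { carrier := {g | ρ g w = w}
      one_mem' := by simp
      mul_mem' := fun {a b} (ha : ρ a w = w) (hb : ρ b w = w) => by
        show ρ (a * b) w = w; rw [rho_mul1, hb, ha]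
      inv_mem' := fun {a} (ha : ρ a w = w) => by
        show ρ a⁻¹ w = w; conv_lhs => rw [← ha, ← rho_mul1, inv_mul_cancel]
        simp }
  have memSt : ∀ g, ρ (n⁻¹ * g * n) v = v → g ∈ St := by
    intro g hg
    show ρ g w = w
    rw [hw, ← rho_mul1, show g * n = n * (n⁻¹ * g * n) by group, rho_mul1, hg]
  have hnP : (n : GL chevE6.Idx K) = cE.P K ⟨1, by decide⟩ := by
    rw [hndef, T.ng1_val fix_roots.1, unit1_one, Core.P, pA.1]
  have hΘn : T.Θ (n : GL chevE6.Idx K) = n := ((T.mem_G1 _).1 n.2).2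
  have hback : ∀ (s : Rt chevE6) (z : K), (n : GL chevE6.Idx K)⁻¹ * cE.X K s z * n =
      cE.X K (cE.w ⟨1, by decide⟩ s) ((cE.η ⟨1, by decide⟩ (cE.w ⟨1, by decide⟩ s) : K) * z) := by
    intro s z
    rw [hnP]
    have := cE.P_X_conj K ⟨1, by decide⟩ (cE.w ⟨1, by decide⟩ s) ((cE.η ⟨1, by decide⟩ (cE.w ⟨1, by decide⟩ s) : K) * z)
    rw [cE.w_w, ← mul_assoc, ← Int.cast_mul, cE.η_mul_self, Int.cast_one, one_mul] at this
    rw [← this]; group
  have hQfix : ∀ g : ↥T.G1, (g : GL chevE6.Idx K) ∈ radM K → ρ g v = v := fun g hg => hv g hg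
  have hzeta : ∀ t, ((T.zeta1 t : ↥T.Q1) : ↥T.G1) ∈ St := by
    intro t
    refine memSt _ (hQfix _ ?_)
    rw [Subgroup.coe_mul, Subgroup.coe_mul, Subgroup.coe_inv, zeta1_val, hback]
    exact X_rad n_low _
  have hgen : ∀ (j : Fin 20), j ≠ 19 → ∀ z : K, ∃ e : ↥T.Q1, (e : ↥T.G1) ∈ St ∧
      T.κK e = Pi.single j z + tau T.φ (Pi.single j z) := by
    intro j hj z
    obtain ⟨s, hs⟩ := T.exists_lift (X_rad (wt20_le j) z)
    obtain ⟨hΘg, hκ⟩ := T.Θ_rad (X_rad (wt20_le j) z)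
    refine ⟨⟨⟨_, hs⟩, mul_mem (mul_mem (X_rad (wt20_le j) z) hΘg) (X_rad low_le s)⟩, memSt _ ?_, ?_⟩
    · set r := cE.w ⟨1, by decide⟩ (wt20 j)
      set a := (cE.η ⟨1, by decide⟩ r : K) * z
      set c := (cE.η ⟨1, by decide⟩ (cE.w ⟨1, by decide⟩ low) : K) * s
      have hval : ((n⁻¹ * ⟨_, hs⟩ * n : ↥T.G1) : GL chevE6.Idx K) =
          cE.X K r a * T.Θ (cE.X K r a) * cE.X K (cE.w ⟨1, by decide⟩ low) c := by
        have h1 := hback (wt20 j) z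
        have h3 := hback low s
        have h2 := congrArg T.Θ h1
        rw [map_mul, map_mul, map_inv, hΘn] at h2
        simp only [Subgroup.coe_mul, Subgroup.coe_inv]
        rw [show (n : GL chevE6.Idx K)⁻¹ * (cE.X K (wt20 j) z * T.Θ (cE.X K (wt20 j) z) * cE.X K low s) * n =
          ((n : GL chevE6.Idx K)⁻¹ * cE.X K (wt20 j) z * n) * ((n : GL chevE6.Idx K)⁻¹ * T.Θ (cE.X K (wt20 j) z) * n) *
            ((n : GL chevE6.Idx K)⁻¹ * cE.X K low s * n) by group, h1, h2, h3]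
      rcases n_wt j hj with hr | hr
      · refine hQfix _ ?_
        rw [hval]
        exact mul_mem (mul_mem (X_rad hr _) (T.Θ_rad (X_rad hr _)).1) (X_rad n_low _)
      · obtain ⟨a0, ha0⟩ := rt30_cases r hr
        obtain ⟨y, hy, he⟩ : ∃ y, (p30 a0 = a0 → T.φ y = y) ∧ cE.X K r a * T.Θ (cE.X K r a) = T.lev a0 y := by
          rw [← ha0, T.Θ_rt]
          by_cases hp : p30 a0 = a0
          · refine ⟨a + T.φ a, fun _ => by rw [map_add, T.h2, add_comm], ?_⟩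
            rw [hp, (p30_inv a0).2 hp, sg_true, one_mul, cE.X_add, lev, if_pos hp]
          · exact ⟨a, fun h => absurd h hp, by rw [lev, if_neg hp]⟩
        set g : ↥T.G1 := n⁻¹ * ⟨_, hs⟩ * n
        have hm : ((⟨T.lev a0 y, T.lev_mem hy⟩ : ↥T.G1)⁻¹ * g : ↥T.G1) ∈ T.Q1 := by
          rw [mem_Q1, Subgroup.coe_mul, Subgroup.coe_inv, hval, he, inv_mul_cancel_left]
          exact X_rad n_low _
        have := hL v hv a0 y hy
        conv_rhs => rw [← this, ← hv _ hm, ← rho_mul1, mul_inv_cancel_left]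
    · show kapv (cE.X K (wt20 j) z * T.Θ (cE.X K (wt20 j) z) * cE.X K low s) = _
      rw [kapv_mul (mul_mem (X_rad (wt20_le j) z) hΘg) (X_rad low_le s),
        kapv_mul (X_rad (wt20_le j) z) hΘg, kapv_low, add_zero, hκ, kapv_wt]
  have hsame : ∀ a b : ↥T.Q1, T.κK a = T.κK b → (b : ↥T.G1) ∈ St → (a : ↥T.G1) ∈ St := by
    intro a b hab hb
    have hc : T.crd (a * b⁻¹) = 0 := by
      funext i
      apply Subtype.ext
      have h1 : T.κK (a * b⁻¹) = 0 := by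
        show kapv ((((a : ↥T.G1) : GL chevE6.Idx K)) * ((b : ↥T.G1) : GL chevE6.Idx K)⁻¹) = 0
        rw [kapv_mul (T.rad_val a) (inv_mem (T.rad_val b)), kapv_inv (T.rad_val b)]
        exact sub_eq_zero.2 hab |> (sub_eq_add_neg _ _).symm.trans
      rw [crd_val, h1, dot_zero]; rfl
    obtain ⟨t, ht⟩ := (T.κK_ker _).1 hc
    rw [mul_inv_eq_iff_eq_mul] at ht
    rw [ht, Subgroup.coe_mul]
    exact mul_mem (hzeta t) hb
  have hzero19 : ∀ h : ↥T.Q1, T.κK h 19 = 0 → (h : ↥T.G1) ∈ St := by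
    intro h h19
    obtain ⟨ξ, hξ⟩ := T.exists_one
    set κ := T.κK h with hκdef
    have hS : ∀ S : Finset (Fin 20), 19 ∉ S → ∃ e : ↥T.Q1, (e : ↥T.G1) ∈ St ∧
        T.κK e = ∑ i ∈ S, (Pi.single i (ξ * κ i) + tau T.φ (Pi.single i (ξ * κ i))) := by
      intro S
      induction S using Finset.induction_on with
      | empty => exact fun _ => ⟨1, one_mem _, by simp [κK, kapv_one]⟩
      | insert i S hi ih =>
        intro h19'
        rw [Finset.mem_insert, not_or] at h19'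
        obtain ⟨e, he, heκ⟩ := ih h19'.2
        obtain ⟨f, hf, hfκ⟩ := hgen i (Ne.symm h19'.1) (ξ * κ i)
        exact ⟨f * e, mul_mem hf he, by rw [κK_mul, heκ, hfκ, Finset.sum_insert hi]⟩
    obtain ⟨e, he, heκ⟩ := hS (Finset.univ.erase 19) (by simp)
    refine hsame h e ?_ he
    rw [heκ, Finset.sum_erase]
    · rw [Finset.sum_add_distrib]
      have e1 : ∑ i : Fin 20, Pi.single i (ξ * κ i) = ξ • κ := by
        rw [Finset.univ_sum_single fun i => ξ * κ i]; rfl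
      have e2 : ∑ i : Fin 20, tau T.φ (Pi.single i (ξ * κ i)) = tau T.φ (ξ • κ) := by
        rw [← e1]
        funext l
        simp only [tau, Finset.sum_apply, map_sum, Finset.mul_sum]
      rw [e1, e2, tau_smul, (sym_iff T.h2 κ).1 (T.κK_sym h), ← add_smul, hξ, one_smul]
    · rw [h19, mul_zero]
      funext l; simp [tau]
  intro h hh
  set κ19 : K := T.κK ⟨h, hh⟩ 19 with hκ19
  let s : Fx T.φ := ⟨κ19, mem_fx.2 (Sym.fixed T.h2 (T.κK_sym ⟨h, hh⟩) top_fix.1)⟩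
  rw [opT1, map_sum]
  refine Fintype.sum_equiv (Equiv.addLeft s) _ _ fun t => ?_
  show ρ h (ρ (T.x1 rA.rev t) w) = ρ (T.x1 rA.rev (s + t)) w
  let xt : ↥T.Q1 := ⟨_, T.x1_mem_Q1 t⟩
  let xs : ↥T.Q1 := ⟨_, T.x1_mem_Q1 s⟩
  have hmem := hzero19 (xt⁻¹ * (xs⁻¹ * ⟨h, hh⟩) * xt) (by
    have hinv : ∀ a : ↥T.Q1, T.κK a⁻¹ = -T.κK a := fun a => kapv_inv (T.rad_val a)
    simp only [κK_mul, hinv, xs, xt, κK_x1, Pi.add_apply, Pi.neg_apply, Pi.single_eq_same, s, ← hκ19]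
    ring)
  rw [← rho_mul1, show h * T.x1 rA.rev t = T.x1 rA.rev (s + t) *
      ((T.x1 rA.rev t)⁻¹ * ((T.x1 rA.rev s)⁻¹ * h) * T.x1 rA.rev t) by rw [← x1_add]; group, rho_mul1]
  exact congrArg _ hmem

theorem sq_fix {v : Fin k → ℂ} (hv : T.QFix ρ v) (t : Fx T.φ) :
    ρ (T.x1 rA.rev t) (ρ (T.ng1 rA 1 * T.ng1 rA 1) v) = ρ (T.ng1 rA 1 * T.ng1 rA 1) v := by
  obtain ⟨c, hc, h⟩ := T.ng1_sq_conj fix_roots.1 fix_roots.2.1 1 1
  have e := h (c⁻¹ * t)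
  rw [mul_inv_cancel_left₀ hc] at e
  rw [← rho_mul1, ← e, rho_mul1, hv _ (T.x1_mem_Q1 _)]

theorem opT1_injective {w : Fin k → ℂ} (hw : T.QFix ρ w) (h0 : T.opT1 ρ w = 0) : w = 0 := by
  classical
  obtain ⟨fA, fA', -⟩ := fix_roots
  set w2 := ρ (T.ng1 rA 1 * T.ng1 rA 1) w with hw2
  have hfix := T.sq_fix ρ hL hw
  rw [← hw2] at hfix
  obtain ⟨c, hc, hcc⟩ := T.ng1_conj fA fA' fA shift_facts.2.2.2.2.1 1
  have h1 : ∑ t : Fx T.φ, ρ (T.x1 rA t) w2 = 0 := by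
    have e := congrArg (ρ (T.ng1 rA 1)) h0
    rw [opT1, map_sum, map_zero] at e
    rw [← T.sum_scale1 hc, ← e]
    refine Finset.sum_congr rfl fun t _ => ?_
    simp only [hw2, ← rho_mul1]
    rw [← mul_assoc (T.ng1 rA 1) (T.x1 rA.rev t), hcc, mul_assoc]
  have hY : ∀ t : (Fx T.φ)ˣ, ∑ u : Fx T.φ, ρ (T.x1 rA.rev u) (ρ (T.ng1 rA t) w2) = 0 := by
    intro t
    obtain ⟨d, hd, hdd⟩ := T.ng1_sq_conj fA fA' t 1
    rw [← T.sum_scale1 hd]
    calc ∑ u : Fx T.φ, ρ (T.x1 rA.rev (d * u)) (ρ (T.ng1 rA t) w2)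
        = ∑ u : Fx T.φ, ρ (T.ng1 rA t * T.ng1 rA 1) (ρ (T.x1 rA.rev u) (ρ (T.ng1 rA 1) w)) := by
          refine Finset.sum_congr rfl fun u _ => ?_
          simp only [hw2, ← rho_mul1]
          rw [← mul_assoc (T.ng1 rA t * T.ng1 rA 1), hdd]
          simp only [mul_assoc]
      _ = 0 := by
          rw [← map_sum, show ∑ u : Fx T.φ, ρ (T.x1 rA.rev u) (ρ (T.ng1 rA 1) w) = T.opT1 ρ w from rfl, h0, map_zero]
  have h2 : (Fintype.card (Fx T.φ) : ℂ) • w2 = 0 := by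
    have e := congrArg (fun x => ∑ u : Fx T.φ, ρ (T.x1 rA.rev u) x) h1
    simp only [map_sum, map_zero, Finset.sum_const_zero] at e
    rw [Finset.sum_comm, ← Finset.add_sum_erase Finset.univ _ (Finset.mem_univ (0 : Fx T.φ))] at e
    simp only [x1_zero, map_one, Module.End.one_apply, hfix, Finset.sum_const, Finset.card_univ] at e
    rw [Finset.sum_eq_zero, add_zero, ← Nat.cast_smul_eq_nsmul ℂ] at e
    · exact e
    · intro t ht
      have ht0 := Finset.ne_of_mem_erase ht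
      set tu := Units.mk0 t ht0
      rw [show t = (tu : Fx T.φ) from rfl, T.sl_identity1 fA tu]
      simp only [rho_mul1, hfix]
      simp only [← T.rho_mul1 ρ (T.x1 rA.rev _) (T.x1 rA.rev _), x1_add]
      rw [← hY tu]
      exact Fintype.sum_equiv (Equiv.addRight (↑tu⁻¹ : Fx T.φ)) _ _ fun u => rfl
  have h3 : w2 = 0 := (smul_eq_zero.1 h2).resolve_left (Nat.cast_ne_zero.2 Fintype.card_ne_zero)
  have h4 : ρ (T.ng1 rA 1 * T.ng1 rA 1)⁻¹ w2 = w := by rw [hw2, ← rho_mul1, inv_mul_cancel]; simp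
  rw [← h4, h3, map_zero]

theorem opB1_eq {v : Fin k → ℂ} (hv : T.QFix ρ v) :
    ∑ t : Fx T.φ, ρ (T.x1 rB.rev t) (ρ (T.ng1 rB 1) v) = (Fintype.card (Fx T.φ) : ℂ) • v := by
  simp only [(T.fix_ng1 ρ hL hv 1).1, fun t => (T.fix_B ρ hL hv t).2, Finset.sum_const, Finset.card_univ]
  exact (Nat.cast_smul_eq_nsmul ℂ _ _).symm

theorem braid_vec1 {v : Fin k → ℂ} (hv : T.QFix ρ v) :
    ρ (T.ng1 rA 1 * T.ng1 rB 1 * T.ng1 rA 1) v = ρ (T.ng1 rB 1 * T.ng1 rA 1 * T.ng1 rB 1) v := by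
  obtain ⟨p1, p3⟩ := pA
  obtain ⟨fA, -, fB, fB', -⟩ := fix_roots
  obtain ⟨f1, f2, f3, f4, f5⟩ := refl_facts
  have hPA : cE.P K ⟨1, by decide⟩ = ((T.ng1 rA 1 : ↥T.G1) : GL chevE6.Idx K) := by
    rw [Core.P, p1, T.ng1_val fA, unit1_one]
  have hPB : cE.P K ⟨3, by decide⟩ = ((T.ng1 rB 1 : ↥T.G1) : GL chevE6.Idx K) := by
    rw [Core.P, p3, T.ng1_val fB, unit1_one]
  have hη : ∀ i r, T.φ ((cE.ηU K i r : Kˣ) : K) = (cE.ηU K i r : Kˣ) := fun i r => by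
    show T.φ ((cE.η i r : ℤ) : K) = _
    rw [map_intCast]; rfl
  obtain ⟨ε, hε⟩ : ∃ ε, T.ng1 rB 1 * T.ng1 rA 1 * T.ng1 rB 1 = T.ng1 rA ε * (T.ng1 rB 1 * T.ng1 rA 1) := by
    obtain ⟨ε, he⟩ := T.exists_unit (u := cE.ηU K ⟨3, by decide⟩ ⟨47, by decide⟩ * (cE.ηU K ⟨1, by decide⟩ rB * 1))
      (by rw [Units.val_mul, Units.val_mul, map_mul, map_mul, hη, hη, Units.val_one, map_one])
    refine ⟨ε, Subtype.ext ?_⟩
    have h1 := cE.P_nR_conj K ⟨1, by decide⟩ rB 1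
    have h2 := cE.P_nR_conj K ⟨3, by decide⟩ ⟨47, by decide⟩ (cE.ηU K ⟨1, by decide⟩ rB * 1)
    rw [f1, hPA, T.ng1_val fA, unit1_one] at h1
    rw [f2, hPB, T.ng1_val fB, unit1_one, ← h1] at h2
    simp only [Subgroup.coe_mul, T.ng1_val fA, T.ng1_val fB, unit1_one, he, ← h2]
    group
  obtain ⟨e1, he1⟩ : ∃ e : (Fx T.φ)ˣ → (Fx T.φ)ˣ, ∀ u,
      (T.ng1 rA 1 * T.ng1 rB 1 * T.ng1 rA 1)⁻¹ * T.ng1 rA u * (T.ng1 rA 1 * T.ng1 rB 1 * T.ng1 rA 1) =
        T.ng1 rB.rev (e u) := by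
    suffices ∀ u : (Fx T.φ)ˣ, ∃ e, (T.ng1 rA 1 * T.ng1 rB 1 * T.ng1 rA 1)⁻¹ * T.ng1 rA u *
        (T.ng1 rA 1 * T.ng1 rB 1 * T.ng1 rA 1) = T.ng1 rB.rev e from Classical.axiomOfChoice this
    intro u
    have back : ∀ (i : Fin chevE6.rank) (r : Rt chevE6) (x : Kˣ), T.φ (x : K) = x →
        ∃ x' : Kˣ, T.φ (x' : K) = x' ∧ (cE.P K i)⁻¹ * cE.nR K r x * cE.P K i = cE.nR K (cE.w i r) x' := by
      intro i r x hx
      refine ⟨(cE.ηU K i (cE.w i r))⁻¹ * x, ?_, ?_⟩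
      · rw [Units.val_mul, map_mul, Units.val_inv_eq_inv_val, map_inv₀, hη, hx]
      · have h := cE.P_nR_conj K i (cE.w i r) ((cE.ηU K i (cE.w i r))⁻¹ * x)
        rw [cE.w_w, mul_inv_cancel_left] at h
        rw [← h]; group
    obtain ⟨a, hap, ha⟩ := back ⟨1, by decide⟩ rA (T.unit1 u) (fx_val (u : Fx T.φ))
    obtain ⟨b, hbp, hb⟩ := back ⟨3, by decide⟩ rA.rev a hap
    obtain ⟨c, hcp, hc⟩ := back ⟨1, by decide⟩ rW b hbp
    rw [hPA, f3] at ha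
    rw [hPB, f4, ← ha] at hb
    rw [hPA, f5, ← hb] at hc
    obtain ⟨c', rfl⟩ := T.exists_unit hcp
    refine ⟨c', Subtype.ext ?_⟩
    simp only [Subgroup.coe_mul, Subgroup.coe_inv, T.ng1_val fA, T.ng1_val fB, T.ng1_val fB'] at hc ⊢
    rw [← hc]; group
  set g : ↥T.G1 := T.ng1 rA 1 * T.ng1 rB 1 * T.ng1 rA 1 with hg
  have e : T.ng1 rB 1 * T.ng1 rA 1 * T.ng1 rB 1 = g * ((g⁻¹ * T.ng1 rA ε * g) * (g⁻¹ * T.ng1 rA 1 * g)⁻¹) := by
    rw [hε, hg]; group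
  rw [e, he1, he1, T.rho_mul1 ρ g, T.rho_mul1 ρ (T.ng1 rB.rev (e1 ε))]
  have hinv : ρ (T.ng1 rB.rev (e1 1))⁻¹ v = v := by
    conv_lhs => rw [← (T.fix_ng1 ρ hL hv (e1 1)).2, ← rho_mul1, inv_mul_cancel]
    simp
  rw [hinv, (T.fix_ng1 ρ hL hv (e1 ε)).2]

theorem opT1_opT1 {v : Fin k → ℂ} (hv : T.QFix ρ v) :
    T.opT1 ρ (T.opT1 ρ v) = (Fintype.card (Fx T.φ) : ℂ) • T.opT1 ρ v := by
  classical
  have hq : (Fintype.card (Fx T.φ) : ℂ) ≠ 0 := Nat.cast_ne_zero.2 Fintype.card_ne_zero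
  obtain ⟨fA, fA', fB, fB', fW⟩ := fix_roots
  obtain ⟨s1, s2, s3, s4, -, -⟩ := shift_facts
  obtain ⟨ca, hca, A1⟩ := T.ng1_conj fA fB' fW s1 1
  obtain ⟨ca', hca', A2⟩ := T.ng1_conj fA fW fB' s2 1
  obtain ⟨cb, hcb, B1⟩ := T.ng1_conj fB fA' fW s3 1
  obtain ⟨cb', hcb', B2⟩ := T.ng1_conj fB fW fA' s4 1
  let S : (Fin k → ℂ) → Fin k → ℂ := fun u => ∑ x : Fx T.φ, ∑ y : Fx T.φ, ∑ z : Fx T.φ,
    ρ (T.x1 rA.rev x) (ρ (T.x1 rW y) (ρ (T.x1 rB.rev z) u))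
  set u1 := ρ (T.ng1 rA 1 * T.ng1 rB 1 * T.ng1 rA 1) v with hu1
  have hT := T.qfix_opT1 ρ hL hv
  have h1 : (Fintype.card (Fx T.φ) : ℂ) • T.opT1 ρ (T.opT1 ρ v) = S u1 := by
    calc (Fintype.card (Fx T.φ) : ℂ) • T.opT1 ρ (T.opT1 ρ v)
        = ∑ p : Fx T.φ, ρ (T.x1 rA.rev p) (ρ (T.ng1 rA 1)
            (∑ r : Fx T.φ, ρ (T.x1 rB.rev r) (ρ (T.ng1 rB 1) (T.opT1 ρ v)))) := by
          rw [T.opB1_eq ρ hL hT, opT1, Finset.smul_sum]
          simp only [map_smul]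
      _ = ∑ p : Fx T.φ, ∑ r : Fx T.φ, ∑ s : Fx T.φ,
            ρ (T.x1 rA.rev p) (ρ (T.x1 rW (ca * r)) (ρ (T.x1 rB.rev (ca' * (cb * s))) u1)) := by
          refine Finset.sum_congr rfl fun p _ => ?_
          simp only [opT1, map_sum]
          refine Finset.sum_congr rfl fun r _ => Finset.sum_congr rfl fun s _ => ?_
          simp only [hu1, ← rho_mul1]
          refine congrArg (fun g => ρ g v) (congrArg (T.x1 rA.rev p * ·) ?_)
          calc T.ng1 rA 1 * (T.x1 rB.rev r * (T.ng1 rB 1 * (T.x1 rA.rev s * T.ng1 rA 1)))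
              = (T.ng1 rA 1 * T.x1 rB.rev r) * (T.ng1 rB 1 * T.x1 rA.rev s) * T.ng1 rA 1 := by group
            _ = T.x1 rW (ca * r) * (T.ng1 rA 1 * T.x1 rW (cb * s)) * T.ng1 rB 1 * T.ng1 rA 1 := by
                rw [A1, B1]; group
            _ = _ := by rw [A2]; group
      _ = S u1 := by
          refine Finset.sum_congr rfl fun p _ => ?_
          rw [T.sum_scale1 hca fun y => ∑ s : Fx T.φ,
            ρ (T.x1 rA.rev p) (ρ (T.x1 rW y) (ρ (T.x1 rB.rev (ca' * (cb * s))) u1))]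
          refine Finset.sum_congr rfl fun r _ => ?_
          rw [T.sum_scale1 hcb fun z => ρ (T.x1 rA.rev p) (ρ (T.x1 rW r) (ρ (T.x1 rB.rev (ca' * z)) u1)),
            T.sum_scale1 hca' fun z => ρ (T.x1 rA.rev p) (ρ (T.x1 rW r) (ρ (T.x1 rB.rev z) u1))]
  obtain ⟨o1, o2, o3, o4, o5, o6⟩ := order_facts
  obtain ⟨e, he⟩ : ∃ e : ℤ, chevE6.commTerms rB.rev.val rA.rev.val = [(rW.val, e, 1, 1)] := by
    rcases o3 with h | h <;> exact ⟨_, h⟩
  have hswap : ∀ p y s : Fx T.φ, T.x1 rB.rev p * (T.x1 rW y * T.x1 rA.rev s) =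
      T.x1 rA.rev s * (T.x1 rW ((e : Fx T.φ) * p * s + y) * T.x1 rB.rev p) := by
    intro p y s
    have hWB : cE.X K rB.rev p * cE.X K rW y = cE.X K rW y * cE.X K rB.rev p := by
      have h : rW ≠ rB.rev ∧ rW ≠ rB.rev.rev ∧ chevE6.commTerms rB.rev.val rW.val = [] := by decide +kernel
      exact mul_inv_eq_iff_eq_mul.1 (conj_comm K h.1 h.2.1 h.2.2 _ _)
    have hBA := mul_inv_eq_iff_eq_mul.1 (conj_term K o1 o2 he (p : K) (s : K))
    have hAW := mul_inv_eq_iff_eq_mul.1 (conj_comm K o4 o5 o6 (s : K) (y : K))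
    refine Subtype.ext ?_
    simp only [Subgroup.coe_mul, T.x1_val fB', T.x1_val fW, T.x1_val fA', AddMemClass.coe_add,
      MulMemClass.coe_mul, SubringClass.coe_intCast]
    calc cE.X K rB.rev p * (cE.X K rW y * cE.X K rA.rev s)
        = (cE.X K rB.rev p * cE.X K rA.rev s) * cE.X K rW y := by rw [← hAW]; simp only [mul_assoc]
      _ = cE.X K rA.rev s * cE.X K rW ((e : K) * p * s) * (cE.X K rW y * cE.X K rB.rev p) := by
          rw [hBA, ← hWB]; simp only [mul_assoc]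
      _ = _ := by rw [← cE.X_add]; simp only [mul_assoc]
  have h2 : ((Fintype.card (Fx T.φ) : ℂ) * Fintype.card (Fx T.φ)) • T.opT1 ρ v = S u1 := by
    calc ((Fintype.card (Fx T.φ) : ℂ) * Fintype.card (Fx T.φ)) • T.opT1 ρ v
        = ∑ p : Fx T.φ, ρ (T.x1 rB.rev p) (ρ (T.ng1 rB 1) (∑ r : Fx T.φ, ρ (T.x1 rA.rev r) (ρ (T.ng1 rA 1)
            (∑ s : Fx T.φ, ρ (T.x1 rB.rev s) (ρ (T.ng1 rB 1) v))))) := by
          rw [T.opB1_eq ρ hL hv]
          simp only [map_smul, ← Finset.smul_sum]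
          rw [show ∑ p : Fx T.φ, ρ (T.x1 rB.rev p) (ρ (T.ng1 rB 1)
              (∑ r : Fx T.φ, ρ (T.x1 rA.rev r) (ρ (T.ng1 rA 1) v))) =
            (Fintype.card (Fx T.φ) : ℂ) • T.opT1 ρ v from T.opB1_eq ρ hL hT, smul_smul]
      _ = ∑ p : Fx T.φ, ∑ r : Fx T.φ, ∑ s : Fx T.φ,
            ρ (T.x1 rA.rev (cb' * (ca * s))) (ρ (T.x1 rW ((e : Fx T.φ) * p * (cb' * (ca * s)) + cb * r))
              (ρ (T.x1 rB.rev p) u1)) := by
          simp only [map_sum]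
          refine Finset.sum_congr rfl fun p _ => Finset.sum_congr rfl fun r _ => Finset.sum_congr rfl fun s _ => ?_
          simp only [hu1, T.braid_vec1 ρ hL hv, ← rho_mul1]
          refine congrArg (fun g => ρ g v) ?_
          calc T.x1 rB.rev p * (T.ng1 rB 1 * (T.x1 rA.rev r * (T.ng1 rA 1 * (T.x1 rB.rev s * T.ng1 rB 1))))
              = T.x1 rB.rev p * ((T.ng1 rB 1 * T.x1 rA.rev r) *
                  ((T.ng1 rA 1 * T.x1 rB.rev s) * T.ng1 rB 1)) := by group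
            _ = T.x1 rB.rev p * (T.x1 rW (cb * r) *
                  ((T.ng1 rB 1 * T.x1 rW (ca * s)) * (T.ng1 rA 1 * T.ng1 rB 1))) := by
                rw [B1, A1]; group
            _ = (T.x1 rB.rev p * (T.x1 rW (cb * r) * T.x1 rA.rev (cb' * (ca * s)))) *
                  (T.ng1 rB 1 * T.ng1 rA 1 * T.ng1 rB 1) := by rw [B2]; group
            _ = _ := by rw [hswap]; group
      _ = S u1 := by
          have inner : ∀ p : Fx T.φ, (∑ r : Fx T.φ, ∑ s : Fx T.φ,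
              ρ (T.x1 rA.rev (cb' * (ca * s))) (ρ (T.x1 rW ((e : Fx T.φ) * p * (cb' * (ca * s)) + cb * r))
                (ρ (T.x1 rB.rev p) u1))) =
              ∑ x : Fx T.φ, ∑ y : Fx T.φ, ρ (T.x1 rA.rev x) (ρ (T.x1 rW y) (ρ (T.x1 rB.rev p) u1)) := by
            intro p
            rw [Finset.sum_comm,
              T.sum_scale1 hca fun x => ∑ r : Fx T.φ, ρ (T.x1 rA.rev (cb' * x))
                (ρ (T.x1 rW ((e : Fx T.φ) * p * (cb' * x) + cb * r)) (ρ (T.x1 rB.rev p) u1)),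
              T.sum_scale1 hcb' fun x => ∑ r : Fx T.φ,
                ρ (T.x1 rA.rev x) (ρ (T.x1 rW ((e : Fx T.φ) * p * x + cb * r)) (ρ (T.x1 rB.rev p) u1))]
            refine Finset.sum_congr rfl fun x _ => ?_
            rw [T.sum_scale1 hcb fun r =>
              ρ (T.x1 rA.rev x) (ρ (T.x1 rW ((e : Fx T.φ) * p * x + r)) (ρ (T.x1 rB.rev p) u1))]
            exact Fintype.sum_equiv (Equiv.addLeft ((e : Fx T.φ) * p * x)) _ _ fun r => rfl
          simp only [inner, S]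
          rw [Finset.sum_comm]
          exact Finset.sum_congr rfl fun x _ => Finset.sum_comm
  refine smul_right_injective _ hq ?_
  simp only [h1, smul_smul, h2]

/-- The generators. -/
def gens1 : Set (GL chevE6.Idx K) :=
  {g | ∃ a x, (p30 a = a → T.φ x = x) ∧ g = T.lev a x} ∪
    {g | ∃ r, (r = rA ∨ r = rA.rev) ∧ ∃ t, T.φ t = t ∧ g = cE.X K r t}

/-- Such vectors are fixed by the group. -/
theorem fixed_all1 (hgen : T.G1 ≤ Subgroup.closure T.gens1) {v : Fin k → ℂ} (hv : T.QFix ρ v) (g : ↥T.G1) :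
    ρ g v = v := by
  classical
  obtain ⟨fA, fA', -⟩ := fix_roots
  have hT : T.opT1 ρ v = (Fintype.card (Fx T.φ) : ℂ) • v := by
    refine sub_eq_zero.1 (T.opT1_injective ρ hL (fun h hh => ?_) ?_)
    · rw [map_sub, map_smul, T.qfix_opT1 ρ hL hv h hh, hv h hh]
    · have h := T.opT1_opT1 ρ hL hv
      simp only [opT1] at h ⊢
      simp only [map_sub, map_smul, Finset.sum_sub_distrib, ← Finset.smul_sum]
      rw [h, sub_self]
  have hn : ρ (T.ng1 rA 1) v = v := by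
    have := eq_of_mean ρ (fun t : Fx T.φ => T.x1 rA.rev t * T.ng1 rA 1) v (by simp only [rho_mul1]; exact hT) 0
    simpa [x1_zero] using this
  obtain ⟨c, hc, hcc⟩ := T.ng1_conj fA fA' fA shift_facts.2.2.2.2.1 1
  have hXA : ∀ t, ρ (T.x1 rA t) v = v := fun t => by
    have e := congrArg (fun g => ρ g v) (hcc (c⁻¹ * t))
    simp only [rho_mul1, mul_inv_cancel_left₀ hc, hn, hv _ (T.x1_mem_Q1 _)] at e
    exact e.symm
  let St : Subgroup ↥T.G1 :=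
    { carrier := {g | ρ g v = v}
      one_mem' := by simp
      mul_mem' := fun {a b} (ha : ρ a v = v) (hb : ρ b v = v) => by
        show ρ (a * b) v = v; rw [rho_mul1, hb, ha]
      inv_mem' := fun {a} (ha : ρ a v = v) => by
        show ρ a⁻¹ v = v; conv_lhs => rw [← ha, ← rho_mul1, inv_mul_cancel]
        simp }
  have hle : Subgroup.closure T.gens1 ≤ St.map T.G1.subtype := by
    refine (Subgroup.closure_le _).2 ?_
    rintro x (⟨a, y, hy, rfl⟩ | ⟨r, hr, t, ht, rfl⟩)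
    · exact ⟨⟨T.lev a y, T.lev_mem hy⟩, hL v hv a y hy, rfl⟩
    · rcases hr with rfl | rfl
      · exact ⟨T.x1 rA ⟨t, ht⟩, hXA _, T.x1_val fA _⟩
      · exact ⟨T.x1 rA.rev ⟨t, ht⟩, hv _ (T.x1_mem_Q1 _), T.x1_val fA' _⟩
  obtain ⟨g', hg', e⟩ := hle (hgen g.2)
  have hgg : g' = g := Subtype.ext e
  exact hgg ▸ hg'

end Tws

end Cfsg.Agent.Lib.E6Deg29.Tw
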