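import Cfsg.Agent.Lib.E6Deg29.Tables

/-!
The orbit dichotomy for the dual of the radical quotient: either an orbit is large, or every character that
occurs lies in the orbit of a coordinate vector, whose size is computed exactly.
-/

set_option autoImplicit false
set_option linter.unusedSectionVars false
set_option linter.unusedVariables false

namespace Cfsg.Agent.Lib.E6Deg29

variable {F : Type*} [Field F]

/-- The value of a sign. -/
def sg (b : Bool) : F := if b then 1 else -1

theorem sg_mul_self (b : Bool) : (sg b : F) * sg b = 1 := by cases b <;> simp [sg]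

theorem sg_ne (b : Bool) : (sg b : F) ≠ 0 := by cases b <;> simp [sg]

/-- A move on the dual. -/
def act (a : Fin 30) (x : F) (y : Fin 20 → F) : Fin 20 → F := fun s =>
  match mv a s with
  | none => y s
  | some p => y s + sg p.2 * x * y p.1

theorem act_none {a : Fin 30} {s : Fin 20} (h : mv a s = none) (x : F) (y : Fin 20 → F) : act a x y s = y s := by
  simp [act, h]

theorem act_some {a : Fin 30} {s T : Fin 20} {b : Bool} (h : mv a s = some (T, b)) (x : F) (y : Fin 20 → F) :
    act a x y s = y s + sg b * x * y T := by simp [act, h]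

theorem act_act (a : Fin 30) (x : F) (y : Fin 20 → F) : act a (-x) (act a x y) = y := by
  funext s
  have h := mv_acyclic a s
  rcases hs : mv a s with _ | ⟨T, b⟩
  · rw [act_none hs, act_none hs]
  · rw [hs] at h
    simp only [Option.isNone_iff_eq_none] at h
    rw [act_some hs, act_some hs, act_none h]
    ring

theorem act_injective (a : Fin 30) (x : F) : Function.Injective (act a x : (Fin 20 → F) → Fin 20 → F) :=
  fun y z h => by rw [← act_act a x y, h, act_act]

/-- The composite of the moves of a list of neighbours. -/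
def clr (L : List (Fin 20 × Fin 30)) (t : Fin 20 → F) (y : Fin 20 → F) : Fin 20 → F :=
  L.foldl (fun y p => act p.2 (t p.1) y) y

theorem clr_injective : ∀ (L : List (Fin 20 × Fin 30)) (t : Fin 20 → F), Function.Injective (clr L t)
  | [], _ => fun _ _ h => h
  | p :: L, t => fun _ _ h => act_injective p.2 (t p.1) (clr_injective L t h)

/-- The sign of the move from a weight to a neighbour. -/
def bt (p : Fin 20 × Fin 30) : Bool := ((mv p.2 p.1).map Prod.snd).getD true

theorem mv_nb {w : Fin 20} {p : Fin 20 × Fin 30} (hp : p ∈ nb w) : mv p.2 p.1 = some (w, bt p) := by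
  obtain ⟨-, h, -⟩ := nb_spec w p hp
  rcases hm : mv p.2 p.1 with _ | ⟨T, b⟩
  · simp [hm] at h
  · simp only [hm, Option.map_some, Option.some.injEq] at h
    simp [bt, hm, h]

theorem clr_coord (w : Fin 20) (t : Fin 20 → F) : ∀ (L : List (Fin 20 × Fin 30)), (∀ p ∈ L, p ∈ nb w) →
    (L.map Prod.fst).Nodup → ∀ y : Fin 20 → F, clr L t y w = y w ∧
      (∀ p ∈ L, clr L t y p.1 = y p.1 + sg (bt p) * t p.1 * y w) ∧
      ∀ p ∈ nb w, p.1 ∉ L.map Prod.fst → clr L t y p.1 = y p.1
  | [], _, _, y => ⟨rfl, by simp, fun _ _ _ => rfl⟩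
  | q :: L, hL, hnd, y => by
    rw [List.map_cons, List.nodup_cons] at hnd
    have hq := hL q List.mem_cons_self
    obtain ⟨hqw, -, hqo⟩ := nb_spec w q hq
    obtain ⟨i1, i2, i3⟩ := clr_coord w t L (fun p hp => hL p (List.mem_cons_of_mem _ hp)) hnd.2 (act q.2 (t q.1) y)
    have hw : act q.2 (t q.1) y w = y w := act_none hqw _ _
    refine ⟨i1.trans hw, fun p hp => ?_, fun p hp hn => ?_⟩
    · show clr L t (act q.2 (t q.1) y) p.1 = _
      rcases List.mem_cons.1 hp with rfl | hp'
      · rw [i3 p hq hnd.1, act_some (mv_nb hq)]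
      · rw [i2 p hp', hw, act_none (hqo p (hL p hp) fun h => hnd.1 (h ▸ List.mem_map_of_mem hp'))]
    · rw [List.map_cons, List.mem_cons, not_or] at hn
      show clr L t (act q.2 (t q.1) y) p.1 = _
      rw [i3 p hp hn.2, act_none (hqo p hp hn.1)]

/-- The neighbour coordinates. -/
def nbS (w : Fin 20) : Finset (Fin 20) := ((nb w).map Prod.fst).toFinset

theorem card_nbS (w : Fin 20) : (nbS w).card = 9 := by
  rw [nbS, List.toFinset_card_of_nodup (nb_nodup w).1, (nb_nodup w).2.1]

theorem not_mem_nbS (w : Fin 20) : w ∉ nbS w := by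
  rw [nbS, List.mem_toFinset]; exact (nb_nodup w).2.2.1

theorem clr_nb (w : Fin 20) (t : Fin 20 → F) (y : Fin 20 → F) : clr (nb w) t y w = y w ∧
    ∀ p ∈ nb w, clr (nb w) t y p.1 = y p.1 + sg (bt p) * t p.1 * y w :=
  ⟨(clr_coord w t _ (fun _ h => h) (nb_nodup w).1 y).1, (clr_coord w t _ (fun _ h => h) (nb_nodup w).1 y).2.1⟩

theorem clr_below (w : Fin 20) : ∀ (L : List (Fin 20 × Fin 30)), (∀ p ∈ L, p ∈ nb w) →
    ∀ (t : Fin 20 → F), (∀ p ∈ L, ¬p.1 < w → t p.1 = 0) → ∀ (y : Fin 20 → F), (∀ s, w < s → y s = 0) →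
      ∀ s, w < s → clr L t y s = 0
  | [], _, _, _, y, hy, s, hs => hy s hs
  | q :: L, hL, t, ht, y, hy, s, hs => by
    refine clr_below w L (fun p hp => hL p (List.mem_cons_of_mem _ hp)) t
      (fun p hp => ht p (List.mem_cons_of_mem _ hp)) _ (fun s hs => ?_) s hs
    show act q.2 (t q.1) y s = 0
    rcases hm : mv q.2 s with _ | ⟨T, b⟩
    · rw [act_none hm, hy s hs]
    · rw [act_some hm, hy s hs]
      by_cases hlt : q.1 < w
      · have h := nb_down w q (hL q List.mem_cons_self) hlt s
        rw [hm] at h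
        simp only [decide_eq_true_eq] at h
        rw [hy T (hs.trans h)]; simp
      · rw [ht q List.mem_cons_self hlt]; simp

section Orbit

variable (m : (Fin 20 → F) → ℕ) (hact : ∀ a x y, m (act a x y) = m y)
  (hsc : ∀ (s : F), s ≠ 0 → ∀ y, m (s • y) = m y)
include hact hsc

theorem m_clr : ∀ (L : List (Fin 20 × Fin 30)) (t : Fin 20 → F) (y : Fin 20 → F), m (clr L t y) = m y
  | [], _, _ => rfl
  | p :: L, t, y => (m_clr L t _).trans (hact _ _ _)

variable [Fintype F]

/-- A large family with the same multiplicity from three normalised points. -/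
theorem big_of_three {w : Fin 20} {z : Fin 3 → Fin 20 → F} (hinj : Function.Injective z) {c : F} (hc : c ≠ 0)
    (hzw : ∀ i, z i w = c) (hznb : ∀ i, ∀ v ∈ nbS w, z i v = 0) {d : ℕ} (hm : ∀ i, m (z i) = d) :
    ∃ S : Finset (Fin 20 → F), (0 : Fin 20 → F) ∉ S ∧ S.card = (Fintype.card F - 1) * Fintype.card F ^ 9 * 3 ∧
      ∀ y ∈ S, m y = d := by
  classical
  let T := ((Fˣ × (↥(nbS w) → F)) × Fin 3)
  let tt : (↥(nbS w) → F) → Fin 20 → F := fun f v => if h : v ∈ nbS w then f ⟨v, h⟩ else 0
  let Φ : T → Fin 20 → F := fun x => (x.1.1 : F) • clr (nb w) (tt x.1.2) (z x.2)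
  have hv : ∀ x : T, Φ x w = (x.1.1 : F) * c ∧ ∀ p ∈ nb w, Φ x p.1 = (x.1.1 : F) * (sg (bt p) * tt x.1.2 p.1 * c) := by
    intro x
    obtain ⟨h1, h2⟩ := clr_nb w (tt x.1.2) (z x.2)
    refine ⟨by simp only [Φ, Pi.smul_apply, smul_eq_mul, h1, hzw], fun p hp => ?_⟩
    simp only [Φ, Pi.smul_apply, smul_eq_mul, h2 p hp, hzw,
      hznb x.2 p.1 (List.mem_toFinset.2 (List.mem_map_of_mem hp)), zero_add]
  have hΦ : Function.Injective Φ := by
    rintro ⟨⟨s, f⟩, i⟩ ⟨⟨s', f'⟩, i'⟩ h
    have hs : s = s' := by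
      have := congrFun h w
      rw [(hv _).1, (hv _).1] at this
      exact Units.ext (mul_right_cancel₀ hc this)
    subst hs
    have hf : f = f' := by
      funext ⟨v, hv'⟩
      obtain ⟨p, hp, rfl⟩ := List.mem_map.1 (List.mem_toFinset.1 hv')
      have := congrFun h p.1
      rw [(hv _).2 p hp, (hv _).2 p hp] at this
      have h3 := mul_left_cancel₀ (sg_ne (F := F) (bt p)) (mul_right_cancel₀ hc (mul_left_cancel₀ s.ne_zero this))
      simpa [tt, hv'] using h3
    subst hf
    have hi : i = i' := hinj (clr_injective _ _ (smul_right_injective _ s.ne_zero h))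
    rw [hi]
  refine ⟨Finset.univ.image Φ, ?_, ?_, ?_⟩
  · simp only [Finset.mem_image, Finset.mem_univ, true_and, not_exists]
    intro x h
    have := congrFun h w
    rw [(hv x).1, Pi.zero_apply] at this
    exact mul_ne_zero (Units.ne_zero _) hc this
  · rw [Finset.card_image_of_injective _ hΦ, Finset.card_univ, Fintype.card_prod, Fintype.card_prod, Fintype.card_units,
      Fintype.card_fun, Fintype.card_coe, card_nbS, Fintype.card_fin]
  · simp only [Finset.mem_image, Finset.mem_univ, true_and, forall_exists_index, forall_apply_eq_imp_iff]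
    intro x
    rw [show Φ x = (x.1.1 : F) • clr (nb w) (tt x.1.2) (z x.2) from rfl, hsc _ (Units.ne_zero _),
      m_clr m hact hsc, hm]

/-- A point with a coordinate away from the neighbours gives a large family. -/
theorem big_of_rest {w : Fin 20} {z : Fin 20 → F} (hw : z w ≠ 0) (hnb : ∀ v ∈ nbS w, z v = 0)
    (hne : ∃ v, v ≠ w ∧ z v ≠ 0) :
    ∃ S : Finset (Fin 20 → F), (0 : Fin 20 → F) ∉ S ∧ S.card = (Fintype.card F - 1) * Fintype.card F ^ 9 * 3 ∧
      ∀ y ∈ S, m y = m z := by
  classical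
  have hnb' : ∀ v ∈ (nb w).map Prod.fst, z v = 0 := fun v hv => hnb v (List.mem_toFinset.2 hv)
  have key : ∃ e ∈ rest w, z e.v ≠ 0 ∧ ∀ T, Zero w e T → z T = 0 := by
    by_cases h : ∃ e ∈ rest w, e.bot = false ∧ z e.v ≠ 0
    · obtain ⟨e, he, hb, hz⟩ := h
      refine ⟨e, he, hz, fun T hT => ?_⟩
      rcases hT with hT | ⟨hT, -⟩
      · exact hnb' T hT
      · rw [hb] at hT; exact absurd hT (by simp)
    · push Not at h
      obtain ⟨v, hvw, hv⟩ := hne
      rcases rest_cover w v with e | e | e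
      · exact absurd e hvw
      · exact absurd (hnb' v e) hv
      obtain ⟨e0, he0, rfl⟩ := List.mem_map.1 e
      refine ⟨e0, he0, hv, fun T hT => ?_⟩
      rcases hT with hT | ⟨hb, hT1, hT2⟩
      · exact hnb' T hT
      rcases rest_cover w T with e | e | e
      · exact absurd e hT1
      · exact hnb' T e
      obtain ⟨e1, he1, rfl⟩ := List.mem_map.1 e
      by_contra hz
      cases hb1 : e1.bot
      · exact hz (h e1 he1 hb1)
      · exact hT2 (bot_unique w e1 he1 e0 he0 hb1 hb)
  obtain ⟨e, he, hze, hzero⟩ := key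
  obtain ⟨-, -, h1, h2, hs12, h21, hpres⟩ := rest_spec w e he
  have hfix : ∀ a ∈ [e.a1, e.a2], ∀ s, (s = w ∨ s ∈ (nb w).map Prod.fst) → act a 1 z s = z s := by
    intro a ha s hs
    have h := hpres a ha s hs
    rcases hm : mv a s with _ | ⟨T, b⟩
    · exact act_none hm _ _
    · rw [hm] at h
      simp only [decide_eq_true_eq] at h
      rw [act_some hm, hzero T h]; simp
  let Z : Fin 3 → Fin 20 → F := ![z, act e.a1 1 z, act e.a2 1 z]
  obtain ⟨⟨T1, b1⟩, hm1, hT1⟩ := Option.map_eq_some_iff.1 h1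
  obtain ⟨⟨T2, b2⟩, hm2, hT2⟩ := Option.map_eq_some_iff.1 h2
  simp only at hT1 hT2
  subst hT1 hT2
  have d1 : act e.a1 1 z e.s1 ≠ z e.s1 := by
    rw [act_some hm1]; simp [hze, sg_ne]
  have d2 : act e.a2 1 z e.s2 ≠ z e.s2 := by
    rw [act_some hm2]; simp [hze, sg_ne]
  have hinj : Function.Injective Z := by
    intro i j h
    fin_cases i <;> fin_cases j <;> first | rfl | skip
    all_goals exfalso
    · exact d1 (congrFun h e.s1).symm
    · exact d2 (congrFun h e.s2).symm
    · exact d1 (congrFun h e.s1)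
    · exact d1 ((congrFun h e.s1).trans (act_none h21 _ _))
    · exact d2 (congrFun h e.s2)
    · exact d1 ((congrFun h e.s1).symm.trans (act_none h21 _ _))
  refine big_of_three m hact hsc (w := w) hinj hw ?_ ?_ ?_
  · intro i
    fin_cases i
    · rfl
    · exact hfix _ (by simp) w (Or.inl rfl)
    · exact hfix _ (by simp) w (Or.inl rfl)
  · intro i v hv
    have hv' := List.mem_toFinset.1 hv
    fin_cases i
    · exact hnb v hv
    · exact (hfix _ (by simp) v (Or.inr hv')).trans (hnb v hv)
    · exact (hfix _ (by simp) v (Or.inr hv')).trans (hnb v hv)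
  · intro i
    fin_cases i
    · rfl
    · exact hact _ _ _
    · exact hact _ _ _

theorem m_single_up (w : Fin 20) (hw : w.val < 19) :
    m (Pi.single w (1 : F)) = m (Pi.single (up w).1 1) := by
  obtain ⟨hlt, ha, ha', hs, hs'⟩ := up_spec w hw
  set v := (up w).1
  set a := (up w).2.1
  set a' := (up w).2.2
  obtain ⟨⟨T, b⟩, hm, hT⟩ := Option.map_eq_some_iff.1 ha
  obtain ⟨⟨T', b'⟩, hm', hT'⟩ := Option.map_eq_some_iff.1 ha'
  simp only at hT hT'
  rw [hT] at hm
  rw [hT'] at hm'
  have h1 : act a (sg b : F) (Pi.single w 1) = Pi.single w 1 + Pi.single v 1 := by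
    funext s
    by_cases hsv : s = v
    · subst hsv
      rw [act_some hm]
      simp [Pi.single_eq_of_ne hlt.ne', sg_mul_self]
    · rw [Pi.add_apply, Pi.single_eq_of_ne hsv, add_zero]
      rcases hms : mv a s with _ | ⟨T, c⟩
      · exact act_none hms _ _
      · have hT : T ≠ w := fun h => hs s hsv (by rw [hms, h]; rfl)
        rw [act_some hms, Pi.single_eq_of_ne hT]; simp
  have h2 : act a' (-(sg b') : F) (Pi.single w 1 + Pi.single v 1) = Pi.single v 1 := by
    funext s
    by_cases hsw : s = w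
    · subst hsw
      rw [act_some hm']
      simp [Pi.single_eq_of_ne hlt.ne, Pi.single_eq_of_ne hlt.ne', sg_mul_self]
    · rcases hms : mv a' s with _ | ⟨T, c⟩
      · rw [act_none hms]; simp [Pi.single_eq_of_ne hsw]
      · obtain ⟨hT1, hT2⟩ := hs' s hsw
        have e1 : T ≠ w := fun h => hT1 (by rw [hms, h]; rfl)
        have e2 : T ≠ v := fun h => hT2 (by rw [hms, h]; rfl)
        rw [act_some hms]; simp [Pi.single_eq_of_ne hsw, e1, e2]
  calc m (Pi.single w 1) = m (act a (sg b : F) (Pi.single w 1)) := (hact _ _ _).symm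
    _ = m (act a' (-(sg b') : F) (act a (sg b : F) (Pi.single w 1))) := (hact _ _ _).symm
    _ = _ := by rw [h1, h2]

theorem m_single (w : Fin 20) {c : F} (hc : c ≠ 0) : m (Pi.single w c) = m (Pi.single 19 1) := by
  classical
  have e : Pi.single (M := fun _ : Fin 20 => F) w c = c • Pi.single w 1 := by
    rw [← Pi.single_smul']; simp
  rw [e, hsc c hc]
  suffices h : ∀ k : ℕ, ∀ w : Fin 20, 19 - w.val ≤ k → m (Pi.single w (1 : F)) = m (Pi.single 19 1) from h _ w le_rfl
  intro k
  induction k with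
  | zero =>
    intro w hw
    rw [show w = 19 from Fin.ext (by have := w.isLt; show w.val = 19; omega)]
  | succ k ih =>
    intro w hw
    by_cases h19 : w.val < 19
    · rw [m_single_up m hact hsc w h19]
      have := (up_spec w h19).1
      exact ih _ (by rw [Fin.lt_def] at this; omega)
    · exact ih w (by omega)

variable [DecidableEq F]

/-- The lower neighbours. -/
def lowS (w : Fin 20) : Finset (Fin 20) := (nbS w).filter (· < w)

omit hact hsc [Fintype F] [DecidableEq F] in
theorem card_lowS (w : Fin 20) : (lowS w).card = lw w := by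
  have h := (nb_nodup w).2.2.2
  rw [← h, ← List.toFinset_card_of_nodup ((nb_nodup w).1.filter _), lowS, nbS]
  congr 1
  ext v
  simp

/-- The point of the small orbit with given parameters. -/
def build (x : Σ w : Fin 20, Fˣ × (↥(lowS w) → F)) : Fin 20 → F :=
  clr (nb x.1) (fun v => if h : v ∈ lowS x.1 then
      sg (((nb x.1).find? fun p => p.1 == v).map bt |>.getD true) * x.2.2 ⟨v, h⟩ / (x.2.1 : F) else 0)
    (Pi.single x.1 (x.2.1 : F))

omit hact hsc [Fintype F] in
theorem find_nb {w : Fin 20} {p : Fin 20 × Fin 30} (hp : p ∈ nb w) :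
    (nb w).find? (fun q => q.1 == p.1) = some p := by
  rcases h : (nb w).find? (fun q => q.1 == p.1) with _ | q
  · exact absurd (List.find?_eq_none.1 h p hp) (by simp)
  · have hq := List.find?_some h
    simp only [beq_iff_eq] at hq
    rw [List.inj_on_of_nodup_map (nb_nodup w).1 (List.mem_of_find?_eq_some h) hp hq] at h
    exact h

omit hact hsc [Fintype F] in
theorem build_spec (x : Σ w : Fin 20, Fˣ × (↥(lowS w) → F)) :
    build x x.1 = (x.2.1 : F) ∧ (∀ s, x.1 < s → build x s = 0) ∧
      ∀ v (h : v ∈ lowS x.1), build x v = x.2.2 ⟨v, h⟩ := by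
  obtain ⟨w, c, f⟩ := x
  refine ⟨?_, ?_, ?_⟩
  · rw [build, (clr_nb _ _ _).1]; simp
  · refine clr_below w _ (fun _ h => h) _ (fun p _ hlt => ?_) _ (fun s hs => Pi.single_eq_of_ne hs.ne' _)
    rw [dif_neg]
    exact fun h => hlt (Finset.mem_filter.1 h).2
  · intro v hv
    obtain ⟨p, hp, rfl⟩ := List.mem_map.1 (List.mem_toFinset.1 (Finset.mem_filter.1 hv).1)
    rw [build, (clr_nb _ _ _).2 p hp, dif_pos hv, find_nb hp]
    have hpw : p.1 ≠ w := (Finset.mem_filter.1 hv).2.ne
    simp only [Option.map_some, Option.getD_some, Pi.single_eq_same, Pi.single_eq_of_ne hpw, zero_add]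
    calc sg (bt p) * (sg (bt p) * f ⟨p.1, hv⟩ / (c : F)) * (c : F)
        = (sg (bt p) * sg (bt p)) * f ⟨p.1, hv⟩ * ((c : F) / c) := by ring
      _ = _ := by rw [sg_mul_self, div_self c.ne_zero, one_mul, mul_one]

omit hact hsc [Fintype F] in
theorem build_injective : Function.Injective (build (F := F)) := by
  rintro ⟨w, c, f⟩ ⟨w', c', f'⟩ h
  obtain ⟨a1, a2, a3⟩ := build_spec (⟨w, c, f⟩ : Σ w : Fin 20, Fˣ × (↥(lowS w) → F))
  obtain ⟨b1, b2, b3⟩ := build_spec (⟨w', c', f'⟩ : Σ w : Fin 20, Fˣ × (↥(lowS w) → F))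
  rw [← h] at b1 b2 b3
  have hw : w = w' := by
    rcases lt_trichotomy w w' with h' | h' | h'
    · exact absurd (b1.symm.trans (a2 w' h')) c'.ne_zero
    · exact h'
    · exact absurd (a1.symm.trans (b2 w h')) c.ne_zero
  subst hw
  obtain rfl : c = c' := Units.ext (a1.symm.trans b1)
  obtain rfl : f = f' := funext fun ⟨v, hv⟩ => (a3 v hv).symm.trans (b3 v hv)
  rfl

/-- The size of the small orbit. -/
def orbSize (q : ℕ) : ℕ := ∑ w : Fin 20, (q - 1) * q ^ lw w

/-- The dichotomy. -/
theorem dichotomy {ψ : AddChar F ℂ} (hψ : ψ ≠ 1) {M : ℕ} (hM : 0 < M)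
    (hid : ∑ y : Fin 20 → F, (m y : ℂ) * (1 - ψ (y 19)) = M) :
    (Fintype.card F - 1) * Fintype.card F ^ 9 * 3 ≤ ∑ y, m y ∨
      ∃ m1, 0 < m1 ∧ ∑ y, m y = m 0 + m1 * orbSize (Fintype.card F) ∧ M = m1 * Fintype.card F ^ 10 := by
  classical
  refine or_iff_not_imp_left.2 fun hsmall => ?_
  have hpure : ∀ (w : Fin 20) (z : Fin 20 → F), 0 < m z → z w ≠ 0 → (∀ v ∈ nbS w, z v = 0) →
      z = Pi.single w (z w) := by
    intro w z hm hw hnb
    by_contra hne
    obtain ⟨v, hv⟩ := Function.ne_iff.1 hne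
    have hvw : v ≠ w := fun e => by subst e; simp at hv
    rw [Pi.single_eq_of_ne hvw] at hv
    obtain ⟨S, -, hcard, hS⟩ := big_of_rest m hact hsc hw hnb ⟨v, hvw, hv⟩
    refine hsmall ?_
    rw [← hcard, Finset.card_eq_sum_ones]
    refine le_trans ?_ (Finset.sum_le_sum_of_subset (Finset.subset_univ S))
    exact Finset.sum_le_sum fun y hy => by rw [hS y hy]; exact hm
  let tOf : Fin 20 → (Fin 20 → F) → Fin 20 → F := fun w y v =>
    -(sg (((nb w).find? fun p => p.1 == v).map bt |>.getD true) * y v / y w)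
  have hclear : ∀ (w : Fin 20) (y : Fin 20 → F), 0 < m y → y w ≠ 0 →
      clr (nb w) (tOf w y) y = Pi.single w (y w) := by
    intro w y hm hw
    obtain ⟨h1, h2⟩ := clr_nb w (tOf w y) y
    have := hpure w (clr (nb w) (tOf w y) y) (by rwa [m_clr m hact hsc]) (by rwa [h1]) (fun v hv => by
      obtain ⟨p, hp, rfl⟩ := List.mem_map.1 (List.mem_toFinset.1 hv)
      rw [h2 p hp]
      simp only [tOf, find_nb hp, Option.map_some, Option.getD_some]
      calc y p.1 + sg (bt p) * -(sg (bt p) * y p.1 / y w) * y w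
          = y p.1 - (sg (bt p) * sg (bt p)) * y p.1 * (y w / y w) := by ring
        _ = 0 := by rw [sg_mul_self, div_self hw]; ring)
    rwa [h1] at this
  set m1 := m (Pi.single 19 (1 : F)) with hm1
  have hval : ∀ y, y ≠ 0 → 0 < m y → m y = m1 := by
    intro y hy hm
    obtain ⟨w, hw⟩ := Function.ne_iff.1 hy
    rw [← m_clr m hact hsc (nb w) (tOf w y) y, hclear w y hm hw, m_single m hact hsc w hw]
  have hex : ∃ y, y ≠ 0 ∧ 0 < m y := by
    by_contra h
    push Not at h
    have : ∑ y : Fin 20 → F, (m y : ℂ) * (1 - ψ (y 19)) = 0 := Finset.sum_eq_zero fun y _ => by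
      by_cases hy : y = 0
      · subst hy; simp
      · rw [Nat.le_zero.1 (h y hy)]; simp
    rw [this] at hid
    exact hM.ne' (by exact_mod_cast hid.symm)
  have hm1pos : 0 < m1 := by
    obtain ⟨y, hy, hm⟩ := hex
    rwa [hval y hy hm] at hm
  have hbuild : ∀ x, m (build x) = m1 := fun x => by
    rw [build, m_clr m hact hsc, m_single m hact hsc _ (Units.ne_zero _)]
  have hsurj : ∀ y, y ≠ 0 → 0 < m y → ∃ x, build x = y := by
    intro y hy hm
    have hne : (Finset.univ.filter fun s => y s ≠ 0).Nonempty := by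
      obtain ⟨w, hw⟩ := Function.ne_iff.1 hy
      exact ⟨w, by simpa using hw⟩
    obtain ⟨w, hwm, hmax⟩ := (Finset.univ.filter fun s => y s ≠ 0).exists_max_image id hne
    simp only [Finset.mem_filter, Finset.mem_univ, true_and, id] at hwm hmax
    have habove : ∀ s, w < s → y s = 0 := fun s hs => by_contra fun h => absurd (hmax s h) (not_le.2 hs)
    let x : Σ w : Fin 20, Fˣ × (↥(lowS w) → F) := ⟨w, Units.mk0 (y w) hwm, fun v => y v⟩
    refine ⟨x, ?_⟩
    obtain ⟨b1, b2, b3⟩ := build_spec x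
    have hmb : 0 < m (build x) := by rw [hbuild]; exact hm1pos
    have hb1 : build x w = y w := b1
    have hnb : ∀ v ∈ nbS w, build x v = y v := by
      intro v hv
      by_cases hlt : v < w
      · exact b3 v (Finset.mem_filter.2 ⟨hv, hlt⟩)
      · have hgt : w < v := lt_of_le_of_ne (not_lt.1 hlt) fun e => not_mem_nbS w (e ▸ hv)
        rw [b2 v hgt, habove v hgt]
    have e1 := hclear w (build x) hmb (by rw [hb1]; exact hwm)
    rw [hb1] at e1
    refine clr_injective (nb w) (tOf w y) ((Eq.trans ?_ e1).trans (hclear w y hm hwm).symm)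
    have : ∀ L : List (Fin 20 × Fin 30), (∀ p ∈ L, p ∈ nb w) → ∀ z : Fin 20 → F,
        clr L (tOf w y) z = clr L (tOf w (build x)) z := by
      intro L
      induction L with
      | nil => intros; rfl
      | cons p L ih =>
        intro hL z
        show clr L _ (act p.2 _ z) = clr L _ (act p.2 _ z)
        rw [ih (fun q hq => hL q (List.mem_cons_of_mem _ hq))]
        simp only [tOf, hnb p.1 (List.mem_toFinset.2 (List.mem_map_of_mem (hL p List.mem_cons_self))), hb1]
    exact this _ (fun _ h => h) _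
  have hsum : ∀ f : (Fin 20 → F) → ℂ, ∑ y, (m y : ℂ) * f y =
      (m 0 : ℂ) * f 0 + (m1 : ℂ) * ∑ x : Σ w : Fin 20, Fˣ × (↥(lowS w) → F), f (build x) := by
    intro f
    rw [← Finset.add_sum_erase Finset.univ _ (Finset.mem_univ (0 : Fin 20 → F))]
    congr 1
    rw [Finset.mul_sum]
    have h0 : ∀ x, build x ≠ (0 : Fin 20 → F) := fun x h => x.2.1.ne_zero (by
      rw [← (build_spec x).1, h, Pi.zero_apply])
    symm
    rw [← Finset.sum_subset (show Finset.univ.image build ⊆ (Finset.univ : Finset (Fin 20 → F)).erase 0 by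
      intro y hy
      obtain ⟨x, -, rfl⟩ := Finset.mem_image.1 hy
      exact Finset.mem_erase.2 ⟨h0 x, Finset.mem_univ _⟩) (fun y hy hn => by
      have : ¬0 < m y := fun hm => hn (by
        obtain ⟨x, rfl⟩ := hsurj y (Finset.ne_of_mem_erase hy) hm
        exact Finset.mem_image_of_mem _ (Finset.mem_univ x))
      rw [Nat.eq_zero_of_not_pos this, Nat.cast_zero, zero_mul]),
      Finset.sum_image build_injective.injOn]
    exact Finset.sum_congr rfl fun x _ => by rw [hbuild]
  refine ⟨m1, hm1pos, ?_, ?_⟩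
  · have h := hsum fun _ => 1
    simp only [mul_one, Finset.sum_const, Finset.card_univ, Fintype.card_sigma, Fintype.card_prod, Fintype.card_units,
      Fintype.card_fun, Fintype.card_coe, card_lowS, nsmul_eq_mul] at h
    exact_mod_cast h
  · have h := hsum fun y => 1 - ψ (y 19)
    rw [hid, Pi.zero_apply, AddChar.map_zero_eq_one, sub_self, mul_zero, zero_add, Fintype.sum_sigma,
      Finset.sum_eq_single (19 : Fin 20)] at h
    · simp only [fun p : Fˣ × (↥(lowS (19 : Fin 20)) → F) => (build_spec ⟨(19 : Fin 20), p⟩).1] at h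
      rw [Fintype.sum_prod_type] at h
      simp only [Finset.sum_const, Finset.card_univ, Fintype.card_fun, Fintype.card_coe, card_lowS, lw_top,
        ← Finset.smul_sum] at h
      have hu : ∑ c : Fˣ, (1 - ψ (c : F)) = (Fintype.card F : ℂ) := by
        have h2 : ∑ c : F, (1 - ψ c) = (Fintype.card F : ℂ) := by
          rw [Finset.sum_sub_distrib, AddChar.sum_eq_zero_of_ne_one hψ]; simp
        rw [← h2, ← Finset.sum_subset (Finset.subset_univ ((Finset.univ : Finset Fˣ).image Units.val))
          (fun c _ hc => by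
            by_cases h0 : c = 0
            · subst h0; simp
            · exact absurd (Finset.mem_image.2 ⟨Units.mk0 c h0, Finset.mem_univ _, rfl⟩) hc),
          Finset.sum_image Units.val_injective.injOn]
      rw [hu, nsmul_eq_mul] at h
      have : (M : ℂ) = ((m1 * Fintype.card F ^ 10 : ℕ) : ℂ) := by rw [h]; push_cast; ring
      exact_mod_cast this
    · intro w _ hw
      refine Finset.sum_eq_zero fun p _ => ?_
      have hlt : w < (19 : Fin 20) := lt_of_le_of_ne (Fin.le_def.2 (by have := w.isLt; show w.val ≤ 19; omega)) hw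
      rw [(build_spec ⟨w, p⟩).2.1 19 hlt, AddChar.map_zero_eq_one, sub_self]
    · simp

end Orbit

end Cfsg.Agent.Lib.E6Deg29
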