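import Cfsg.Agent.Lib.E6Deg29.Fields

/-!
The orbit dichotomy in the twisted case: either an orbit is large, or every character that occurs lies in
the orbit of a fixed coordinate vector, whose size is computed exactly.
-/

set_option autoImplicit false
set_option linter.unusedSectionVars false
set_option linter.unusedVariables false

namespace Cfsg.Agent.Lib.E6Deg29.Tw

variable {K : Type*} [Field K]

/-- The sign at a neighbour. -/
def btv (w v : Fin 20) : Bool := (((nb w).find? fun p => p.1 == v).map bt).getD true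

theorem btv_nb {w : Fin 20} {p : Fin 20 × Fin 30} (hp : p ∈ nb w) : btv w p.1 = bt p := by
  have h : (nb w).find? (fun q => q.1 == p.1) = some p := by
    rcases h : (nb w).find? (fun q => q.1 == p.1) with _ | q
    · exact absurd (List.find?_eq_none.1 h p hp) (by simp)
    · have hq := List.find?_some h
      simp only [beq_iff_eq] at hq
      rw [List.inj_on_of_nodup_map (nb_nodup w).1 (List.mem_of_find?_eq_some h) hp hq] at h
      exact h
  simp [btv, h]

/-- The parameters adding given values at the neighbours. -/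
noncomputable def tC (w : Fin 20) (f : Fin 20 → K) (c : K) : Fin 20 → K := fun v => sg (btv w v) * f v / c

theorem tC_mul {w : Fin 20} {p : Fin 20 × Fin 30} (hp : p ∈ nb w) (f : Fin 20 → K) {c : K} :
    sg (bt p) * tC w f c p.1 = f p.1 / c := by
  simp only [tC, btv_nb hp]
  rw [mul_div_assoc', ← mul_assoc, sg_mul_self, one_mul]

theorem clr_append : ∀ (L L' : List (Fin 20 × Fin 30)) (t Y : Fin 20 → K),
    clr (L ++ L') t Y = clr L' t (clr L t Y)
  | [], _, _, _ => rfl
  | p :: L, L', t, Y => clr_append L L' t _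

theorem act_zero (a : Fin 30) (y : Fin 20 → K) : act a 0 y = y := by
  funext s
  rcases h : mv a s with _ | ⟨T, b⟩
  · exact act_none h _ _
  · rw [act_some h]; simp

theorem expand_cons (p : Fin 20 × Fin 30) (G : List (Fin 20 × Fin 30)) :
    expandL (p :: G) = pairL p ++ expandL G := rfl

/-- The remaining neighbours at a moved maximal weight. -/
def lowG (v : Fin 20) : List (Fin 20 × Fin 30) :=
  (grp (lowT v).1).filter fun p => p.1 != v && p.1 != p20 v

theorem low_perm : ∀ v, p20 v < v →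
    List.Perm ((v, (lowT v).2.2.2) :: (p20 v, p30 (lowT v).2.2.2) :: expandL (lowG v)) (nb (lowT v).1) ∧
      p30 (lowT v).2.2.2 ≠ (lowT v).2.2.2 ∧
      ∀ p ∈ nb (lowT v).1, (match mv p.2 (lowT v).2.2.1 with
        | none => true
        | some q => decide (q.1 ∈ (nb (lowT v).1).map Prod.fst)) = true := by
  decide +kernel

variable {φ : K ≃+* K} (h2 : ∀ x : K, φ (φ x) = x)
include h2

theorem tC_cons {w : Fin 20} (hw : p20 w = w) {p : Fin 20 × Fin 30} (hp : p ∈ nb w) {f : Fin 20 → K}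
    (hf : f (p20 p.1) = sg (e20 p.1) * φ (f p.1)) {c : K} (hc : φ c = c) :
    tC w f c (p20 p.1) = sg (e30 p.2) * φ (tC w f c p.1) := by
  obtain ⟨hq, hs, -⟩ := sign_spec w hw p hp
  have e := congrArg (sg : Bool → K) hs
  rw [sg_beq, sg_beq] at e
  simp only [tC]
  rw [show btv w (p20 p.1) = bt (p20 p.1, p30 p.2) from btv_nb hq, btv_nb hp, hf, map_div₀, map_mul, φ_sg, hc,
    ← mul_assoc, e]
  ring

section Orbit

variable (m : (Fin 20 → K) → ℕ) (hsym : ∀ Y, 0 < m Y → Sym φ Y)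
  (hfix : ∀ a, p30 a = a → ∀ x, φ x = x → ∀ Y, m (act a x Y) = m Y)
  (hpair : ∀ a, p30 a ≠ a → ∀ x Y, m (act (p30 a) (sg (e30 a) * φ x) (act a x Y)) = m Y)
  (hsc : ∀ s : K, φ s = s → s ≠ 0 → ∀ Y, m (s • Y) = m Y)
include hsym hfix hpair hsc

theorem m_expand : ∀ (G : List (Fin 20 × Fin 30)), (∀ p ∈ G, (p20 p.1 = p.1 ↔ p30 p.2 = p.2)) →
    ∀ (t : Fin 20 → K), (∀ p ∈ G, t (p20 p.1) = sg (e30 p.2) * φ (t p.1)) →
      ∀ Y, m (clr (expandL G) t Y) = m Y
  | [], _, _, _, _ => rfl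
  | p :: G, hG, t, ht, Y => by
    rw [expand_cons, clr_append,
      m_expand G (fun q hq => hG q (List.mem_cons_of_mem _ hq)) t (fun q hq => ht q (List.mem_cons_of_mem _ hq))]
    have hiff := hG p List.mem_cons_self
    have htp := ht p List.mem_cons_self
    unfold pairL
    by_cases hp : p20 p.1 = p.1
    · rw [if_pos hp]
      show m (act p.2 (t p.1) Y) = m Y
      have hp' := hiff.1 hp
      rw [hp, (p30_inv p.2).2 hp', sg_true, one_mul] at htp
      exact hfix p.2 hp' _ htp.symm Y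
    · rw [if_neg hp]
      show m (act (p30 p.2) (t (p20 p.1)) (act p.2 (t p.1) Y)) = m Y
      rw [htp]
      exact hpair p.2 (fun h => hp (hiff.2 h)) _ Y

theorem clrT {w : Fin 20} (hw : p20 w = w) (f : Fin 20 → K)
    (hf : ∀ p ∈ nb w, f (p20 p.1) = sg (e20 p.1) * φ (f p.1)) {c : K} (hc : φ c = c) (Y : Fin 20 → K) :
    m (clr (expandL (grp w)) (tC w f c) Y) = m Y ∧
    clr (expandL (grp w)) (tC w f c) Y w = Y w ∧
    ∀ p ∈ nb w, clr (expandL (grp w)) (tC w f c) Y p.1 = Y p.1 + f p.1 / c * Y w := by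
  obtain ⟨hperm, hg⟩ := grp_spec w hw
  have hL : ∀ p ∈ expandL (grp w), p ∈ nb w := fun p hp => hperm.mem_iff.1 hp
  have hnd : ((expandL (grp w)).map Prod.fst).Nodup := (hperm.map Prod.fst).nodup_iff.2 (nb_nodup w).1
  obtain ⟨h1, h3, -⟩ := clr_coord w (tC w f c) _ hL hnd Y
  refine ⟨m_expand h2 m hsym hfix hpair hsc _ (fun p hp => (hg p hp).2.2) _
    (fun p hp => tC_cons h2 hw (hg p hp).1 (hf p (hg p hp).1) hc) Y, h1, fun p hp => ?_⟩
  rw [h3 p (hperm.mem_iff.2 hp), tC_mul hp]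

variable [Fintype K] [DecidableEq K] {ω : K} (hω : φ ω ≠ ω)
include hω

/-- A large family with the same multiplicity from two normalised points. -/
theorem big_of_two {w : Fin 20} (hw : p20 w = w) {z : Fin 2 → Fin 20 → K} (hinj : Function.Injective z) {c : K}
    (hc : c ≠ 0) (hcφ : φ c = c) (hzw : ∀ i, z i w = c) (hznb : ∀ i, ∀ v ∈ nbS w, z i v = 0) {d : ℕ}
    (hm : ∀ i, m (z i) = d) [Fintype (Fx φ)] :
    ∃ S : Finset (Fin 20 → K), S.card = (Fintype.card (Fx φ) - 1) * Fintype.card (Fx φ) ^ 9 * 2 ∧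
      ∀ y ∈ S, m y = d := by
  classical
  let T := (((Fx φ)ˣ × (↥(nbS w) → Fx φ)) × Fin 2)
  let ext : (↥(nbS w) → Fx φ) → Fin 20 → Fx φ := fun f v => if h : v ∈ nbS w then f ⟨v, h⟩ else 0
  let fE : (↥(nbS w) → Fx φ) → Fin 20 → K := fun f => emb φ ω (ext f)
  have hstab : ∀ v, p20 v ∈ nbS w → v ∈ nbS w := fun v hv => by
    obtain ⟨p, hp, e⟩ := List.mem_map.1 (List.mem_toFinset.1 hv)
    obtain ⟨h1, -⟩ := sign_spec w hw p hp
    refine List.mem_toFinset.2 (List.mem_map.2 ⟨_, h1, ?_⟩)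
    show p20 p.1 = v
    rw [e, (p20_inv v).1]
  have hfE : ∀ f v, v ∉ nbS w → fE f v = 0 := by
    intro f v hv
    have hpv : p20 v ∉ nbS w := fun h => hv (hstab v h)
    simp only [fE, emb, ext, dif_neg hv, dif_neg hpv]
    split_ifs <;> simp
  have hfsym : ∀ f, ∀ p ∈ nb w, fE f (p20 p.1) = sg (e20 p.1) * φ (fE f p.1) := fun f p _ => emb_sym h2 ω _ p.1
  let Φ : T → Fin 20 → K := fun x => ((x.1.1 : Fx φ) : K) • clr (expandL (grp w)) (tC w (fE x.1.2) c) (z x.2)
  have hv : ∀ x : T, Φ x w = ((x.1.1 : Fx φ) : K) * c ∧ ∀ p ∈ nb w, Φ x p.1 = ((x.1.1 : Fx φ) : K) * fE x.1.2 p.1 := by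
    intro x
    obtain ⟨-, h1, h3⟩ := clrT h2 m hsym hfix hpair hsc hw (fE x.1.2) (hfsym _) hcφ (z x.2)
    refine ⟨by simp only [Φ, Pi.smul_apply, smul_eq_mul, h1, hzw], fun p hp => ?_⟩
    simp only [Φ, Pi.smul_apply, smul_eq_mul, h3 p hp, hzw,
      hznb x.2 p.1 (List.mem_toFinset.2 (List.mem_map_of_mem hp)), zero_add, div_mul_cancel₀ _ hc]
  have hne : ∀ s : (Fx φ)ˣ, ((s : Fx φ) : K) ≠ 0 := fun s h => s.ne_zero (Subtype.ext h)
  have hΦ : Function.Injective Φ := by
    rintro ⟨⟨s, f⟩, i⟩ ⟨⟨s', f'⟩, i'⟩ h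
    have hs : s = s' := by
      have := congrFun h w
      rw [(hv _).1, (hv _).1] at this
      exact Units.ext (Subtype.ext (mul_right_cancel₀ hc this))
    subst hs
    have hf : f = f' := by
      have hE : fE f = fE f' := by
        funext v
        by_cases hv' : v ∈ nbS w
        · obtain ⟨p, hp, rfl⟩ := List.mem_map.1 (List.mem_toFinset.1 hv')
          have := congrFun h p.1
          rw [(hv _).2 p hp, (hv _).2 p hp] at this
          exact mul_left_cancel₀ (hne s) this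
        · rw [hfE f v hv', hfE f' v hv']
      funext ⟨v, hv'⟩
      simpa [ext, hv'] using congrFun (emb_injective h2 hω hE) v
    subst hf
    have hi : i = i' := hinj (clr_injective _ _ (smul_right_injective _ (hne s) h))
    rw [hi]
  refine ⟨Finset.univ.image Φ, ?_, ?_⟩
  · rw [Finset.card_image_of_injective _ hΦ, Finset.card_univ, Fintype.card_prod, Fintype.card_prod,
      Fintype.card_units, Fintype.card_fun, Fintype.card_coe, card_nbS, Fintype.card_fin]
  · simp only [Finset.mem_image, Finset.mem_univ, true_and, forall_exists_index, forall_apply_eq_imp_iff]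
    intro x
    rw [show Φ x = ((x.1.1 : Fx φ) : K) • clr (expandL (grp w)) (tC w (fE x.1.2) c) (z x.2) from rfl,
      hsc _ (fx_val _) (hne _), (clrT h2 m hsym hfix hpair hsc hw (fE x.1.2) (hfsym _) hcφ (z x.2)).1, hm]

/-- A normalised point with another coordinate gives a large family. -/
theorem big_of_restT {w : Fin 20} (hw : p20 w = w) {z : Fin 20 → K} (hz : z w ≠ 0) (hzφ : φ (z w) = z w)
    (hnb : ∀ v ∈ nbS w, z v = 0) (hne : ∃ v, v ≠ w ∧ z v ≠ 0) [Fintype (Fx φ)] :
    ∃ S : Finset (Fin 20 → K), S.card = (Fintype.card (Fx φ) - 1) * Fintype.card (Fx φ) ^ 9 * 2 ∧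
      ∀ y ∈ S, m y = m z := by
  classical
  have hnb' : ∀ v ∈ (nb w).map Prod.fst, z v = 0 := fun v hv => hnb v (List.mem_toFinset.2 hv)
  have hwn : w ∉ (nb w).map Prod.fst := (nb_nodup w).2.2.1
  have key : ∃ e ∈ restT w, z e.1 ≠ 0 ∧ (e.2.2.2 = true → ∀ T, T ≠ w → T ≠ e.1 → z T = 0) := by
    by_cases h : ∃ e ∈ restT w, e.2.2.2 = false ∧ z e.1 ≠ 0
    · obtain ⟨e, he, hb, hze⟩ := h
      exact ⟨e, he, hze, fun h => absurd h (by rw [hb]; simp)⟩
    · push Not at h
      obtain ⟨v, hvw, hv⟩ := hne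
      rcases restT_cover w hw v with e | e | e
      · exact absurd e hvw
      · exact absurd (hnb' v e) hv
      obtain ⟨e0, he0, rfl⟩ := List.mem_map.1 e
      refine ⟨e0, he0, hv, fun hb T hT1 hT2 => ?_⟩
      rcases restT_cover w hw T with e | e | e
      · exact absurd e hT1
      · exact hnb' T e
      obtain ⟨e1, he1, rfl⟩ := List.mem_map.1 e
      by_contra hzT
      cases hb1 : e1.2.2.2
      · exact hzT (h e1 he1 hb1)
      · exact hT2 (botT_unique w e1 he1 e0 he0 hb1 hb)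
  obtain ⟨⟨v, a, s, bot⟩, he, hze, hzero⟩ := key
  obtain ⟨h1, hcase, hpres⟩ := restT_spec w hw _ he
  simp only at h1 hcase hpres hze hzero
  obtain ⟨⟨T, b⟩, hm1, hT⟩ := Option.map_eq_some_iff.1 h1
  simp only at hT
  rw [hT] at hm1
  have hZ : ∀ T, (T ∈ (nb w).map Prod.fst ∨ (bot = true ∧ T ≠ w ∧ T ≠ v)) → z T = 0 := by
    rintro T (hT | ⟨hb, hT1, hT2⟩)
    · exact hnb' T hT
    · exact hzero hb T hT1 hT2
  have hfix1 : ∀ r, (r = w ∨ r ∈ (nb w).map Prod.fst) → act a 1 z r = z r := by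
    intro r hr
    have h := hpres a (by simp) r hr
    rcases hm : mv a r with _ | ⟨T, c⟩
    · exact act_none hm _ _
    · rw [hm] at h
      simp only [decide_eq_true_eq] at h
      rw [act_some hm, hZ T h]; simp
  have hone : act a 1 z s ≠ z s := by rw [act_some hm1]; simp [hze, sg_ne]
  obtain ⟨z2, hz2m, hz2ne, hz2fix⟩ : ∃ z2, m z2 = m z ∧ z2 ≠ z ∧
      ∀ r, (r = w ∨ r ∈ (nb w).map Prod.fst) → z2 r = z r := by
    cases bot with
    | true =>
      simp only [if_true] at hcase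
      exact ⟨act a 1 z, hfix a hcase 1 (map_one φ) z, fun h => hone (congrFun h s), hfix1⟩
    | false =>
      simp only [Bool.false_eq_true, if_false] at hcase
      refine ⟨act (p30 a) (sg (e30 a) * φ 1) (act a 1 z), hpair a hcase.1 1 z, fun h => hone ?_, fun r hr => ?_⟩
      · have := congrFun h s
        rwa [act_none hcase.2] at this
      · have h := hpres (p30 a) (by simp) r hr
        rcases hm : mv (p30 a) r with _ | ⟨T, c⟩
        · rw [act_none hm]; exact hfix1 r hr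
        · rw [hm] at h
          simp only [decide_eq_true_eq, Bool.false_eq_true, false_and, or_false] at h
          rw [act_some hm, hfix1 T (Or.inr h), hnb' T h, mul_zero, add_zero]
          exact hfix1 r hr
  refine big_of_two h2 m hsym hfix hpair hsc hω hw (z := ![z, z2]) ?_ hz hzφ ?_ ?_ ?_
  · intro i j h
    fin_cases i <;> fin_cases j <;> first | rfl | skip
    · exact absurd h.symm hz2ne
    · exact absurd h hz2ne
  · intro i; fin_cases i
    · rfl
    · exact hz2fix w (Or.inl rfl)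
  · intro i u hu
    fin_cases i
    · exact hnb u hu
    · exact (hz2fix u (Or.inr (List.mem_toFinset.1 hu))).trans (hnb u hu)
  · intro i; fin_cases i
    · rfl
    · exact hz2m

variable [Fintype (Fx φ)]

/-- Purity: under the smallness hypothesis a normalised point is a coordinate vector. -/
def Pure (φ : K ≃+* K) (m : (Fin 20 → K) → ℕ) : Prop :=
  ∀ w, p20 w = w → ∀ z : Fin 20 → K, 0 < m z → z w ≠ 0 → (∀ v ∈ nbS w, z v = 0) → z = Pi.single w (z w)

theorem pure_of_small
    (hsmall : ¬(Fintype.card (Fx φ) - 1) * Fintype.card (Fx φ) ^ 9 * 2 ≤ ∑ y, m y) : Pure φ m := by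
  classical
  intro w hw z hm hz hnb
  by_contra hne
  obtain ⟨v, hv⟩ := Function.ne_iff.1 hne
  have hvw : v ≠ w := fun e => by subst e; simp at hv
  rw [Pi.single_eq_of_ne hvw] at hv
  obtain ⟨S, hcard, hS⟩ := big_of_restT h2 m hsym hfix hpair hsc hω hw hz
    (Sym.fixed h2 (hsym z hm) hw) hnb ⟨v, hvw, hv⟩
  refine hsmall ?_
  rw [← hcard, Finset.card_eq_sum_ones]
  refine le_trans ?_ (Finset.sum_le_sum_of_subset (Finset.subset_univ S))
  exact Finset.sum_le_sum fun y hy => by rw [hS y hy]; exact hm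

/-- A maximal coordinate of an occurring point is fixed by the symmetry. -/
theorem max_fixed (hpure : Pure φ m) {Y : Fin 20 → K} (hm : 0 < m Y) {v : Fin 20} (hv : Y v ≠ 0)
    (hab : ∀ s, v < s → Y s = 0) : p20 v = v := by
  classical
  by_contra hfixv
  have hsY := hsym Y hm
  have hlt : p20 v < v := by
    refine lt_of_le_of_ne ?_ hfixv
    by_contra hgt
    have := hab _ (not_le.1 hgt)
    rw [hsY v] at this
    exact mul_ne_zero (sg_ne _) (fun h => hv (φ.injective (h.trans (map_zero φ).symm))) this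
  obtain ⟨hw, hwv, ha, ha1, hb1, hsign, hsrc, hpos, hav, hvu, hu, hu1, hu2, hrest⟩ := lowT_spec v hlt
  obtain ⟨hperm, hav', hsrc2⟩ := low_perm v hlt
  set w := (lowT v).1
  set a := (lowT v).2.1
  set u := (lowT v).2.2.1
  set av := (lowT v).2.2.2
  obtain ⟨⟨T, ba⟩, hma, hT⟩ := Option.map_eq_some_iff.1 ha1
  simp only at hT; rw [hT] at hma
  obtain ⟨⟨T, bb⟩, hmb, hT⟩ := Option.map_eq_some_iff.1 hb1
  simp only at hT; rw [hT] at hmb
  simp only [hma, hmb, Option.map_some, Option.getD_some] at hsign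
  -- a parameter making the fixed coordinate non-zero
  obtain ⟨x, hx⟩ : ∃ x : K, Y w + (sg ba * x * Y v + φ (sg ba * x * Y v)) ≠ 0 := by
    by_cases h : Y w = 0
    · obtain ⟨ξ, hξ⟩ := exists_tr h2 hω
      refine ⟨ξ / (sg ba * Y v), ?_⟩
      rw [h, zero_add]
      have e : (sg ba : K) * (ξ / (sg ba * Y v)) * Y v = ξ := by
        field_simp [mul_ne_zero (sg_ne (F := K) ba) hv, sg_ne (F := K) ba, hv]
      rwa [e]
    · exact ⟨0, by simpa using h⟩
  set Y1 := act a x Y with hY1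
  set Y' := act (p30 a) (sg (e30 a) * φ x) Y1 with hY'
  have hm' : 0 < m Y' := by rw [hY', hY1, hpair a ha]; exact hm
  have hsY' := hsym Y' hm'
  have up1 : ∀ (c : Fin 30), c ∈ [a, p30 a] → ∀ (x : K) (Z : Fin 20 → K), (∀ s, v < s → Z s = 0) →
      ∀ s, v ≤ s → act c x Z s = Z s := by
    intro c hc x Z hZ s hs
    rcases hm : mv c s with _ | ⟨T, d⟩
    · exact act_none hm _ _
    · have h := hpos c hc s
      rw [hm] at h
      simp only [decide_eq_true_eq] at h
      rw [act_some hm, hZ T (lt_of_le_of_lt hs h)]; simp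
  have hab1 : ∀ s, v < s → Y1 s = 0 := fun s hs =>
    (up1 a (by simp) x Y hab s hs.le).trans (hab s hs)
  have hab' : ∀ s, v < s → Y' s = 0 := fun s hs =>
    (up1 _ (by simp) _ Y1 hab1 s hs.le).trans (hab1 s hs)
  have hYv : Y' v = Y v := (up1 _ (by simp) _ Y1 hab1 v le_rfl).trans (up1 a (by simp) x Y hab v le_rfl)
  have hπ1 : Y1 (p20 v) = Y (p20 v) := by
    rcases hm : mv a (p20 v) with _ | ⟨T, d⟩
    · exact act_none hm _ _
    · rw [hm] at hsrc
      simp only [decide_eq_true_eq] at hsrc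
      rw [hY1, act_some hm, hab T hsrc]; simp
  have hsg : (sg bb : K) * sg (e30 a) * sg (e20 v) = sg ba := by rw [← sg_beq, ← sg_beq, hsign]
  have hYw : Y' w = Y w + (sg ba * x * Y v + φ (sg ba * x * Y v)) := by
    rw [hY', act_some hmb, hπ1, hY1, act_some hma, hsY v, map_mul, map_mul, φ_sg, ← hsg]
    ring
  have hY'w : Y' w ≠ 0 := by rw [hYw]; exact hx
  have hwφ := Sym.fixed h2 hsY' hw
  have hπv : Y' (p20 v) ≠ 0 := by
    rw [hsY' v, hYv]
    exact mul_ne_zero (sg_ne _) (fun h => hv (φ.injective (h.trans (map_zero φ).symm)))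
  -- clear the neighbours, the pair first
  set t := tC w (fun i => -Y' i) (Y' w) with ht
  have htc : ∀ p ∈ nb w, Y' p.1 + sg (bt p) * t p.1 * Y' w = 0 := by
    intro p hp
    rw [ht, tC_mul hp, div_mul_cancel₀ _ hY'w, add_neg_cancel]
  set bv : Fin 20 × Fin 30 := (p20 v, p30 av)
  have hbv : bv ∈ nb w := (sign_spec w hw (v, av) hav).1
  have hL : ∀ p ∈ ((v, av) :: bv :: expandL (lowG v)), p ∈ nb w := fun p hp => hperm.mem_iff.1 hp
  have hnd : (((v, av) :: bv :: expandL (lowG v)).map Prod.fst).Nodup :=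
    (hperm.map Prod.fst).nodup_iff.2 (nb_nodup w).1
  obtain ⟨c1, c2, -⟩ := clr_coord w t _ hL hnd Y'
  set Z := clr ((v, av) :: bv :: expandL (lowG v)) t Y' with hZdef
  have hmZ : 0 < m Z := by
    have e : (v, av) :: bv :: expandL (lowG v) = expandL ((v, av) :: lowG v) := by
      rw [expand_cons, pairL, if_neg (show ¬p20 v = v from hfixv)]; rfl
    rw [hZdef, e, m_expand h2 m hsym hfix hpair hsc _ ?_ t ?_ Y']
    · exact hm'
    · intro p hp
      rcases List.mem_cons.1 hp with rfl | hp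
      · exact iff_of_false hfixv hav'
      · exact ((grp_spec w hw).2 p (List.mem_filter.1 hp).1).2.2
    · intro p hp
      have hpn : p ∈ nb w := by
        rcases List.mem_cons.1 hp with rfl | hp
        · exact hav
        · exact ((grp_spec w hw).2 p (List.mem_filter.1 hp).1).1
      exact tC_cons h2 hw hpn (by rw [hsY' p.1, map_neg, mul_neg]) hwφ
  have hnb0 : ∀ q ∈ nbS w, Z q = 0 := by
    intro q hq
    obtain ⟨p, hp, rfl⟩ := List.mem_map.1 (List.mem_toFinset.1 hq)
    rw [c2 p (hperm.mem_iff.2 hp), htc p hp]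
  obtain ⟨⟨T, du⟩, hmu, hT⟩ := Option.map_eq_some_iff.1 hu1
  simp only at hT; rw [hT] at hmu
  obtain ⟨⟨T, du'⟩, hmu', hT⟩ := Option.map_eq_some_iff.1 hu2
  simp only at hT; rw [hT] at hmu'
  set A1 := act av (t v) Y' with hA1
  set A2 := act (p30 av) (t (p20 v)) A1 with hA2
  have hvn : (v : Fin 20) ≠ p20 v := fun h => hfixv h.symm
  obtain ⟨hvw0, hvv, hvo⟩ := nb_spec w (v, av) hav
  obtain ⟨hbw0, hbb, hbo⟩ := nb_spec w bv hbv
  have hA1v : A1 v = 0 := by rw [hA1, act_some (mv_nb hav)]; exact htc (v, av) hav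
  have hA2v : A2 v = 0 := by rw [hA2, act_none (hbo (v, av) hav hvn)]; exact hA1v
  have hA2w : A2 w = Y' w := by
    rw [hA2, act_none hbw0, hA1, act_none hvw0]
  have hA2b : A2 (p20 v) = 0 := by
    have e1 : A1 w = Y' w := act_none hvw0 _ _
    rw [hA2, act_some (mv_nb hbv), hA1, act_none (hvo bv hbv hvn.symm), ← hA1, e1]
    exact htc bv hbv
  have hAhi : ∀ p ∈ nb w, v < p.1 → A2 p.1 = 0 := by
    intro p hp hlt'
    have n1 : p.1 ≠ v := hlt'.ne'
    have n2 : p.1 ≠ p20 v := (hlt.trans hlt').ne'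
    rw [hA2, act_none (hbo p hp n2), hA1, act_none (hvo p hp n1), hab' _ hlt']
  have ht0 : ∀ p ∈ nb w, v < p.1 → t p.1 = 0 := fun p hp hlt' => by
    simp only [ht, tC, hab' _ hlt']; simp
  have hA2u : A2 u ≠ 0 := by
    rw [hA2, act_some hmu', hA1v, mul_zero, add_zero, hA1, act_some hmu, hab' u hvu, zero_add]
    refine mul_ne_zero (mul_ne_zero (sg_ne _) ?_) hπv
    intro h0
    have := htc (v, av) hav
    simp only [h0, mul_zero, zero_mul, add_zero, hYv] at this
    exact hv this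
  have hinv : ∀ L : List (Fin 20 × Fin 30), (∀ p ∈ L, p ∈ nb w ∧ p.1 ≠ v ∧ p.1 ≠ p20 v) → ∀ B : Fin 20 → K,
      B v = 0 → B (p20 v) = 0 → (∀ p ∈ nb w, v < p.1 → B p.1 = 0) → clr L t B u = B u := by
    intro L
    induction L with
    | nil => intros; rfl
    | cons p L ih =>
      intro hLp B b1 b2 b3
      obtain ⟨hp, pv, pv'⟩ := hLp p List.mem_cons_self
      obtain ⟨-, -, po⟩ := nb_spec w p hp
      have k1 : act p.2 (t p.1) B v = 0 := (act_none (po (v, av) hav (Ne.symm pv)) _ _).trans b1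
      have k2 : act p.2 (t p.1) B (p20 v) = 0 := (act_none (po bv hbv (Ne.symm pv')) _ _).trans b2
      have k3 : ∀ q ∈ nb w, v < q.1 → act p.2 (t p.1) B q.1 = 0 := by
        intro q hq hlt'
        by_cases hqp : q.1 = p.1
        · rw [show t p.1 = 0 by rw [← hqp]; exact ht0 q hq hlt', act_zero, b3 q hq hlt']
        · rw [act_none (po q hq hqp), b3 q hq hlt']
      show clr L t (act p.2 (t p.1) B) u = B u
      rw [ih (fun q hq => hLp q (List.mem_cons_of_mem _ hq)) _ k1 k2 k3]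
      rcases hm : mv p.2 u with _ | ⟨T, d⟩
      · exact act_none hm _ _
      · have h := hrest p hp pv pv'
        have h' := hsrc2 p hp
        rw [hm] at h h'
        simp only [decide_eq_true_eq] at h h'
        rw [act_some hm]
        rcases h with e | e | e | e
        · rw [e, b1, mul_zero, add_zero]
        · rw [e, b2, mul_zero, add_zero]
        · obtain ⟨q, hq, rfl⟩ := List.mem_map.1 h'
          rw [b3 q hq e, mul_zero, add_zero]
        · rw [ht0 p hp e, mul_zero, zero_mul, add_zero]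
  have hZu : Z u = A2 u := by
    show clr (expandL (lowG v)) t A2 u = A2 u
    refine hinv _ (fun p hp => ⟨hL p (List.mem_cons_of_mem _ (List.mem_cons_of_mem _ hp)), ?_, ?_⟩) A2 hA2v hA2b hAhi
    · intro e
      rw [List.map_cons, List.nodup_cons] at hnd
      have := List.mem_map_of_mem (f := Prod.fst) hp
      rw [e] at this
      exact hnd.1 (List.mem_cons_of_mem _ this)
    · intro e
      simp only [List.map_cons, List.nodup_cons] at hnd
      have := List.mem_map_of_mem (f := Prod.fst) hp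
      rw [e] at this
      exact hnd.2.1 this
  have huw : u ≠ w := (hwv.trans hvu).ne'
  have := congrFun (hpure w hw Z hmZ (by rw [c1]; exact hY'w) hnb0) u
  rw [Pi.single_eq_of_ne huw, hZu] at this
  exact hA2u this

theorem m_single_upT (w : Fin 20) (hw : p20 w = w) (h19 : w.val < 19) :
    m (Pi.single w (1 : K)) = m (Pi.single (upT w).1 1) := by
  obtain ⟨hlt, hv, hfa, hfa', ha, ha', hs, hs'⟩ := upT_spec w hw h19
  set v := (upT w).1
  set a := (upT w).2.1
  set a' := (upT w).2.2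
  obtain ⟨⟨T, b⟩, hm, hT⟩ := Option.map_eq_some_iff.1 ha
  obtain ⟨⟨T', b'⟩, hm', hT'⟩ := Option.map_eq_some_iff.1 ha'
  simp only at hT hT'
  rw [hT] at hm
  rw [hT'] at hm'
  have h1 : act a (sg b : K) (Pi.single w 1) = Pi.single w 1 + Pi.single v 1 := by
    funext s
    by_cases hsv : s = v
    · subst hsv
      rw [act_some hm]
      simp [Pi.single_eq_of_ne hlt.ne', sg_mul_self]
    · rw [Pi.add_apply, Pi.single_eq_of_ne hsv, add_zero]
      rcases hms : mv a s with _ | ⟨T, c⟩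
      · exact act_none hms _ _
      · have hT : T ≠ w := fun h => hs s hsv (by rw [hms, h]; rfl)
        rw [act_some hms, Pi.single_eq_of_ne hT]; simp
  have h3 : act a' (-(sg b') : K) (Pi.single w 1 + Pi.single v 1) = Pi.single v 1 := by
    funext s
    by_cases hsw : s = w
    · subst hsw
      rw [act_some hm']
      simp [Pi.single_eq_of_ne hlt.ne, Pi.single_eq_of_ne hlt.ne', sg_mul_self]
    · rcases hms : mv a' s with _ | ⟨T, c⟩
      · rw [act_none hms]; simp [Pi.single_eq_of_ne hsw]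
      · obtain ⟨hT1, hT2⟩ := hs' s hsw
        have e1 : T ≠ w := fun h => hT1 (by rw [hms, h]; rfl)
        have e2 : T ≠ v := fun h => hT2 (by rw [hms, h]; rfl)
        rw [act_some hms]; simp [Pi.single_eq_of_ne hsw, e1, e2]
  calc m (Pi.single w 1) = m (act a (sg b : K) (Pi.single w 1)) := (hfix a hfa _ (φ_sg b) _).symm
    _ = m (act a' (-(sg b') : K) (act a (sg b : K) (Pi.single w 1))) :=
        (hfix a' hfa' _ (by rw [map_neg, φ_sg]) _).symm
    _ = _ := by rw [h1, h3]

theorem m_singleT {w : Fin 20} (hw : p20 w = w) {c : K} (hc : c ≠ 0) (hcφ : φ c = c) :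
    m (Pi.single w c) = m (Pi.single 19 1) := by
  classical
  have e : Pi.single (M := fun _ : Fin 20 => K) w c = c • Pi.single w 1 := by
    rw [← Pi.single_smul']; simp
  rw [e, hsc c hcφ hc]
  suffices h : ∀ k : ℕ, ∀ w : Fin 20, p20 w = w → 19 - w.val ≤ k →
      m (Pi.single w (1 : K)) = m (Pi.single 19 1) from h _ w hw le_rfl
  intro k
  induction k with
  | zero =>
    intro w _ hw
    rw [show w = 19 from Fin.ext (by have := w.isLt; show w.val = 19; omega)]
  | succ k ih =>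
    intro w hwf hw
    by_cases h19 : w.val < 19
    · rw [m_single_upT h2 m hsym hfix hpair hsc hω w hwf h19]
      obtain ⟨hlt, hv, -⟩ := upT_spec w hwf h19
      exact ih _ hv (by rw [Fin.lt_def] at hlt; omega)
    · exact ih w hwf (by omega)

/-- The size of the small orbit. -/
def orbT (q : ℕ) : ℕ := (q - 1) * (1 + q + q ^ 3 + q ^ 4 + q ^ 5 + q ^ 6 + q ^ 8 + q ^ 9)

/-- The point of the small orbit with given parameters. -/
noncomputable def buildT (φ : K ≃+* K) (ω : K)
    (x : Σ w : {w : Fin 20 // p20 w = w}, (Fx φ)ˣ × (↥(lowS w.1) → Fx φ)) : Fin 20 → K :=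
  clr (expandL (grp x.1.1))
    (tC x.1.1 (emb φ ω fun v => if h : v ∈ lowS x.1.1 then x.2.2 ⟨v, h⟩ else 0) ((x.2.1 : Fx φ) : K))
    (Pi.single x.1.1 ((x.2.1 : Fx φ) : K))

theorem buildT_spec (x : Σ w : {w : Fin 20 // p20 w = w}, (Fx φ)ˣ × (↥(lowS w.1) → Fx φ)) :
    m (buildT φ ω x) = m (Pi.single x.1.1 ((x.2.1 : Fx φ) : K)) ∧
    buildT φ ω x x.1.1 = ((x.2.1 : Fx φ) : K) ∧
    (∀ s, x.1.1 < s → buildT φ ω x s = 0) ∧
    ∀ v ∈ nbS x.1.1, buildT φ ω x v =
      emb φ ω (fun v => if h : v ∈ lowS x.1.1 then x.2.2 ⟨v, h⟩ else 0) v := by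
  classical
  obtain ⟨⟨w, hw⟩, c, f⟩ := x
  set g := emb φ ω (fun v => if h : v ∈ lowS w then f ⟨v, h⟩ else 0) with hg
  have hsg : ∀ p ∈ nb w, g (p20 p.1) = sg (e20 p.1) * φ (g p.1) := fun p _ => emb_sym h2 ω _ p.1
  obtain ⟨h1, h3, h4⟩ := clrT h2 m hsym hfix hpair hsc hw g hsg (fx_val (c : Fx φ))
    (Pi.single w ((c : Fx φ) : K))
  have hc0 : ((c : Fx φ) : K) ≠ 0 := fun h => c.ne_zero (Subtype.ext h)
  refine ⟨h1, h3.trans (Pi.single_eq_same _ _), ?_, fun v hv => ?_⟩
  · refine clr_below w _ (fun p hp => (grp_spec w hw).1.mem_iff.1 hp) _ (fun p hp hlt => ?_) _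
      (fun s hs => Pi.single_eq_of_ne hs.ne' _)
    have hp' := (grp_spec w hw).1.mem_iff.1 hp
    have hl : p.1 ∉ lowS w := fun h => hlt (Finset.mem_filter.1 h).2
    have hl' : p20 p.1 ∉ lowS w := fun h =>
      hlt ((sign_spec w hw p hp').2.2.2 (Finset.mem_filter.1 h).2)
    have hg0 : g p.1 = 0 := by
      rw [hg]
      simp only [emb, dif_neg hl, dif_neg hl']
      split_ifs <;> simp
    show tC w g _ p.1 = 0
    simp [tC, hg0]
  · obtain ⟨p, hp, rfl⟩ := List.mem_map.1 (List.mem_toFinset.1 hv)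
    have hpw : p.1 ≠ w := fun e => not_mem_nbS w (e ▸ hv)
    show buildT φ ω _ p.1 = g p.1
    rw [buildT, h4 p hp]
    simp only [Pi.single_eq_of_ne hpw, Pi.single_eq_same, zero_add, div_mul_cancel₀ _ hc0]

theorem buildT_injective : Function.Injective (buildT φ ω) := by
  classical
  rintro ⟨⟨w, hw⟩, c, f⟩ ⟨⟨w', hw'⟩, c', f'⟩ h
  obtain ⟨-, a1, a2, a3⟩ := buildT_spec h2 m hsym hfix hpair hsc hω
    (⟨⟨w, hw⟩, c, f⟩ : Σ w : {w : Fin 20 // p20 w = w}, (Fx φ)ˣ × (↥(lowS w.1) → Fx φ))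
  obtain ⟨-, b1, b2, b3⟩ := buildT_spec h2 m hsym hfix hpair hsc hω
    (⟨⟨w', hw'⟩, c', f'⟩ : Σ w : {w : Fin 20 // p20 w = w}, (Fx φ)ˣ × (↥(lowS w.1) → Fx φ))
  rw [← h] at b1 b2 b3
  have hc0 : ∀ c : (Fx φ)ˣ, ((c : Fx φ) : K) ≠ 0 := fun c h => c.ne_zero (Subtype.ext h)
  have hww : w = w' := by
    rcases lt_trichotomy w w' with h' | h' | h'
    · exact absurd (b1.symm.trans (a2 w' h')) (hc0 c')
    · exact h'
    · exact absurd (a1.symm.trans (b2 w h')) (hc0 c)
  subst hww
  obtain rfl : c = c' := Units.ext (Subtype.ext (a1.symm.trans b1))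
  have hE : emb φ ω (fun v => if h : v ∈ lowS w then f ⟨v, h⟩ else 0) =
      emb φ ω (fun v => if h : v ∈ lowS w then f' ⟨v, h⟩ else 0) := by
    funext v
    by_cases hv : v ∈ nbS w
    · exact (a3 v hv).symm.trans (b3 v hv)
    · have hl : v ∉ lowS w := fun h => hv (Finset.mem_filter.1 h).1
      have hl' : p20 v ∉ lowS w := fun h => by
        obtain ⟨p, hp, e⟩ := List.mem_map.1 (List.mem_toFinset.1 (Finset.mem_filter.1 h).1)
        refine hv (List.mem_toFinset.2 (List.mem_map.2 ⟨_, (sign_spec w hw p hp).1, ?_⟩))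
        show p20 p.1 = v
        rw [e, (p20_inv v).1]
      simp only [emb, dif_neg hl, dif_neg hl']
  obtain rfl : f = f' := funext fun ⟨v, hv⟩ => by simpa [hv] using congrFun (emb_injective h2 hω hE) v
  rfl

/-- The dichotomy. -/
theorem dichotomyT {Ψ : K → ℂ} (hΨ0 : Ψ 0 = 1) (hΨ : ∑ c : Fx φ, Ψ (c : K) = 0) {M : ℕ} (hM : 0 < M)
    (hid : ∑ Y : Fin 20 → K, (m Y : ℂ) * (1 - Ψ (Y 19)) = M) :
    (Fintype.card (Fx φ) - 1) * Fintype.card (Fx φ) ^ 9 * 2 ≤ ∑ Y, m Y ∨
      ∃ m1, 0 < m1 ∧ ∑ Y, m Y = m 0 + m1 * orbT (Fintype.card (Fx φ)) ∧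
        M = m1 * Fintype.card (Fx φ) ^ 10 := by
  classical
  refine or_iff_not_imp_left.2 fun hsmall => ?_
  have hpure := pure_of_small h2 m hsym hfix hpair hsc hω hsmall
  have hclear : ∀ (w : Fin 20), p20 w = w → ∀ Y : Fin 20 → K, 0 < m Y → Y w ≠ 0 →
      clr (expandL (grp w)) (tC w (fun i => -Y i) (Y w)) Y = Pi.single w (Y w) := by
    intro w hw Y hm hY
    have hs := hsym Y hm
    obtain ⟨h1, h3, h4⟩ := clrT h2 m hsym hfix hpair hsc hw (fun i => -Y i)
      (fun p _ => by simp only [hs p.1, map_neg, mul_neg]) (Sym.fixed h2 hs hw) Y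
    have := hpure w hw _ (by rwa [h1]) (by rwa [h3]) (fun v hv => by
      obtain ⟨p, hp, rfl⟩ := List.mem_map.1 (List.mem_toFinset.1 hv)
      rw [h4 p hp, div_mul_cancel₀ _ hY, add_neg_cancel])
    rwa [h3] at this
  have hmclear : ∀ (w : Fin 20), p20 w = w → ∀ Y : Fin 20 → K, 0 < m Y →
      m (clr (expandL (grp w)) (tC w (fun i => -Y i) (Y w)) Y) = m Y := fun w hw Y hm =>
    (clrT h2 m hsym hfix hpair hsc hw (fun i => -Y i)
      (fun p _ => by simp only [hsym Y hm p.1, map_neg, mul_neg]) (Sym.fixed h2 (hsym Y hm) hw) Y).1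
  have hmax : ∀ Y, Y ≠ 0 → 0 < m Y → ∃ w, p20 w = w ∧ Y w ≠ 0 ∧ ∀ s, w < s → Y s = 0 := by
    intro Y hY hm
    have hne : (Finset.univ.filter fun s => Y s ≠ 0).Nonempty := by
      obtain ⟨w, hw⟩ := Function.ne_iff.1 hY
      exact ⟨w, by simpa using hw⟩
    obtain ⟨w, hwm, hmax⟩ := (Finset.univ.filter fun s => Y s ≠ 0).exists_max_image id hne
    simp only [Finset.mem_filter, Finset.mem_univ, true_and, id] at hwm hmax
    have habove : ∀ s, w < s → Y s = 0 := fun s hs => by_contra fun h => absurd (hmax s h) (not_le.2 hs)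
    exact ⟨w, max_fixed h2 m hsym hfix hpair hsc hω hpure hm hwm habove, hwm, habove⟩
  set m1 := m (Pi.single 19 (1 : K)) with hm1
  have hval : ∀ Y, Y ≠ 0 → 0 < m Y → m Y = m1 := by
    intro Y hY hm
    obtain ⟨w, hw, hYw, -⟩ := hmax Y hY hm
    rw [← hmclear w hw Y hm, hclear w hw Y hm hYw,
      m_singleT h2 m hsym hfix hpair hsc hω hw hYw (Sym.fixed h2 (hsym Y hm) hw)]
  have hex : ∃ Y, Y ≠ 0 ∧ 0 < m Y := by
    by_contra h
    push Not at h
    have : ∑ Y : Fin 20 → K, (m Y : ℂ) * (1 - Ψ (Y 19)) = 0 := Finset.sum_eq_zero fun Y _ => by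
      by_cases hY : Y = 0
      · subst hY; simp [hΨ0]
      · rw [Nat.le_zero.1 (h Y hY)]; simp
    rw [this] at hid
    exact hM.ne' (by exact_mod_cast hid.symm)
  have hm1pos : 0 < m1 := by
    obtain ⟨Y, hY, hm⟩ := hex
    rwa [hval Y hY hm] at hm
  have hc0 : ∀ c : (Fx φ)ˣ, ((c : Fx φ) : K) ≠ 0 := fun c h => c.ne_zero (Subtype.ext h)
  have hbuild : ∀ x, m (buildT φ ω x) = m1 := fun x => by
    rw [(buildT_spec h2 m hsym hfix hpair hsc hω x).1,
      m_singleT h2 m hsym hfix hpair hsc hω x.1.2 (hc0 _) (fx_val _)]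
  have hsurj : ∀ Y, Y ≠ 0 → 0 < m Y → ∃ x, buildT φ ω x = Y := by
    intro Y hY hm
    obtain ⟨w, hw, hYw, habove⟩ := hmax Y hY hm
    obtain ⟨y, hy⟩ := emb_surjective h2 hω (hsym Y hm)
    have hfx := Sym.fixed h2 (hsym Y hm) hw
    let x : Σ w : {w : Fin 20 // p20 w = w}, (Fx φ)ˣ × (↥(lowS w.1) → Fx φ) :=
      ⟨⟨w, hw⟩, Units.mk0 ⟨Y w, hfx⟩ (fun h => hYw (congrArg Subtype.val h)), fun v => y v⟩
    refine ⟨x, ?_⟩
    obtain ⟨-, b1, b2, b3⟩ := buildT_spec h2 m hsym hfix hpair hsc hω x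
    have hmb : 0 < m (buildT φ ω x) := by rw [hbuild]; exact hm1pos
    have hb1 : buildT φ ω x w = Y w := b1
    have hnb : ∀ v ∈ nbS w, buildT φ ω x v = Y v := by
      intro v hv
      obtain ⟨p, hp, rfl⟩ := List.mem_map.1 (List.mem_toFinset.1 hv)
      have hiff := (sign_spec w hw p hp).2.2
      by_cases hlt : p.1 < w
      · have hl : p.1 ∈ lowS w := Finset.mem_filter.2 ⟨hv, hlt⟩
        have hl' : p20 p.1 ∈ lowS w := Finset.mem_filter.2
          ⟨List.mem_toFinset.2 (List.mem_map.2 ⟨_, (sign_spec w hw p hp).1, rfl⟩), hiff.1 hlt⟩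
        rw [b3 p.1 hv, ← hy]
        simp only [emb, x, dif_pos hl, dif_pos hl']
      · have hgt : w < p.1 := lt_of_le_of_ne (not_lt.1 hlt) fun e => not_mem_nbS w (e ▸ hv)
        rw [b2 _ hgt, habove _ hgt]
    have e1 := hclear w hw (buildT φ ω x) hmb (by rw [hb1]; exact hYw)
    rw [hb1] at e1
    refine clr_injective (expandL (grp w)) (tC w (fun i => -Y i) (Y w))
      ((Eq.trans ?_ e1).trans (hclear w hw Y hm hYw).symm)
    have hLn : ∀ p ∈ expandL (grp w), p ∈ nb w := fun p hp => (grp_spec w hw).1.mem_iff.1 hp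
    have : ∀ L : List (Fin 20 × Fin 30), (∀ p ∈ L, p ∈ nb w) → ∀ z : Fin 20 → K,
        clr L (tC w (fun i => -Y i) (Y w)) z = clr L (tC w (fun i => -buildT φ ω x i) (Y w)) z := by
      intro L
      induction L with
      | nil => intros; rfl
      | cons p L ih =>
        intro hL z
        show clr L _ (act p.2 _ z) = clr L _ (act p.2 _ z)
        rw [ih (fun q hq => hL q (List.mem_cons_of_mem _ hq))]
        simp only [tC, hnb p.1 (List.mem_toFinset.2 (List.mem_map_of_mem (hL p List.mem_cons_self)))]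
    exact this _ hLn _
  have hsum : ∀ f : (Fin 20 → K) → ℂ, ∑ Y, (m Y : ℂ) * f Y =
      (m 0 : ℂ) * f 0 + (m1 : ℂ) * ∑ x, f (buildT φ ω x) := by
    intro f
    rw [← Finset.add_sum_erase Finset.univ _ (Finset.mem_univ (0 : Fin 20 → K))]
    congr 1
    rw [Finset.mul_sum]
    have h0 : ∀ x, buildT φ ω x ≠ (0 : Fin 20 → K) := fun x h => hc0 x.2.1 (by
      rw [← (buildT_spec h2 m hsym hfix hpair hsc hω x).2.1, h, Pi.zero_apply])
    symm
    rw [← Finset.sum_subset (show Finset.univ.image (buildT φ ω) ⊆ (Finset.univ : Finset (Fin 20 → K)).erase 0 by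
      intro Y hY
      obtain ⟨x, -, rfl⟩ := Finset.mem_image.1 hY
      exact Finset.mem_erase.2 ⟨h0 x, Finset.mem_univ _⟩) (fun Y hY hn => by
      have : ¬0 < m Y := fun hm => hn (by
        obtain ⟨x, rfl⟩ := hsurj Y (Finset.ne_of_mem_erase hY) hm
        exact Finset.mem_image_of_mem _ (Finset.mem_univ x))
      rw [Nat.eq_zero_of_not_pos this, Nat.cast_zero, zero_mul]),
      Finset.sum_image (buildT_injective h2 m hsym hfix hpair hsc hω).injOn]
    exact Finset.sum_congr rfl fun x _ => by rw [hbuild]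
  refine ⟨m1, hm1pos, ?_, ?_⟩
  · have h := hsum fun _ => 1
    simp only [mul_one, Finset.sum_const, Finset.card_univ, Fintype.card_sigma, Fintype.card_prod,
      Fintype.card_units, Fintype.card_fun, Fintype.card_coe, card_lowS, nsmul_eq_mul] at h
    have hw : ∑ w : {w : Fin 20 // p20 w = w}, (Fintype.card (Fx φ) - 1) * Fintype.card (Fx φ) ^ lw w.1 =
        orbT (Fintype.card (Fx φ)) := by
      rw [← Finset.mul_sum, orbT]
      refine congrArg ((Fintype.card (Fx φ) - 1) * ·) ?_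
      have hnd : ((List.finRange 20).filter fun w => decide (p20 w = w)).Nodup :=
        (List.nodup_finRange 20).filter _
      rw [← Finset.sum_subtype ((List.finRange 20).filter fun w => decide (p20 w = w)).toFinset (by simp)
        (fun w => Fintype.card (Fx φ) ^ lw w), List.sum_toFinset _ hnd,
        show (fun w => Fintype.card (Fx φ) ^ lw w) = (fun n => Fintype.card (Fx φ) ^ n) ∘ lw from rfl,
        ← List.map_map, orb_list]
      simp only [List.map_cons, List.map_nil, List.sum_cons, List.sum_nil]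
      ring
    rw [hw] at h
    exact_mod_cast h
  · have h := hsum fun Y => 1 - Ψ (Y 19)
    rw [hid, Pi.zero_apply, hΨ0, sub_self, mul_zero, zero_add, Fintype.sum_sigma,
      Finset.sum_eq_single (⟨19, top_fix.1⟩ : {w : Fin 20 // p20 w = w})] at h
    · simp only [fun p : (Fx φ)ˣ × (↥(lowS (19 : Fin 20)) → Fx φ) =>
        (buildT_spec h2 m hsym hfix hpair hsc hω ⟨⟨19, top_fix.1⟩, p⟩).2.1] at h
      rw [Fintype.sum_prod_type] at h
      simp only [Finset.sum_const, Finset.card_univ, Fintype.card_fun, Fintype.card_coe, card_lowS, lw_top,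
        ← Finset.smul_sum] at h
      have hu : ∑ c : (Fx φ)ˣ, (1 - Ψ ((c : Fx φ) : K)) = (Fintype.card (Fx φ) : ℂ) := by
        have h2' : ∑ c : Fx φ, (1 - Ψ (c : K)) = (Fintype.card (Fx φ) : ℂ) := by
          rw [Finset.sum_sub_distrib, hΨ]; simp
        rw [← h2', ← Finset.sum_subset (Finset.subset_univ ((Finset.univ : Finset (Fx φ)ˣ).image Units.val))
          (fun c _ hc => by
            by_cases h0 : c = 0
            · subst h0; simp [hΨ0]
            · exact absurd (Finset.mem_image.2 ⟨Units.mk0 c h0, Finset.mem_univ _, rfl⟩) hc),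
          Finset.sum_image Units.val_injective.injOn]
      rw [hu, nsmul_eq_mul] at h
      have : (M : ℂ) = ((m1 * Fintype.card (Fx φ) ^ 10 : ℕ) : ℂ) := by rw [h]; push_cast; ring
      exact_mod_cast this
    · intro w _ hw
      refine Finset.sum_eq_zero fun p _ => ?_
      have hlt : w.1 < (19 : Fin 20) := lt_of_le_of_ne
        (Fin.le_def.2 (by have := w.1.isLt; show w.1.val ≤ 19; omega)) (fun e => hw (Subtype.ext e))
      rw [(buildT_spec h2 m hsym hfix hpair hsc hω ⟨w, p⟩).2.2.1 19 hlt, hΨ0, sub_self]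
    · simp

end Orbit

end Cfsg.Agent.Lib.E6Deg29.Tw
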