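import Cfsg.Agent.Lib.E6Deg29.HeisChar
import Cfsg.Agent.Lib.E6Deg29.Comb
import Cfsg.Agent.Lib.SubfieldTwist29.Base
import Cfsg.Agent.Lib.ChevStructure.Perfect
import Cfsg.Agent.Lib.ChevStructure.Words

/-!
The radical of the parabolic of the highest root in E₆(q) as a Heisenberg subgroup, and the action of the
root groups of the Levi subgroup on its quotient.
-/

set_option autoImplicit false
set_option linter.unusedSectionVars false
set_option maxRecDepth 100000

namespace Cfsg.Agent.Lib.E6Deg29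

open Cfsg.Lie Cfsg.Agent.Lib.ChevStructure Cfsg.Agent.Lib.SubfieldTwist29
open Cfsg.Agent.Lib.ChevStructure.Core (hD)
open scoped MatrixGroups Matrix

/-- The structure data. -/
noncomputable abbrev cE : Core chevE6 := Cert.E6.core

theorem commE : CommOK cE := Cert.E6.core.commOK_mild mildE6

/-- The highest root. -/
def top : Rt chevE6 := ⟨71, by decide⟩

/-- The lowest root. -/
def low : Rt chevE6 := ⟨0, by decide⟩

/-- The roots of the quotient. -/
def wt20L : List (Fin 72) := [1, 2, 3, 4, 5, 6, 7, 8, 9, 10, 16, 17, 18, 19, 20, 21, 22, 23, 24, 25]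

/-- The lookup. -/
def wt20 (i : Fin 20) : Rt chevE6 := ⟨(wt20L.getD i.val 0).val, lt_of_lt_of_eq (wt20L.getD i.val 0).isLt (by decide)⟩

/-- The roots of the Levi subgroup. -/
def rt30L : List (Fin 72) := [11, 12, 13, 14, 15, 26, 27, 28, 29, 30, 31, 32, 33, 34, 35, 36, 37, 38, 39, 40, 41, 42, 43, 44, 45, 56, 57, 58, 59, 60]

/-- The lookup. -/
def rt30 (i : Fin 30) : Rt chevE6 := ⟨(rt30L.getD i.val 0).val, lt_of_lt_of_eq (rt30L.getD i.val 0).isLt (by decide)⟩

/-- The partners under the commutator form. -/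
def partL : List (Fin 20 × Bool) := [(19, false), (18, true), (17, false), (16, true), (15, false), (14, true), (13, false), (12, false), (11, true), (10, false), (9, true), (8, false), (7, true), (6, true), (5, false), (4, true), (3, false), (2, true), (1, false), (0, true)]

/-- The roots whose reflection moves a quotient root to the centre. -/
def reflL : List (Fin 72) := [46, 47, 48, 49, 50, 51, 52, 53, 54, 55, 61, 62, 63, 64, 65, 66, 67, 68, 69, 70]

/-- The lookup. -/
def refl20 (i : Fin 20) : Rt chevE6 := ⟨(reflL.getD i.val 0).val, lt_of_lt_of_eq (reflL.getD i.val 0).isLt (by decide)⟩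

/-- The sign as an integer. -/
def sgZ (b : Bool) : ℤ := if b then 1 else -1

theorem sgZ_cast {F : Type*} [Field F] (b : Bool) : ((sgZ b : ℤ) : F) = sg b := by cases b <;> simp [sgZ, sg]

theorem top_rev : top.rev = low := by decide

theorem td : TD chevE6 top where
  bd := by decide +kernel
  two := by decide +kernel
  high := by decide +kernel

theorem hne_top : ∀ r s : Rt chevE6, pr chevE6 top r = -1 → pr chevE6 top s = -1 →
    s ≠ r → s ≠ r.rev → ∀ c ∈ chevE6.commTerms r.val s.val, c.1 = low.val := by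
  decide +kernel

theorem wt20_pr : ∀ i, pr chevE6 top (wt20 i) = -1 ∧ wt20 i ≠ low := by decide +kernel

theorem wt20_inj : ∀ i j, wt20 i = wt20 j → i = j := by decide +kernel

theorem grade_cases : ∀ r : Rt chevE6, pr chevE6 top r ≤ -1 → r = low ∨ ∃ i, wt20 i = r := by decide +kernel

theorem low_comm : ∀ r : Rt chevE6, pr chevE6 top r ≤ 0 → r ≠ low →
    r ≠ low.rev ∧ chevE6.commTerms r.val low.val = [] := by
  decide +kernel

theorem rt30_pr : ∀ a, pr chevE6 top (rt30 a) = 0 := by decide +kernel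

theorem rt30_cases : ∀ r : Rt chevE6, pr chevE6 top r = 0 → ∃ a, rt30 a = r := by decide +kernel

theorem move_cert : ∀ a j, wt20 j ≠ rt30 a ∧ wt20 j ≠ (rt30 a).rev ∧
    chevE6.commTerms (rt30 a).val (wt20 j).val = match mv a j with
      | none => []
      | some p => [((wt20 p.1).val, sgZ p.2, 1, 1)] := by
  decide +kernel

/-- The partner and sign. -/
def part (i : Fin 20) : Fin 20 × Bool := partL.getD i.val (0, true)

theorem part_cert : ∀ i, ∀ j, j ≠ (part i).1 → wt20 j ≠ (wt20 (part i).1).rev ∧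
    chevE6.commTerms (wt20 (part i).1).val (wt20 j).val =
      if j = i then [(low.val, sgZ (part i).2, 1, 1)] else [] := by
  decide +kernel

theorem part_ne : ∀ i, (part i).1 ≠ i := by decide +kernel

theorem refl_cert : ∀ i, pr chevE6 (refl20 i) (wt20 i) = 1 ∧
    ∀ m, cE.v low m = cE.v (wt20 i) m - cE.v (refl20 i) m := by
  decide +kernel

theorem scale_cert : pr chevE6 (wt20 0) low = 1 ∧ ∀ i, pr chevE6 low (wt20 i) = 1 := by decide +kernel

variable (F : Type*) [Field F]

/-- A root element of the group. -/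
noncomputable def xg (r : Rt chevE6) (t : F) : ↥(chevE6.group F) := ⟨cE.X F r t, cE.X_mem_group r t⟩

theorem conj_comm {a s : Rt chevE6} (h1 : s ≠ a) (h2 : s ≠ a.rev) (h : chevE6.commTerms a.val s.val = []) (x d : F) :
    cE.X F a x * cE.X F s d * (cE.X F a x)⁻¹ = cE.X F s d := by
  have e := commE.comm_X a s h1 h2 x d
  rw [h] at e
  simp only [List.map_nil, List.prod_nil, mul_one] at e
  rw [← e, mul_inv_cancel_right]

theorem conj_term {a s T : Rt chevE6} {c : ℤ} (h1 : s ≠ a) (h2 : s ≠ a.rev)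
    (h : chevE6.commTerms a.val s.val = [(T.val, c, 1, 1)]) (x d : F) :
    cE.X F a x * cE.X F s d * (cE.X F a x)⁻¹ = cE.X F s d * cE.X F T (c * x * d) := by
  have e := commE.comm_X a s h1 h2 (-x) d
  rw [h] at e
  simp only [List.map_cons, List.map_nil, List.prod_cons, List.prod_nil, mul_one, neg_neg, pow_one] at e
  rw [cE.XN_fin] at e
  rw [cE.X_inv, mul_assoc, e, ← mul_assoc, ← mul_assoc, cE.X_add, add_neg_cancel, cE.X_zero, one_mul]

/-- The radical in matrices. -/
noncomputable def radM : Subgroup (GL chevE6.Idx F) := cE.US F (Qs top)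

theorem radM_le : radM F ≤ chevE6.group F := cE.US_le_group _

/-- The radical. -/
noncomputable def rad : Subgroup ↥(chevE6.group F) := (radM F).subgroupOf (chevE6.group F)

theorem mem_rad {h : ↥(chevE6.group F)} : h ∈ rad F ↔ (h : GL chevE6.Idx F) ∈ radM F := Iff.rfl

/-- The coordinates. -/
noncomputable def coord (h : ↥(rad F)) : Fin 20 → F := fun i => kap top (wt20 i) ((h : ↥(chevE6.group F)) : GL chevE6.Idx F)

variable {F}

theorem X_rad {r : Rt chevE6} (hr : pr chevE6 top r ≤ -1) (t : F) : cE.X F r t ∈ radM F := cE.X_mem_US F hr t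

theorem low_le : pr chevE6 top low ≤ -1 := by
  rw [← top_rev, TD.e_rev_grade cE top]; norm_num

theorem wt20_le (i : Fin 20) : pr chevE6 top (wt20 i) ≤ -1 := (wt20_pr i).1.le

/-- Induction on the radical. -/
theorem rad_induction (P : GL chevE6.Idx F → Prop) (hlow : ∀ t, P (cE.X F low t))
    (hwt : ∀ i t, P (cE.X F (wt20 i) t)) (h1 : P 1)
    (hmul : ∀ x y, x ∈ radM F → y ∈ radM F → P x → P y → P (x * y))
    (hinv : ∀ x, x ∈ radM F → P x → P x⁻¹) {v : GL chevE6.Idx F} (hv : v ∈ radM F) : P v := by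
  induction hv using Subgroup.closure_induction with
  | mem y hy =>
    obtain ⟨r, hr, t, rfl⟩ := hy
    rcases grade_cases r hr with rfl | ⟨i, rfl⟩
    · exact hlow t
    · exact hwt i t
  | one => exact h1
  | mul x y hx hy ihx ihy => exact hmul x y hx hy ihx ihy
  | inv x hx ih => exact hinv x hx ih

theorem kap_low (i : Fin 20) (t : F) : kap top (wt20 i) (cE.X F low t) = 0 := by
  rw [kap_X cE td (wt20_pr i).1 low_le, if_neg (wt20_pr i).2.symm]

theorem kap_wt (i j : Fin 20) (t : F) : kap top (wt20 i) (cE.X F (wt20 j) t) = (Pi.single j t : Fin 20 → F) i := by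
  rw [kap_X cE td (wt20_pr i).1 (wt20_le j)]
  by_cases h : i = j
  · subst h; simp
  · rw [if_neg fun e => h (wt20_inj j i e).symm, Pi.single_eq_of_ne h]

/-- The coordinate vector of a matrix. -/
noncomputable def kapv (v : GL chevE6.Idx F) : Fin 20 → F := fun i => kap top (wt20 i) v

theorem kapv_mul {v w : GL chevE6.Idx F} (hv : v ∈ radM F) (hw : w ∈ radM F) : kapv (v * w) = kapv v + kapv w :=
  funext fun i => kap_mul cE td hv hw (wt20_pr i).1

theorem kapv_one : kapv (1 : GL chevE6.Idx F) = 0 := funext fun i => kap_one cE td (wt20_pr i).1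

theorem kapv_inv {v : GL chevE6.Idx F} (hv : v ∈ radM F) : kapv v⁻¹ = -kapv v :=
  funext fun i => kap_inv cE td hv (wt20_pr i).1

theorem kapv_low (t : F) : kapv (cE.X F low t) = 0 := funext fun i => kap_low i t

theorem kapv_wt (j : Fin 20) (t : F) : kapv (cE.X F (wt20 j) t) = Pi.single j t := funext fun i => kap_wt i j t

theorem low_central {v : GL chevE6.Idx F} (hv : v ∈ radM F) (t : F) :
    cE.X F low t * v = v * cE.X F low t := by
  refine rad_induction (fun v => cE.X F low t * v = v * cE.X F low t) (fun u => ?_) (fun i u => ?_) ?_ ?_ ?_ hv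
  · rw [cE.X_add, cE.X_add, add_comm]
  · obtain ⟨h1, h2⟩ := low_comm (wt20 i) ((wt20_le i).trans (by norm_num)) (wt20_pr i).2
    have e := conj_comm F (a := wt20 i) (s := low) (wt20_pr i).2.symm
      (fun e => h1 (by rw [e, cE.rev_rev])) h2 u t
    rw [mul_inv_eq_iff_eq_mul] at e
    exact e.symm
  · simp
  · intro x y _ _ hx hy
    rw [← mul_assoc, hx, mul_assoc, hy, mul_assoc]
  · intro x _ hx
    exact (Commute.inv_right (show Commute _ x from hx)).eq

theorem pair_conj (i : Fin 20) (u : F) {v : GL chevE6.Idx F} (hv : v ∈ radM F) :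
    cE.X F (wt20 (part i).1) (sg (part i).2 * u) * v * (cE.X F (wt20 (part i).1) (sg (part i).2 * u))⁻¹ =
      cE.X F low (u * kapv v i) * v := by
  set g := cE.X F (wt20 (part i).1) (sg (part i).2 * u) with hg
  refine rad_induction (fun v => g * v * g⁻¹ = cE.X F low (u * kapv v i) * v) (fun t => ?_) (fun j t => ?_) ?_ ?_ ?_ hv
  · rw [kapv_low, Pi.zero_apply, mul_zero, cE.X_zero, one_mul,
      ← low_central (X_rad (wt20_le _) _) t, mul_inv_cancel_right]
  · rw [kapv_wt]
    by_cases hj : j = (part i).1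
    · subst hj
      rw [Pi.single_eq_of_ne (part_ne i).symm, mul_zero, cE.X_zero, one_mul, hg, cE.X_add, cE.X_inv, cE.X_add]
      congr 1; ring
    obtain ⟨h1, h2⟩ := part_cert i j hj
    have hne : wt20 j ≠ wt20 (part i).1 := fun e => hj (wt20_inj _ _ e)
    by_cases hji : j = i
    · subst hji
      rw [if_pos rfl] at h2
      rw [hg, conj_term F hne h1 h2, Pi.single_eq_same, low_central (X_rad (wt20_le _) _)]
      congr 2
      rw [sgZ_cast, ← mul_assoc (sg (part j).2 : F), sg_mul_self, one_mul]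
    · rw [if_neg hji] at h2
      rw [hg, conj_comm F hne h1 h2, Pi.single_eq_of_ne (Ne.symm hji), mul_zero, cE.X_zero, one_mul]
  · rw [kapv_one, Pi.zero_apply, mul_zero, cE.X_zero, mul_one, mul_inv_cancel, one_mul]
  · intro x y hx hy ihx ihy
    rw [show g * (x * y) * g⁻¹ = (g * x * g⁻¹) * (g * y * g⁻¹) by group, ihx, ihy, kapv_mul hx hy, Pi.add_apply,
      mul_add, ← cE.X_add, mul_assoc, ← mul_assoc x, ← low_central hx]
    simp only [mul_assoc]
  · intro x hx ih
    rw [show g * x⁻¹ * g⁻¹ = (g * x * g⁻¹)⁻¹ by group, ih, kapv_inv hx, Pi.neg_apply, mul_neg, ← cE.X_inv,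
      mul_inv_rev]
    exact ((Commute.inv_inv (show Commute _ x from low_central hx _))).eq.symm

theorem exists_coord (v : Fin 20 → F) : ∃ g ∈ radM F, kapv g = v := by
  classical
  suffices h : ∀ s : Finset (Fin 20), ∃ g ∈ radM F, kapv g = ∑ i ∈ s, Pi.single i (v i) by
    obtain ⟨g, hg, e⟩ := h Finset.univ
    exact ⟨g, hg, e.trans (Finset.univ_sum_single v)⟩
  intro s
  induction s using Finset.induction_on with
  | empty => exact ⟨1, one_mem _, by rw [kapv_one]; simp⟩
  | insert i t hi ih =>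
    obtain ⟨g, hg, e⟩ := ih
    exact ⟨_, mul_mem (X_rad (wt20_le i) (v i)) hg, by
      rw [kapv_mul (X_rad (wt20_le i) _) hg, kapv_wt, e, Finset.sum_insert hi]⟩

/-- The action of a root group of the Levi subgroup. -/
theorem move_conj (a : Fin 30) (x : F) {v : GL chevE6.Idx F} (hv : v ∈ radM F) :
    cE.X F (rt30 a) x * v * (cE.X F (rt30 a) x)⁻¹ ∈ radM F ∧
      ∀ y, dot y (kapv (cE.X F (rt30 a) x * v * (cE.X F (rt30 a) x)⁻¹)) = dot (act a x y) (kapv v) := by
  set g := cE.X F (rt30 a) x with hg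
  refine rad_induction (fun v => g * v * g⁻¹ ∈ radM F ∧
    ∀ y, dot y (kapv (g * v * g⁻¹)) = dot (act a x y) (kapv v)) (fun t => ?_) (fun j t => ?_) ?_ ?_ ?_ hv
  · have hne : rt30 a ≠ low := fun e => by
      have h0 := rt30_pr a
      have h1 := low_le
      rw [e] at h0
      omega
    obtain ⟨h1, h2⟩ := low_comm (rt30 a) (rt30_pr a).le hne
    rw [hg, conj_comm F hne.symm (fun e => h1 (by rw [e, cE.rev_rev])) h2]
    exact ⟨X_rad low_le t, fun y => by rw [kapv_low, dot_zero, dot_zero]⟩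
  · obtain ⟨h1, h2, h3⟩ := move_cert a j
    rcases hm : mv a j with _ | ⟨T, b⟩
    · rw [hm] at h3
      rw [hg, conj_comm F h1 h2 h3]
      exact ⟨X_rad (wt20_le j) t, fun y => by rw [kapv_wt, dot_single, dot_single, act_none hm]⟩
    · rw [hm] at h3
      rw [hg, conj_term F h1 h2 h3]
      refine ⟨mul_mem (X_rad (wt20_le j) t) (X_rad (wt20_le T) _), fun y => ?_⟩
      rw [kapv_mul (X_rad (wt20_le j) t) (X_rad (wt20_le T) _), dot_add, kapv_wt, kapv_wt, dot_single, dot_single,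
        dot_single, act_some hm, sgZ_cast]
      ring
  · rw [mul_one, mul_inv_cancel]
    exact ⟨one_mem _, fun y => by rw [kapv_one, dot_zero, dot_zero]⟩
  · intro p q hp hq ⟨ihp, ihp'⟩ ⟨ihq, ihq'⟩
    rw [show g * (p * q) * g⁻¹ = (g * p * g⁻¹) * (g * q * g⁻¹) by group]
    exact ⟨mul_mem ihp ihq, fun y => by
      rw [kapv_mul ihp ihq, dot_add, ihp', ihq', kapv_mul hp hq, dot_add]⟩
  · intro p hp ⟨ihp, ihp'⟩
    rw [show g * p⁻¹ * g⁻¹ = (g * p * g⁻¹)⁻¹ by group]
    exact ⟨inv_mem ihp, fun y => by rw [kapv_inv ihp, dot_neg, ihp', kapv_inv hp, dot_neg]⟩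

theorem scale_low (s : Fˣ) (t : F) :
    hD F (wt20 0) s * cE.X F low t * (hD F (wt20 0) s)⁻¹ = cE.X F low ((s : F) * t) := by
  rw [cE.hD_X (wt20 0) low s t, scale_cert.1, zpow_one, mul_inv_cancel_right]

theorem scale_rad (s : Fˣ) {v : GL chevE6.Idx F} (hv : v ∈ radM F) :
    hD F low s * v * (hD F low s)⁻¹ ∈ radM F ∧ kapv (hD F low s * v * (hD F low s)⁻¹) = (s : F) • kapv v := by
  set h := hD F low s with hh
  refine rad_induction (fun v => h * v * h⁻¹ ∈ radM F ∧ kapv (h * v * h⁻¹) = (s : F) • kapv v)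
    (fun t => ?_) (fun j t => ?_) ?_ ?_ ?_ hv
  · rw [hh, cE.hD_X low low s t, mul_inv_cancel_right]
    exact ⟨X_rad low_le _, by rw [kapv_low, kapv_low, smul_zero]⟩
  · rw [hh, cE.hD_X low (wt20 j) s t, mul_inv_cancel_right, scale_cert.2 j, zpow_one]
    exact ⟨X_rad (wt20_le j) _, by rw [kapv_wt, kapv_wt, ← Pi.single_smul', smul_eq_mul]⟩
  · rw [mul_one, mul_inv_cancel]
    exact ⟨one_mem _, by rw [kapv_one, smul_zero]⟩
  · intro p q hp hq ⟨ihp, ihp'⟩ ⟨ihq, ihq'⟩
    rw [show h * (p * q) * h⁻¹ = (h * p * h⁻¹) * (h * q * h⁻¹) by group]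
    exact ⟨mul_mem ihp ihq, by rw [kapv_mul ihp ihq, ihp', ihq', kapv_mul hp hq, smul_add]⟩
  · intro p hp ⟨ihp, ihp'⟩
    rw [show h * p⁻¹ * h⁻¹ = (h * p * h⁻¹)⁻¹ by group]
    exact ⟨inv_mem ihp, by rw [kapv_inv ihp, ihp', kapv_inv hp, smul_neg]⟩

theorem hD_mem (r : Rt chevE6) (s : Fˣ) : hD F r s ∈ chevE6.group F := by
  rw [← cE.hR_eq F r s]; exact mul_mem (cE.nR_mem_group r s) (cE.nR_mem_group r (-1))

theorem refl_conj (i : Fin 20) : ∃ (g : GL chevE6.Idx F), g ∈ chevE6.group F ∧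
    g * cE.X F (wt20 i) 1 * g⁻¹ = cE.X F low 1 := by
  obtain ⟨s', hv, c, hc, hconj⟩ := nR_conj cE F (refl20 i) 1 (wt20 i)
  obtain ⟨h1, h2⟩ := refl_cert i
  have hs : s' = low := by
    refine cE.v_inj ?_
    rw [hv, h1, one_smul]
    funext m
    simp only [Pi.sub_apply]
    exact (h2 m).symm
  subst hs
  refine ⟨hD F (wt20 0) (Units.mk0 c hc)⁻¹ * cE.nR F (refl20 i) 1,
    mul_mem (hD_mem _ _) (cE.nR_mem_group _ _), ?_⟩
  rw [show hD F (wt20 0) (Units.mk0 c hc)⁻¹ * cE.nR F (refl20 i) 1 * cE.X F (wt20 i) 1 *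
    (hD F (wt20 0) (Units.mk0 c hc)⁻¹ * cE.nR F (refl20 i) 1)⁻¹ = hD F (wt20 0) (Units.mk0 c hc)⁻¹ *
      (cE.nR F (refl20 i) 1 * cE.X F (wt20 i) 1 * (cE.nR F (refl20 i) 1)⁻¹) * (hD F (wt20 0) (Units.mk0 c hc)⁻¹)⁻¹ by group,
    hconj, scale_low, mul_one]
  congr 1
  simp [inv_mul_cancel₀ hc]

theorem xE_inj {r : Rt chevE6} {a b : F} (h : cE.X F r a = cE.X F r b) : a = b := by
  refine sub_eq_zero.1 (cE.X_eq_one (r := r) ?_)
  rw [sub_eq_add_neg, ← cE.X_add, h, ← cE.X_inv, mul_inv_cancel]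

variable (F)

/-- The centre of the radical. -/
noncomputable def zeta : Multiplicative F →* ↥(rad F) :=
  MonoidHom.mk' (fun t : Multiplicative F => ⟨⟨cE.X F low (Multiplicative.toAdd t), cE.X_mem_group _ _⟩, X_rad low_le _⟩)
    fun a b => Subtype.ext (Subtype.ext (cE.X_add F low _ _).symm)

theorem zeta_val (t : Multiplicative F) :
    (((zeta F t : ↥(rad F)) : ↥(chevE6.group F)) : GL chevE6.Idx F) = cE.X F low (Multiplicative.toAdd t) := rfl

/-- The radical as a Heisenberg subgroup. -/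
noncomputable def heis : Heis ↥(chevE6.group F) F 20 where
  Q := rad F
  κ h := kapv ((h : ↥(chevE6.group F)) : GL chevE6.Idx F)
  ζ := zeta F
  κ_mul h k := kapv_mul h.2 k.2
  κ_surj v := by
    obtain ⟨g, hg, e⟩ := exists_coord v
    exact ⟨⟨⟨g, radM_le F hg⟩, hg⟩, e⟩
  κ_ker h := by
    constructor
    · intro h0
      obtain ⟨c, hc⟩ := exists_word cE commE td (fun r s hr hs h1 h2 t ht q hq =>
        top_rev ▸ Fin.ext (hq.trans (hne_top r s hr hs h1 h2 t ht))) h.2 fun r hr => by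
          rcases grade_cases r hr.le with rfl | ⟨i, rfl⟩
          · rw [← top_rev, TD.e_rev_grade cE top] at hr; omega
          · exact congrFun h0 i
      refine ⟨Multiplicative.ofAdd c, Subtype.ext (Subtype.ext ?_)⟩
      rw [zeta_val, toAdd_ofAdd]
      exact hc.trans (by rw [top_rev])
    · rintro ⟨t, rfl⟩
      exact kapv_low _
  ζ_inj a b h := Multiplicative.toAdd.injective
    (xE_inj (congrArg (fun z : ↥(rad F) => ((z : ↥(chevE6.group F)) : GL chevE6.Idx F)) h))
  central t h := Subtype.ext (Subtype.ext (low_central h.2 _))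
  pair i u := ⟨⟨xg F (wt20 (part i).1) (sg (part i).2 * u), X_rad (wt20_le _) _⟩,
    fun h => Subtype.ext (Subtype.ext (pair_conj i u h.2))⟩
  scaleZ s := ⟨⟨hD F (wt20 0) s, hD_mem _ _⟩, fun t => Subtype.ext (scale_low s t)⟩
  b := 19
  conjb := by
    obtain ⟨g, hg, e⟩ := refl_conj (F := F) 19
    exact ⟨⟨xg F (wt20 19) 1, X_rad (wt20_le 19) _⟩, ⟨g, hg⟩, kapv_wt 19 1, Subtype.ext e⟩

theorem moves_act (a : Fin 30) (x : F) : (heis F).Moves (act a x) :=
  ⟨xg F (rt30 a) x, fun h => ⟨⟨xg F (rt30 a) x * h * (xg F (rt30 a) x)⁻¹, (move_conj a x h.2).1⟩,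
    rfl, (move_conj a x h.2).2⟩⟩

theorem moves_of_conj {φ : (Fin 20 → F) → (Fin 20 → F)} {u : GL chevE6.Idx F} (hu : u ∈ chevE6.group F)
    (h : ∀ v ∈ radM F, u * v * u⁻¹ ∈ radM F ∧ ∀ y, dot y (kapv (u * v * u⁻¹)) = dot (φ y) (kapv v)) :
    (heis F).Moves φ :=
  by
  refine ⟨⟨u, hu⟩, fun a => ?_⟩
  obtain ⟨h1, h2⟩ := h ((a : ↥(chevE6.group F)) : GL chevE6.Idx F) ((mem_rad F).1 a.2)
  set g : ↥(chevE6.group F) := ⟨u, hu⟩ with hg
  have e : ((g * (a : ↥(chevE6.group F)) * g⁻¹ : ↥(chevE6.group F)) : GL chevE6.Idx F) =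
      u * ((a : ↥(chevE6.group F)) : GL chevE6.Idx F) * u⁻¹ := by
    simp only [Subgroup.coe_mul, Subgroup.coe_inv, hg]
  have hm : g * (a : ↥(chevE6.group F)) * g⁻¹ ∈ rad F := (mem_rad F).2 (by rw [e]; exact h1)
  refine ⟨⟨g * (a : ↥(chevE6.group F)) * g⁻¹, hm⟩, rfl, fun y => ?_⟩
  show dot y (kapv ((g * (a : ↥(chevE6.group F)) * g⁻¹ : ↥(chevE6.group F)) : GL chevE6.Idx F)) = _
  rw [e]
  exact h2 y

theorem moves_smul (s : Fˣ) : (heis F).Moves fun y => (s : F) • y := by
  refine moves_of_conj F (u := hD F low s) (hD_mem low s) fun v hv => ⟨(scale_rad s hv).1, fun y => ?_⟩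
  rw [(scale_rad s hv).2]
  simp only [dot, Pi.smul_apply, smul_eq_mul]
  exact Finset.sum_congr rfl fun i _ => by ring

end Cfsg.Agent.Lib.E6Deg29
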