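import Cfsg.Agent.Lib.UniDeg48.Eigen
import Cfsg.Agent.Lib.Characters.Kernel

/-!
Representations of a group with a Heisenberg subgroup: the characters of the abelian quotient occurring in
the fixed space of the centre, and a trace identity between them and the degree.
-/

set_option autoImplicit false
set_option linter.unusedSectionVars false

namespace Cfsg.Agent.Lib.E6Deg29

open Module UniDeg48

/-- The standard pairing. -/
def dot {F : Type*} [Field F] {n : ℕ} (y v : Fin n → F) : F := ∑ i, y i * v i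

theorem dot_add {F : Type*} [Field F] {n : ℕ} (y v w : Fin n → F) : dot y (v + w) = dot y v + dot y w := by
  simp [dot, mul_add, Finset.sum_add_distrib]

theorem dot_single {F : Type*} [Field F] {n : ℕ} (y : Fin n → F) (i : Fin n) (c : F) :
    dot y (Pi.single i c) = y i * c := by
  classical
  rw [dot, Finset.sum_eq_single i]
  · rw [Pi.single_eq_same]
  · intro j _ hj; rw [Pi.single_eq_of_ne hj, mul_zero]
  · simp

theorem dot_zero {F : Type*} [Field F] {n : ℕ} (y : Fin n → F) : dot y 0 = 0 := by simp [dot]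

theorem dot_neg {F : Type*} [Field F] {n : ℕ} (y v : Fin n → F) : dot y (-v) = -dot y v := by simp [dot]

/-- A Heisenberg subgroup with the conjugations used below. -/
structure Heis (G : Type*) [Group G] (F : Type*) [Field F] (n : ℕ) where
  /-- the subgroup -/
  Q : Subgroup G
  /-- the coordinates -/
  κ : ↥Q → Fin n → F
  /-- the centre -/
  ζ : Multiplicative F →* ↥Q
  κ_mul : ∀ h k, κ (h * k) = κ h + κ k
  κ_surj : Function.Surjective κ
  κ_ker : ∀ h, κ h = 0 ↔ ∃ t, h = ζ t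
  ζ_inj : Function.Injective ζ
  central : ∀ t h, ζ t * h = h * ζ t
  pair : ∀ (i : Fin n) (u : F), ∃ g : ↥Q, ∀ h : ↥Q, g * h * g⁻¹ = ζ (Multiplicative.ofAdd (u * κ h i)) * h
  scaleZ : ∀ s : Fˣ, ∃ g : G, ∀ t : F, g * (ζ (Multiplicative.ofAdd t) : G) * g⁻¹ =
    (ζ (Multiplicative.ofAdd ((s : F) * t)) : G)
  /-- the distinguished coordinate -/
  b : Fin n
  conjb : ∃ (h : ↥Q) (g : G), κ h = Pi.single b 1 ∧ g * (h : G) * g⁻¹ = (ζ (Multiplicative.ofAdd 1) : G)

namespace Heis

variable {G : Type*} [Group G] [Finite G] {F : Type*} [Field F] [Fintype F] {n : ℕ} (H : Heis G F n)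

/-- A transformation of the dual induced by conjugation. -/
def Moves (φ : (Fin n → F) → (Fin n → F)) : Prop :=
  ∃ g : G, ∀ h : ↥H.Q, ∃ h' : ↥H.Q, (h' : G) = g * h * g⁻¹ ∧ ∀ y, dot y (H.κ h') = dot (φ y) (H.κ h)

theorem κ_one : H.κ 1 = 0 := by
  have h := H.κ_mul 1 1
  rw [one_mul] at h
  simpa using h

theorem κ_inv (h : ↥H.Q) : H.κ h⁻¹ = -H.κ h := by
  refine eq_neg_of_add_eq_zero_left ?_
  rw [← H.κ_mul, inv_mul_cancel, κ_one]

theorem κ_ζ (t : Multiplicative F) : H.κ (H.ζ t) = 0 := (H.κ_ker _).2 ⟨t, rfl⟩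

theorem moves_comp {φ φ' : (Fin n → F) → (Fin n → F)} (h1 : H.Moves φ) (h2 : H.Moves φ') :
    H.Moves (φ' ∘ φ) := by
  obtain ⟨g, hg⟩ := h1
  obtain ⟨g', hg'⟩ := h2
  refine ⟨g * g', fun h => ?_⟩
  obtain ⟨a, ha, ha'⟩ := hg' h
  obtain ⟨b, hb, hb'⟩ := hg a
  refine ⟨b, ?_, fun y => ?_⟩
  · rw [hb, ha]; group
  · rw [hb', ha']; rfl

theorem moves_id : H.Moves id := ⟨1, fun h => ⟨h, by simp, fun _ => rfl⟩⟩

theorem sum_fibre (v : Fin n → F) {h0 : ↥H.Q} (hv : H.κ h0 = v) [Fintype ↥H.Q] [DecidableEq F] (f : ↥H.Q → ℂ) :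
    ∑ h ∈ Finset.univ.filter (fun h => H.κ h = v), f h = ∑ t : F, f (H.ζ (Multiplicative.ofAdd t) * h0) := by
  classical
  symm
  refine Finset.sum_bij (fun t _ => H.ζ (Multiplicative.ofAdd t) * h0) (fun t _ => ?_) (fun a _ b _ h => ?_)
    (fun h hh => ?_) (fun _ _ => rfl)
  · simp [H.κ_mul, κ_ζ, hv]
  · exact Multiplicative.ofAdd.injective (H.ζ_inj (mul_right_cancel h))
  · simp only [Finset.mem_filter, Finset.mem_univ, true_and] at hh
    obtain ⟨t, ht⟩ := (H.κ_ker (h * h0⁻¹)).1 (by rw [H.κ_mul, κ_inv, hh, hv, add_neg_cancel])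
    exact ⟨Multiplicative.toAdd t, Finset.mem_univ _, by simp [← ht]⟩

theorem card_Q [Fintype ↥H.Q] :
    (Fintype.card ↥H.Q : ℂ) = (Fintype.card F : ℂ) ^ n * (Fintype.card F : ℂ) := by
  classical
  have h := Finset.sum_fiberwise (Finset.univ : Finset ↥H.Q) H.κ (fun _ => (1 : ℂ))
  have hf : ∀ v, ∑ _h ∈ Finset.univ.filter (fun h => H.κ h = v), (1 : ℂ) = (Fintype.card F : ℂ) := fun v => by
    obtain ⟨h0, hv⟩ := H.κ_surj v
    rw [H.sum_fibre v hv fun _ => (1 : ℂ)]
    simp
  simp only [hf, Finset.sum_const, Finset.card_univ, Fintype.card_fun, Fintype.card_fin, nsmul_eq_mul, mul_one] at h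
  push_cast at h
  exact h.symm

variable (ψ : AddChar F ℂ) {V : Type*} [AddCommGroup V] [Module ℂ V] [FiniteDimensional ℂ V]
  (ρ : Representation ℂ G V)

/-- The centre as a homomorphism into the group. -/
def zG : Multiplicative F →* G := H.Q.subtype.comp H.ζ

/-- The common eigenspace of a character of the quotient. -/
def esp (y : Fin n → F) : Submodule ℂ V :=
  ⨅ h : ↥H.Q, LinearMap.ker (ρ (h : G) - ψ (dot y (H.κ h)) • (1 : Module.End ℂ V))

theorem mem_esp {y : Fin n → F} {v : V} :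
    v ∈ H.esp ψ ρ y ↔ ∀ h : ↥H.Q, ρ (h : G) v = ψ (dot y (H.κ h)) • v := by
  simp [esp, Submodule.mem_iInf, sub_eq_zero]

/-- The multiplicity of a character of the quotient. -/
noncomputable def m (y : Fin n → F) : ℕ := finrank ℂ (H.esp ψ ρ y)

/-- The multiplicity of a non-trivial central character. -/
noncomputable def M : ℕ := finrank ℂ (eigSub ρ H.zG ψ)

theorem m_eq [Fintype ↥H.Q] (y : Fin n → F) :
    (H.m ψ ρ y : ℂ) = (Fintype.card ↥H.Q : ℂ)⁻¹ * ∑ h : ↥H.Q, ψ (-dot y (H.κ h)) * ρ.character (h : G) := by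
  classical
  set P : Module.End ℂ V := (Fintype.card ↥H.Q : ℂ)⁻¹ • ∑ h : ↥H.Q, ψ (-dot y (H.κ h)) • ρ (h : G) with hP
  have hc : (Fintype.card ↥H.Q : ℂ) ≠ 0 := Nat.cast_ne_zero.2 Fintype.card_ne_zero
  have hproj : LinearMap.IsProj (H.esp ψ ρ y) P := by
    refine ⟨fun v => (H.mem_esp ψ ρ).2 fun b => ?_, fun v hv => ?_⟩
    · simp only [hP, LinearMap.smul_apply, LinearMap.sum_apply, map_smul, map_sum]
      rw [smul_comm, Finset.smul_sum (r := ψ (dot y (H.κ b)))]
      congr 1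
      refine Fintype.sum_equiv (Equiv.mulLeft b) _ _ fun a => ?_
      simp only [Equiv.coe_mulLeft, Subgroup.coe_mul, map_mul, Module.End.mul_apply, H.κ_mul, smul_smul,
        ← AddChar.map_add_eq_mul, dot_add, neg_add_rev]
      congr 2
      abel
    · rw [H.mem_esp] at hv
      simp only [hP, LinearMap.smul_apply, LinearMap.sum_apply, hv, smul_smul, ← AddChar.map_add_eq_mul,
        neg_add_cancel, AddChar.map_zero_eq_one, one_smul, Finset.sum_const, Finset.card_univ]
      rw [← Nat.cast_smul_eq_nsmul ℂ, smul_smul, inv_mul_cancel₀ hc, one_smul]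
  rw [m, ← hproj.trace, hP, map_smul, map_sum, smul_eq_mul]
  simp only [map_smul, smul_eq_mul, Representation.character]

theorem m_moves {φ : (Fin n → F) → (Fin n → F)} (hφ : H.Moves φ) (y : Fin n → F) :
    H.m ψ ρ (φ y) = H.m ψ ρ y := by
  classical
  have := Fintype.ofFinite ↥H.Q
  obtain ⟨g, hg⟩ := hφ
  choose f hf hf' using hg
  have hinj : Function.Injective f := fun a b hab => Subtype.ext (by
    have := congrArg Subtype.val hab
    rw [hf, hf] at this
    exact mul_left_cancel (mul_right_cancel this))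
  have hbij := (Finite.injective_iff_bijective.1 hinj)
  have h : (H.m ψ ρ y : ℂ) = H.m ψ ρ (φ y) := by
    rw [m_eq, m_eq]
    congr 1
    refine (Fintype.sum_bijective f hbij _ _ fun a => ?_).symm
    rw [hf', hf, Representation.char_conj]
  exact_mod_cast h.symm

variable (hψ : ψ ≠ 1)
include hψ

theorem sum_psi_dot [DecidableEq F] (v : Fin n → F) :
    ∑ y : Fin n → F, ψ (dot y v) = if v = 0 then (Fintype.card F : ℂ) ^ n else 0 := by
  classical
  split_ifs with hv
  · simp [hv, dot_zero]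
  · obtain ⟨i, hi⟩ := Function.ne_iff.1 hv
    obtain ⟨a, ha⟩ := AddChar.ne_one_iff.1 hψ
    let L : (Fin n → F) →+ F := AddMonoidHom.mk' (fun y => dot y v) fun y z => by
      simp [dot, add_mul, Finset.sum_add_distrib]
    refine AddChar.sum_eq_zero_of_ne_one (ψ := ψ.compAddMonoidHom L) fun h => ha ?_
    have h2 := DFunLike.congr_fun h (Pi.single i (a / v i))
    simp only [AddChar.compAddMonoidHom_apply, AddChar.one_apply] at h2
    have hL : L (Pi.single i (a / v i)) = a := by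
      show dot _ v = a
      rw [dot, Finset.sum_eq_single i]
      · rw [Pi.single_eq_same, div_mul_cancel₀ _ hi]
      · intro j _ hj; rw [Pi.single_eq_of_ne hj, zero_mul]
      · simp
    rwa [hL] at h2

theorem sum_m_mul (v : Fin n → F) {h0 : ↥H.Q} (hv : H.κ h0 = v) :
    ∑ y : Fin n → F, (H.m ψ ρ y : ℂ) * ψ (dot y v) =
      (Fintype.card F : ℂ)⁻¹ * ∑ t : F, ρ.character ((H.ζ (Multiplicative.ofAdd t) * h0 : ↥H.Q) : G) := by
  classical
  have := Fintype.ofFinite ↥H.Q
  simp only [m_eq, mul_assoc, ← Finset.mul_sum, Finset.sum_mul]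
  rw [Finset.sum_comm]
  have key : ∀ h : ↥H.Q, (∑ y : Fin n → F, ψ (-dot y (H.κ h)) * (ρ.character (h : G) * ψ (dot y v))) =
      if H.κ h = v then (Fintype.card F : ℂ) ^ n * ρ.character (h : G) else 0 := by
    intro h
    have e : ∀ y, ψ (-dot y (H.κ h)) * (ρ.character (h : G) * ψ (dot y v)) =
        ρ.character (h : G) * ψ (dot y (v - H.κ h)) := fun y => by
      rw [sub_eq_add_neg, dot_add, dot_neg, AddChar.map_add_eq_mul]; ring
    simp only [e, ← Finset.mul_sum, sum_psi_dot ψ hψ, sub_eq_zero]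
    by_cases hh : H.κ h = v
    · simp [hh, mul_comm]
    · simp [hh, Ne.symm hh]
  simp only [key]
  rw [← Finset.sum_filter, ← Finset.mul_sum, H.sum_fibre v hv fun h => ρ.character (h : G), card_Q]
  have hq : (Fintype.card F : ℂ) ≠ 0 := Nat.cast_ne_zero.2 Fintype.card_ne_zero
  field_simp

theorem char_ζ (t : F) (ht : t ≠ 0) :
    ρ.character ((H.ζ (Multiplicative.ofAdd t) : ↥H.Q) : G) =
      ρ.character ((H.ζ (Multiplicative.ofAdd 1) : ↥H.Q) : G) := by
  obtain ⟨g, hg⟩ := H.scaleZ (Units.mk0 t ht)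
  have := hg 1
  rw [Units.val_mk0, mul_one] at this
  rw [← this, Representation.char_conj]

theorem M_eq : (H.M ψ ρ : ℂ) =
    (Fintype.card F : ℂ)⁻¹ * (ρ.character 1 - ρ.character ((H.ζ (Multiplicative.ofAdd 1) : ↥H.Q) : G)) := by
  classical
  have hproj : LinearMap.IsProj (eigSub ρ H.zG ψ) (MinDegree.eigenProj ρ H.zG ψ) := by
    refine ⟨fun v => range_eigenProj ρ H.zG ψ ▸ LinearMap.mem_range_self _ v, fun v hv => ?_⟩
    rw [mem_eigSub] at hv
    rw [MinDegree.eigenProj_apply]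
    simp only [hv, smul_smul, ← AddChar.map_add_eq_mul, neg_add_cancel, AddChar.map_zero_eq_one,
      one_smul, Finset.sum_const, Finset.card_univ]
    rw [← Nat.cast_smul_eq_nsmul ℂ, smul_smul,
      inv_mul_cancel₀ (Nat.cast_ne_zero.2 Fintype.card_ne_zero), one_smul]
  rw [M, ← hproj.trace, MinDegree.eigenProj, map_smul, map_sum, smul_eq_mul]
  congr 1
  set c1 := ρ.character ((H.ζ (Multiplicative.ofAdd 1) : ↥H.Q) : G) with hc1
  have e : ∀ t : F, LinearMap.trace ℂ V (ψ (-t) • ρ (H.zG (Multiplicative.ofAdd t))) =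
      ψ (-t) * c1 + if t = 0 then ρ.character 1 - c1 else 0 := by
    intro t
    rw [map_smul, smul_eq_mul]
    by_cases ht : t = 0
    · subst ht; simp [Representation.character]
    · rw [if_neg ht, add_zero, hc1, ← H.char_ζ ψ ρ hψ t ht]; rfl
  simp only [e, Finset.sum_add_distrib, ← Finset.sum_mul, Finset.sum_ite_eq', Finset.mem_univ, if_true]
  rw [show ∑ t : F, ψ (-t) = 0 from (Fintype.sum_equiv (Equiv.neg F) _ _ fun t => rfl).trans
    (AddChar.sum_eq_zero_of_ne_one hψ), zero_mul, zero_add]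

/-- The degree splits over the centre. -/
theorem finrank_eq : finrank ℂ V = ∑ y, H.m ψ ρ y + (Fintype.card F - 1) * H.M ψ ρ := by
  classical
  have h0 := H.sum_m_mul ψ ρ hψ 0 H.κ_one
  simp only [dot_zero, AddChar.map_zero_eq_one, mul_one] at h0
  rw [← Finset.add_sum_erase Finset.univ _ (Finset.mem_univ (0 : F))] at h0
  have e : ∀ t ∈ (Finset.univ : Finset F).erase 0,
      ρ.character ((H.ζ (Multiplicative.ofAdd t) : ↥H.Q) : G) =
        ρ.character ((H.ζ (Multiplicative.ofAdd 1) : ↥H.Q) : G) := fun t ht =>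
    H.char_ζ ψ ρ hψ t (Finset.ne_of_mem_erase ht)
  rw [Finset.sum_congr rfl e, Finset.sum_const, Finset.card_erase_of_mem (Finset.mem_univ _), Finset.card_univ,
    nsmul_eq_mul] at h0
  have hM := H.M_eq ψ ρ hψ
  have h1 : 1 ≤ Fintype.card F := Fintype.card_pos
  have : (finrank ℂ V : ℂ) = ((∑ y, H.m ψ ρ y + (Fintype.card F - 1) * H.M ψ ρ : ℕ) : ℂ) := by
    push_cast [Nat.cast_sub h1] at h0 ⊢
    simp only [ofAdd_zero, map_one, OneMemClass.coe_one] at h0
    rw [h0, hM, ← ρ.char_one]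
    field_simp
    ring
  exact_mod_cast this

/-- The trace identity at a root element of the quotient. -/
theorem sum_m_sub :
    ∑ y : Fin n → F, (H.m ψ ρ y : ℂ) * (1 - ψ (y H.b)) = H.M ψ ρ := by
  classical
  obtain ⟨hb, gb, hκ, hconj⟩ := H.conjb
  have h0 := H.sum_m_mul ψ ρ hψ 0 H.κ_one
  have h1 := H.sum_m_mul ψ ρ hψ (Pi.single H.b 1) hκ
  simp only [dot_zero, AddChar.map_zero_eq_one, mul_one] at h0
  simp only [dot_single, mul_one] at h1
  have e : ∀ t : F, ρ.character ((H.ζ (Multiplicative.ofAdd t) * hb : ↥H.Q) : G) =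
      ρ.character ((H.ζ (Multiplicative.ofAdd 1) : ↥H.Q) : G) := by
    intro t
    obtain ⟨g, hg⟩ := H.pair H.b t
    have hgb := hg hb
    rw [hκ, Pi.single_eq_same, mul_one] at hgb
    rw [← hgb, ← hconj, Representation.char_conj, Subgroup.coe_mul, Subgroup.coe_mul, Subgroup.coe_inv,
      Representation.char_conj]
  simp only [mul_sub, mul_one, Finset.sum_sub_distrib, h0, h1, e]
  rw [← Finset.add_sum_erase Finset.univ _ (Finset.mem_univ (0 : F))]
  rw [Finset.sum_congr rfl fun t ht => H.char_ζ ψ ρ hψ t (Finset.ne_of_mem_erase ht), Finset.sum_const,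
    Finset.sum_const, Finset.card_erase_of_mem (Finset.mem_univ _), Finset.card_univ, H.M_eq ψ ρ hψ]
  have h2 : 1 ≤ Fintype.card F := Fintype.card_pos
  simp only [nsmul_eq_mul, Nat.cast_sub h2, Nat.cast_one, ofAdd_zero, map_one, OneMemClass.coe_one]
  ring

variable (hf : ρ ((H.ζ (Multiplicative.ofAdd 1) : ↥H.Q) : G) ≠ 1)
include hf

theorem M_pos : 0 < H.M ψ ρ := by
  by_contra h
  have h0 : H.M ψ ρ = 0 := by omega
  have hM := H.M_eq ψ ρ hψ
  rw [h0, Nat.cast_zero] at hM
  refine hf ((Characters.Kernel.rep_eq_one_iff ρ _).2 ?_)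
  rcases mul_eq_zero.1 hM.symm with h | h
  · exact absurd (inv_eq_zero.1 h) (Nat.cast_ne_zero.2 Fintype.card_ne_zero)
  · exact (sub_eq_zero.1 h).symm

/-- The Heisenberg bound. -/
theorem pow_le_sq : Fintype.card F ^ n ≤ H.M ψ ρ * H.M ψ ρ := by
  classical
  set W := eigSub ρ H.zG ψ with hW
  have hz : ∀ (w : W) (t : F), ρ ((H.ζ (Multiplicative.ofAdd t) : ↥H.Q) : G) w = ψ t • (w : V) := fun w t =>
    (mem_eigSub ρ H.zG).1 w.2 t
  have hinv : ∀ (h : ↥H.Q) (w : V), w ∈ W → ρ (h : G) w ∈ W := fun h w hw =>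
    map_eigSub ρ H.zG (h : G) (fun t => (congrArg Subtype.val (H.central _ h)).symm) hw
  choose s hs using H.κ_surj
  let sec : (Fin n → F) → ↥H.Q := fun a => if a = 0 then 1 else s a
  have hsec : ∀ a, H.κ (sec a) = a := fun a => by
    by_cases ha : a = 0
    · subst ha; simp [sec, κ_one]
    · simp only [sec, if_neg ha, hs]
  have hz' : ∀ a b, ∃ z : F, sec a * sec b = H.ζ (Multiplicative.ofAdd z) * sec (a + b) := by
    intro a b
    obtain ⟨t, ht⟩ := (H.κ_ker (sec a * sec b * (sec (a + b))⁻¹)).1 (by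
      rw [H.κ_mul, H.κ_mul, κ_inv, hsec, hsec, hsec, add_neg_cancel])
    exact ⟨Multiplicative.toAdd t, by rw [ofAdd_toAdd, ← ht, inv_mul_cancel_right]⟩
  choose z hz2 using hz'
  let P : (Fin n → F) → Module.End ℂ W := fun a =>
    LinearMap.restrict (ρ (sec a : G)) (hinv (sec a))
  have hP : ∀ a b, P a * P b = ψ (z a b) • P (a + b) := by
    intro a b
    refine LinearMap.ext fun w => Subtype.ext ?_
    show ρ (sec a : G) (ρ (sec b : G) w) = ψ (z a b) • ρ (sec (a + b) : G) w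
    rw [← Module.End.mul_apply, ← map_mul, ← Subgroup.coe_mul, hz2, H.central, Subgroup.coe_mul, map_mul,
      Module.End.mul_apply, hz, map_smul]
  have hpos := H.M_pos ψ ρ hψ hf
  have hnd : ∀ a : Fin n → F, a ≠ 0 → ∃ b, ψ (z a b) ≠ ψ (z b a) := by
    intro a ha
    obtain ⟨i, hi⟩ := Function.ne_iff.1 ha
    obtain ⟨c, hc⟩ := AddChar.ne_one_iff.1 hψ
    obtain ⟨g, hg⟩ := H.pair i (c / a i)
    refine ⟨H.κ g, fun heq => hc ?_⟩
    set b := H.κ g
    obtain ⟨t, ht⟩ := (H.κ_ker (g * (sec b)⁻¹)).1 (by rw [H.κ_mul, κ_inv, hsec, add_neg_cancel])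
    have hg' := hg (sec a)
    rw [hsec, div_mul_cancel₀ _ hi] at hg'
    have hga : g = H.ζ t * sec b := by rw [← ht, inv_mul_cancel_right]
    have h3 : sec b * sec a = H.ζ (Multiplicative.ofAdd c) * (sec a * sec b) := by
      rw [hga, mul_inv_rev, ← mul_assoc] at hg'
      have : H.ζ t * (sec b * sec a * (sec b)⁻¹) * (H.ζ t)⁻¹ = H.ζ (Multiplicative.ofAdd c) * sec a := by
        rw [← hg']; group
      rw [H.central, mul_inv_cancel_right] at this
      rw [← mul_assoc, ← this, inv_mul_cancel_right]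
    rw [hz2, hz2, add_comm b a, ← mul_assoc, ← map_mul, ← ofAdd_add] at h3
    have h5 := Multiplicative.ofAdd.injective (H.ζ_inj (mul_right_cancel h3))
    rw [h5, AddChar.map_add_eq_mul] at heq
    exact (mul_eq_right₀ (AddChar.val_isUnit ψ _).ne_zero).1 heq.symm
  have := card_le_sq_of_projective (W := W) hpos P (fun a b => ψ (z a b))
    (fun a b => (AddChar.val_isUnit ψ _).ne_zero)
    (LinearMap.ext fun w => Subtype.ext (by
      show ρ (sec 0 : G) w = w
      simp [sec])) hP hnd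
  rwa [Nat.card_eq_fintype_card, Fintype.card_fun, Fintype.card_fin] at this

end Heis

end Cfsg.Agent.Lib.E6Deg29
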