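import Cfsg.Agent.Lib.E6Deg29.Datum
import Cfsg.Agent.Lib.SLDeg48.Main
import Cfsg.Agent.Lib.Schur.SteinbergSLn

/-!
The image of `SL₆` in the Levi subgroup, and the dichotomy for a small invariant subspace.
-/

set_option autoImplicit false
set_option linter.unusedSectionVars false
set_option maxRecDepth 100000

namespace Cfsg.Agent.Lib.E6Deg29

open Cfsg.Lie Cfsg.Agent.Lib.ChevStructure
open Module

/-- The roots of the Levi subgroup as transvections. -/
def r6L : List (List (Fin 30)) :=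
  [[0, 25, 26, 27, 28, 29], [4, 0, 21, 22, 23, 24], [3, 8, 0, 18, 19, 20], [2, 7, 11, 0, 16, 17],
    [1, 6, 10, 13, 0, 15], [0, 5, 9, 12, 14, 0]]

/-- The lookup. -/
def r6 (i j : Fin 6) : Fin 30 := (r6L.getD i.val []).getD j.val 0

/-- The signs of the parametrisation. -/
def s6L : List (List Bool) :=
  [[true, true, false, true, false, true], [true, true, true, false, true, false],
    [false, true, true, true, false, true], [true, false, true, true, true, false],
    [false, true, false, true, true, true], [true, false, true, false, true, true]]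

/-- The lookup. -/
def s6 (i j : Fin 6) : Bool := (s6L.getD i.val []).getD j.val true

theorem r6_comm : ∀ i j k l : Fin 6, i ≠ j → k ≠ l → i ≠ l → j ≠ k → r6 i j ≠ r6 k l →
    rt30 (r6 k l) ≠ rt30 (r6 i j) ∧ rt30 (r6 k l) ≠ (rt30 (r6 i j)).rev ∧
    chevE6.commTerms (rt30 (r6 i j)).val (rt30 (r6 k l)).val = [] := by
  decide +kernel

theorem r6_chain : ∀ i j l : Fin 6, i ≠ j → j ≠ l → i ≠ l →
    rt30 (r6 j l) ≠ rt30 (r6 i j) ∧ rt30 (r6 j l) ≠ (rt30 (r6 i j)).rev ∧
    chevE6.commTerms (rt30 (r6 i j)).val (rt30 (r6 j l)).val =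
      [((rt30 (r6 i l)).val, sgZ (s6 i l) * sgZ (s6 i j) * sgZ (s6 j l), 1, 1)] ∧
    rt30 (r6 j l) ≠ rt30 (r6 i l) ∧ rt30 (r6 j l) ≠ (rt30 (r6 i l)).rev ∧
    chevE6.commTerms (rt30 (r6 i l)).val (rt30 (r6 j l)).val = [] := by
  decide +kernel

theorem r6_surj : ∀ a : Fin 30, ∃ i j : Fin 6, i ≠ j ∧ r6 i j = a := by decide +kernel

variable (F : Type*) [Field F]

/-- The family of root elements. -/
noncomputable def X6 (i j : Fin 6) (t : F) : ↥(chevE6.group F) := xg F (rt30 (r6 i j)) (sg (s6 i j) * t)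

theorem X6_rel : Schur.SteinbergSLn.IsSLnRel (X6 F) := by
  constructor
  · intro i j _ t u
    refine Subtype.ext ?_
    simp only [X6, xg, Subgroup.coe_mul]
    rw [cE.X_add, mul_add]
  · intro i j k l hij hkl hil hjk t u
    refine Subtype.ext ?_
    simp only [X6, xg, Subgroup.coe_mul]
    by_cases h : r6 i j = r6 k l
    · rw [h, cE.X_add, cE.X_add, add_comm]
    · obtain ⟨h1, h2, h3⟩ := r6_comm i j k l hij hkl hil hjk h
      exact mul_inv_eq_iff_eq_mul.1 (conj_comm F h1 h2 h3 _ _)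
  · intro i j l hij hjl hil t u
    refine Subtype.ext ?_
    simp only [X6, xg, Subgroup.coe_mul]
    obtain ⟨h1, h2, h3, h4, h5, h6⟩ := r6_chain i j l hij hjl hil
    have e := mul_inv_eq_iff_eq_mul.1 (conj_term F h1 h2 h3 (sg (s6 i j) * t) (sg (s6 j l) * u))
    have e2 := mul_inv_eq_iff_eq_mul.1 (conj_comm F h4 h5 h6 (sg (s6 i l) * (t * u)) (sg (s6 j l) * u))
    have hc : (((sgZ (s6 i l) * sgZ (s6 i j) * sgZ (s6 j l) : ℤ)) : F) * (sg (s6 i j) * t) * (sg (s6 j l) * u) =
        sg (s6 i l) * (t * u) := by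
      push_cast
      rw [sgZ_cast, sgZ_cast, sgZ_cast]
      linear_combination (sg (s6 i l) * t * u * (sg (s6 j l) * sg (s6 j l))) * sg_mul_self (F := F) (s6 i j) +
        (sg (s6 i l) * t * u) * sg_mul_self (F := F) (s6 j l)
    rw [hc] at e
    rw [e, e2]

theorem rt30_normalizer (a : Fin 30) (t : F) : xg F (rt30 a) t ∈ Subgroup.normalizer (rad F : Set ↥(chevE6.group F)) := by
  have key : ∀ t : F, ∀ h ∈ rad F, xg F (rt30 a) t * h * (xg F (rt30 a) t)⁻¹ ∈ rad F := fun t h hh => by
    rw [mem_rad]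
    simp only [Subgroup.coe_mul, Subgroup.coe_inv, xg]
    exact (move_conj a t ((mem_rad F).1 hh)).1
  rw [Subgroup.mem_normalizer_iff]
  intro h
  refine ⟨key t h, fun hh => ?_⟩
  have := key (-t) _ hh
  have e : xg F (rt30 a) (-t) = (xg F (rt30 a) t)⁻¹ := Subtype.ext (cE.X_inv F _ t).symm
  rw [e] at this
  simpa [mul_assoc] using this

theorem exists_levi [Finite F] : ∃ φ : SLDeg48.SL' 6 F →* ↥(chevE6.group F),
    (∀ g, φ g ∈ Subgroup.normalizer (rad F : Set ↥(chevE6.group F))) ∧ ∀ a t, ∃ g, φ g = xg F (rt30 a) t := by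
  obtain ⟨e, he⟩ := Schur.SteinbergSLn.exists_presentation (F := F) 6 (by norm_num)
  have htr : ∀ (i j : Fin 6) (hij : i ≠ j) (c : F),
      ((PresentedGroup.toGroup (Schur.SteinbergSLn.rels_eval (X6_rel F))).comp e.symm.toMonoidHom)
        (Matrix.SpecialLinearGroup.transvection hij c) = X6 F i j c := fun i j hij c => by
    show (PresentedGroup.toGroup (Schur.SteinbergSLn.rels_eval (X6_rel F))) (e.symm _) = _
    rw [← he ⟨(i, j), hij⟩ c, MulEquiv.symm_apply_apply, PresentedGroup.toGroup.of]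
  refine ⟨(PresentedGroup.toGroup (Schur.SteinbergSLn.rels_eval (X6_rel F))).comp e.symm.toMonoidHom, fun g => ?_,
    fun a t => ?_⟩
  · have := Linear.sl_eq_top_of_transvection_mem
      ((Subgroup.normalizer (rad F : Set ↥(chevE6.group F))).comap
        ((PresentedGroup.toGroup (Schur.SteinbergSLn.rels_eval (X6_rel F))).comp e.symm.toMonoidHom))
      (fun i j hij c => by rw [Subgroup.mem_comap, htr i j hij c]; exact rt30_normalizer F _ _)
    exact this.ge (Subgroup.mem_top g)
  · obtain ⟨i, j, hij, rfl⟩ := r6_surj a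
    refine ⟨Matrix.SpecialLinearGroup.transvection hij (sg (s6 i j) * t), ?_⟩
    rw [htr i j hij]
    show xg F (rt30 (r6 i j)) (sg (s6 i j) * (sg (s6 i j) * t)) = _
    rw [← mul_assoc, sg_mul_self, one_mul]

variable {F} [Fintype F]

/-- A representation of `SL₆` of small degree is trivial. -/
theorem trivial_of_small {M : Type*} [AddCommGroup M] [Module ℂ M] [FiniteDimensional ℂ M]
    (σ : Representation ℂ (SLDeg48.SL' 6 F) M)
    (hsmall : finrank ℂ M < ∑ i ∈ Finset.range 5, Fintype.card F ^ (i + 1)) : ∀ g z, σ g z = z := by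
  classical
  have := Fintype.ofFinite (SLDeg48.SL' 6 F)
  have hc : (Fintype.card (SLDeg48.SL' 6 F) : ℂ) ≠ 0 := Nat.cast_ne_zero.2 Fintype.card_ne_zero
  set P : Module.End ℂ M := (Fintype.card (SLDeg48.SL' 6 F) : ℂ)⁻¹ • ∑ g, σ g with hP
  have hfix : ∀ g z, σ g (P z) = P z := fun g z => by
    simp only [hP, LinearMap.smul_apply, LinearMap.sum_apply, map_smul, map_sum]
    congr 1
    exact Fintype.sum_equiv (Equiv.mulLeft g) _ _ fun a => by simp [map_mul]
  have hPg : ∀ g z, P (σ g z) = P z := fun g z => by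
    simp only [hP, LinearMap.smul_apply, LinearMap.sum_apply]
    congr 1
    exact Fintype.sum_equiv (Equiv.mulRight g) _ _ fun a => by simp [map_mul]
  have hPfix : ∀ z, (∀ g, σ g z = z) → P z = z := fun z hz => by
    simp only [hP, LinearMap.smul_apply, LinearMap.sum_apply, hz, Finset.sum_const, Finset.card_univ]
    rw [← Nat.cast_smul_eq_nsmul ℂ, smul_smul, inv_mul_cancel₀ hc, one_smul]
  let N : Subrepresentation σ := ⟨LinearMap.ker P, fun g z hz => by
    rw [LinearMap.mem_ker] at hz ⊢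
    rw [hPg, hz]⟩
  rcases Nat.eq_zero_or_pos (finrank ℂ N.toSubmodule) with h0 | hpos
  · intro g z
    have hmem : z - P z ∈ N.toSubmodule := LinearMap.mem_ker.2 (by
      rw [map_sub, hPfix _ fun g => hfix g z, sub_self])
    rw [Submodule.finrank_eq_zero.1 h0, Submodule.mem_bot, sub_eq_zero] at hmem
    rw [hmem, hfix]
  · exfalso
    rcases SLDeg48.lower_or N.toRepresentation (n := 6) (by norm_num) ⟨by simp, by simp, by simp, by simp⟩ hpos
      (fun z hz => Subtype.ext (by
        have h1 : P (z : M) = z := hPfix _ fun g => congrArg Subtype.val (hz g)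
        have h2 : P (z : M) = 0 := LinearMap.mem_ker.1 z.2
        rw [← h1, h2]; rfl)) with h | ⟨h, -⟩
    · exact absurd (h.trans (Submodule.finrank_le N.toSubmodule)) (not_le.2 hsmall)
    · omega

end Cfsg.Agent.Lib.E6Deg29
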