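import Cfsg.Agent.Lib.E6Deg29.Datum2
import Cfsg.Agent.Lib.E6Deg29.Levi
import Cfsg.Agent.Lib.UniDeg48.Descent
import Cfsg.Agent.Lib.Unitary.Generation

/-!
The image of `SU₆` in the fixed points of the Levi subgroup, and the triviality of its small representations.
-/

set_option autoImplicit false
set_option linter.unusedSectionVars false
set_option maxRecDepth 100000

namespace Cfsg.Agent.Lib.E6Deg29.Tw

open Cfsg.Lie Cfsg.Agent.Lib.ChevStructure
open Module Matrix
open scoped MatrixGroups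

/-- The signs of the form. -/
def d6 (i : Fin 6) : Bool := i.val % 2 == 0

theorem r6_sym : ∀ i j : Fin 6, i ≠ j → p30 (r6 i j) = r6 j.rev i.rev ∧
    ((e30 (r6 i j) == s6 i j) == s6 j.rev i.rev) = !(d6 i == d6 j) ∧ j.rev ≠ i.rev ∧
    (p30 (r6 i j) = r6 i j → j.rev = i) := by
  decide +kernel

theorem d6_rev : ∀ i : Fin 6, d6 i.rev = !d6 i := by decide

variable {K : Type*} [Field K]

/-- The matrix of the form. -/
def J6m : Matrix (Fin 6) (Fin 6) K := fun a b => if a = b.rev then sg (d6 b) else 0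

theorem J6m_det : (J6m : Matrix (Fin 6) (Fin 6) K).det = 1 := by
  have e : (J6m : Matrix (Fin 6) (Fin 6) K) =
      (Matrix.diagonal fun b => sg (!d6 b)).submatrix id Fin.revPerm := by
    ext a b
    simp only [J6m, Matrix.submatrix_apply, id, Fin.revPerm_apply, Matrix.diagonal_apply]
    by_cases h : a = b.rev
    · subst h; simp [d6_rev]
    · simp [h]
  rw [e, Matrix.det_permute', Matrix.det_diagonal, Fin.prod_univ_six,
    show Equiv.Perm.sign (Fin.revPerm (n := 6)) = -1 by decide +kernel]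
  simp [sg, d6]

/-- The matrix of the form, in the special linear group. -/
def J6 : Matrix.SpecialLinearGroup (Fin 6) K := ⟨J6m, J6m_det⟩

/-- The twisting of the special linear group. -/
noncomputable def sigma6 (φ : K ≃+* K) : Matrix.SpecialLinearGroup (Fin 6) K →* Matrix.SpecialLinearGroup (Fin 6) K :=
  MonoidHom.mk' (fun g => J6 * (Matrix.SpecialLinearGroup.transpose (Matrix.SpecialLinearGroup.map (φ : K →+* K) g))⁻¹ * J6⁻¹)
    fun a b => by
      have ht : ∀ x y : Matrix.SpecialLinearGroup (Fin 6) K, Matrix.SpecialLinearGroup.transpose (x * y) =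
          Matrix.SpecialLinearGroup.transpose y * Matrix.SpecialLinearGroup.transpose x := fun x y =>
        Subtype.ext (Matrix.transpose_mul x.1 y.1)
      rw [map_mul, ht, _root_.mul_inv_rev]
      group

theorem sigma6_tv (φ : K ≃+* K) {i j : Fin 6} (hij : i ≠ j) (t : K) (h : j.rev ≠ i.rev) :
    sigma6 φ (Matrix.SpecialLinearGroup.transvection hij t) =
      Matrix.SpecialLinearGroup.transvection h (-(sg (d6 i == d6 j) * φ t)) := by
  have e : (Matrix.SpecialLinearGroup.transpose (Matrix.SpecialLinearGroup.map (φ : K →+* K)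
      (Matrix.SpecialLinearGroup.transvection hij t)))⁻¹ = Matrix.SpecialLinearGroup.transvection hij.symm (-φ t) := by
    refine inv_eq_of_mul_eq_one_right (Subtype.ext ?_)
    rw [Matrix.SpecialLinearGroup.coe_mul, Matrix.SpecialLinearGroup.transvection_coe]
    show (((1 + Matrix.single i j t : Matrix (Fin 6) (Fin 6) K).map φ)ᵀ) * (1 + Matrix.single j i (-φ t)) = 1
    rw [Matrix.map_add φ (map_add φ), Matrix.map_one φ (map_zero φ) (map_one φ), Matrix.transpose_add,
      Matrix.transpose_one, Matrix.map_single, Matrix.transpose_single]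
    simp [add_mul, mul_add, Matrix.single_mul_single_of_ne, hij]
    rw [add_assoc, ← Matrix.single_add, add_neg_cancel, Matrix.single_zero, add_zero]
  show J6 * _ * J6⁻¹ = _
  rw [e, mul_inv_eq_iff_eq_mul]
  refine Subtype.ext ?_
  rw [Matrix.SpecialLinearGroup.coe_mul, Matrix.SpecialLinearGroup.coe_mul,
    Matrix.SpecialLinearGroup.transvection_coe, Matrix.SpecialLinearGroup.transvection_coe]
  show J6m * (1 + Matrix.single j i (-φ t)) = (1 + Matrix.single j.rev i.rev _) * J6m
  rw [mul_add, add_mul, mul_one, one_mul, sg_beq]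
  congr 1
  ext a b
  rw [Matrix.mul_apply, Matrix.mul_apply, Finset.sum_eq_single j, Finset.sum_eq_single i.rev]
  · by_cases ha : a = j.rev <;> by_cases hb : b = i
    · subst ha hb
      simp [J6m]
      cases d6 b <;> cases d6 j <;> simp [sg]
    · subst ha; simp [J6m, hb, Ne.symm hb]
    · subst hb; simp [J6m, ha, Ne.symm ha]
    · simp [J6m, ha, hb, Ne.symm ha, Ne.symm hb]
  · intro c _ hc; simp [Matrix.single_apply, Ne.symm hc]
  · simp
  · intro c _ hc; simp [Matrix.single_apply, Ne.symm hc]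
  · simp

namespace Tws

variable [Finite K] (T : Tws K)

/-- The map into the group. -/
theorem exists_levi2 : ∃ φ6 : Matrix.SpecialLinearGroup (Fin 6) K →* GL chevE6.Idx K,
    (∀ g, φ6 g ∈ chevE6.group K) ∧ (∀ g, φ6 (sigma6 T.φ g) = T.Θ (φ6 g)) ∧
    (∀ g v, v ∈ radM K → φ6 g * v * (φ6 g)⁻¹ ∈ radM K) ∧
    ∀ a x, (p30 a = a → T.φ x = x) → ∃ g, sigma6 T.φ g = g ∧ φ6 g = T.lev a x := by
  obtain ⟨e, he⟩ := Schur.SteinbergSLn.exists_presentation (F := K) 6 (by norm_num)
  set f := (PresentedGroup.toGroup (Schur.SteinbergSLn.rels_eval (X6_rel K))).comp e.symm.toMonoidHom with hf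
  have htr : ∀ (i j : Fin 6) (hij : i ≠ j) (c : K),
      (chevE6.group K).subtype.comp f (Matrix.SpecialLinearGroup.transvection hij c) =
        cE.X K (rt30 (r6 i j)) (sg (s6 i j) * c) := fun i j hij c => by
    show ((PresentedGroup.toGroup (Schur.SteinbergSLn.rels_eval (X6_rel K))) (e.symm _) : GL chevE6.Idx K) = _
    rw [← he ⟨(i, j), hij⟩ c, MulEquiv.symm_apply_apply, PresentedGroup.toGroup.of]
    rfl
  set φ6 := (chevE6.group K).subtype.comp f
  have hσ : ∀ g, φ6 (sigma6 T.φ g) = T.Θ (φ6 g) := by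
    intro g
    have := Linear.sl_eq_top_of_transvection_mem
      (MonoidHom.eqLocus (φ6.comp (sigma6 T.φ)) (T.Θ.toMonoidHom.comp φ6)) fun i j hij c => by
        obtain ⟨h1, h2, h3, -⟩ := r6_sym i j hij
        show φ6 (sigma6 T.φ _) = T.Θ (φ6 _)
        rw [sigma6_tv T.φ hij c h3, htr, htr, T.Θ_rt, h1, map_mul, φ_sg]
        congr 1
        have e' := congrArg (sg : Bool → K) h2
        rw [sg_beq, sg_beq] at e'
        have hn : (sg (!(d6 i == d6 j)) : K) = -sg (d6 i == d6 j) := by cases (d6 i == d6 j) <;> simp [sg]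
        rw [hn] at e'
        linear_combination (-(sg (s6 j.rev i.rev) * T.φ c)) * e' +
          (sg (e30 (r6 i j)) * sg (s6 i j) * T.φ c) * sg_mul_self (F := K) (s6 j.rev i.rev)
    exact this.ge (Subgroup.mem_top g)
  refine ⟨φ6, fun g => (f g).2, hσ, fun g => ?_, fun a x hx => ?_⟩
  · have := Linear.sl_eq_top_of_transvection_mem
      ((Subgroup.normalizer (rad K : Set ↥(chevE6.group K))).comap f) fun i j hij c => by
        rw [Subgroup.mem_comap,
          show f (Matrix.SpecialLinearGroup.transvection hij c) = xg K (rt30 (r6 i j)) (sg (s6 i j) * c) from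
            Subtype.ext (htr i j hij c)]
        exact rt30_normalizer K _ _
    intro v hv
    have h := (Subgroup.mem_normalizer_iff.1 (this.ge (Subgroup.mem_top g)) ⟨v, radM_le K hv⟩).1 hv
    exact (mem_rad K).1 h
  · obtain ⟨i, j, hij, rfl⟩ := r6_surj a
    obtain ⟨h1, h2, h3, h4⟩ := r6_sym i j hij
    have hval : φ6 (Matrix.SpecialLinearGroup.transvection hij (sg (s6 i j) * x)) = cE.X K (rt30 (r6 i j)) x := by
      rw [htr, ← mul_assoc, sg_mul_self, one_mul]
    by_cases hfx : p30 (r6 i j) = r6 i j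
    · have hji := h4 hfx
      subst hji
      refine ⟨_, ?_, by rw [hval, lev, if_pos hfx]⟩
      rw [sigma6_tv T.φ hij _ (by simpa using h3)]
      congr 1
      · exact (Fin.rev_rev j).symm ▸ rfl
      rw [d6_rev, map_mul, φ_sg, hx hfx]
      cases d6 j <;> cases s6 j.rev j <;> simp [sg]
    · set g := Matrix.SpecialLinearGroup.transvection hij (sg (s6 i j) * x) with hg
      have hne1 : i ≠ i.rev := fun e => by
        have : ∀ i : Fin 6, i ≠ i.rev := by decide
        exact this i e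
      have hne2 : j ≠ j.rev := fun e => by
        have : ∀ j : Fin 6, j ≠ j.rev := by decide
        exact this j e
      refine ⟨g * sigma6 T.φ g, ?_, ?_⟩
      · rw [hg, map_mul, sigma6_tv T.φ hij _ h3, sigma6_tv T.φ h3 _ (by simpa using hij)]
        have hR := (Schur.SteinbergSLn.trv_rel (F := K) 6).comm j.rev i.rev i j h3 hij (Ne.symm hne2) hne1.symm
        simp only [Schur.SteinbergSLn.trv, dif_pos hij, dif_pos h3] at hR
        have key : ∀ (a b : Fin 6) (hab : a ≠ b) (c : K), a = i → b = j → c = sg (s6 i j) * x →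
            Matrix.SpecialLinearGroup.transvection hab c = Matrix.SpecialLinearGroup.transvection hij (sg (s6 i j) * x) := by
          rintro a b hab c rfl rfl rfl; rfl
        rw [key _ _ _ _ (Fin.rev_rev i) (Fin.rev_rev j) ?_, hR]
        rw [map_neg, map_mul, φ_sg, map_mul, φ_sg, map_mul, φ_sg, T.h2, d6_rev, d6_rev]
        cases d6 i <;> cases d6 j <;> simp [sg]
      · rw [map_mul, hσ, hval, T.Θ_rt, lev, if_neg hfx]

/-- The hom from `SU₆`. -/
theorem exists_unitary [Fintype K] {q : ℕ} (hq : 1 < q) (hK : Fintype.card K = q ^ 2) (hφ : ∀ x, T.φ x = x ^ q) :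
    ∃ ψ : Cfsg.SU 6 K q →* ↥T.G1,
      (∀ g v, v ∈ radM K → (ψ g : GL chevE6.Idx K) * v * (ψ g : GL chevE6.Idx K)⁻¹ ∈ radM K) ∧
      ∀ a x, (p30 a = a → T.φ x = x) → ∃ g, (ψ g : GL chevE6.Idx K) = T.lev a x := by
  obtain ⟨φ6, hmem, hσ, hnorm, himg⟩ := T.exists_levi2
  have hω0 : T.ω ≠ 0 := fun h => T.hω (by rw [h, map_zero])
  set ζ := T.φ T.ω / T.ω with hζdef
  have hζ : ζ * T.φ ζ = 1 := by
    rw [hζdef, map_div₀, T.h2]
    field_simp [hω0, show T.φ T.ω ≠ 0 from fun h => hω0 (T.φ.injective (h.trans (map_zero T.φ).symm))]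
  have hζ1 : ζ ≠ 1 := fun h => T.hω (by rwa [hζdef, div_eq_one_iff_eq hω0] at h)
  obtain ⟨α, hα'⟩ := Unitary.norm_surj hK (y := -1) (by rw [Unitary.neg_pow_q hK, one_pow])
  have hα : α * T.φ α = -1 := by rw [hφ]; exact hα'
  set β := α * ζ with hβdef
  have hβ : β * T.φ β = -1 := by
    rw [hβdef, map_mul]; linear_combination (α * T.φ α) * hζ + hα
  have hden : 1 + α * T.φ β ≠ 0 := by
    rw [hβdef, map_mul]
    intro h
    apply hζ1
    have h1 : T.φ ζ = 1 := by linear_combination T.φ ζ * hα - h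
    rw [← T.h2 ζ, h1, map_one]
  set τ := T.ω - T.φ T.ω with hτdef
  have hτ : T.φ τ = -τ := by rw [hτdef, map_sub, T.h2]; ring
  have hτ0 : τ ≠ 0 := sub_ne_zero.2 (Ne.symm T.hω)
  set μ := T.φ (τ / (1 + α * T.φ β)) with hμdef
  have hμ : T.φ μ * (1 + α * T.φ β) = τ := by rw [hμdef, T.h2, div_mul_cancel₀ _ hden]
  have hμ' : μ * (1 + β * T.φ α) = -τ := by
    have := congrArg T.φ hμ
    rw [map_mul, T.h2, map_add, map_one, map_mul, T.h2, hτ] at this
    linear_combination this
  -- the change of basis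
  let P : Matrix (Fin 6) (Fin 6) K :=
    !![1, 0, 0, 0, 0, α;
       0, 1, 0, 0, α, 0;
       0, 0, 1, α, 0, 0;
       0, 0, μ * -1, μ * -1 * β, 0, 0;
       0, μ, 0, 0, μ * β, 0;
       μ * -1, 0, 0, 0, 0, μ * -1 * β]
  have hP : P * (P.map T.φ)ᵀ = τ • J6m := by
    ext a b
    fin_cases a <;> fin_cases b <;>
      simp [P, Matrix.mul_apply, Fin.sum_univ_six, J6m, sg, d6, Fin.rev] <;>
      first
        | linear_combination hα
        | linear_combination hμ
        | linear_combination -hμ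
        | linear_combination hμ'
        | linear_combination -hμ'
        | linear_combination (μ * T.φ μ) * hβ
  have hdet : P.det ≠ 0 := by
    intro h
    have := congrArg Matrix.det hP
    rw [Matrix.det_mul, h, zero_mul, Matrix.det_smul, J6m_det, mul_one] at this
    exact pow_ne_zero _ hτ0 this.symm
  set Pu : (Matrix (Fin 6) (Fin 6) K)ˣ := Matrix.GeneralLinearGroup.mkOfDetNeZero P hdet
  have hPu : (Pu : Matrix (Fin 6) (Fin 6) K) = P := rfl
  let Q : Matrix (Fin 6) (Fin 6) K := ((Pu⁻¹ : (Matrix (Fin 6) (Fin 6) K)ˣ) : Matrix (Fin 6) (Fin 6) K)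
  let cj : Matrix.SpecialLinearGroup (Fin 6) K →* Matrix.SpecialLinearGroup (Fin 6) K :=
    MonoidHom.mk' (fun A => ⟨(Pu : Matrix (Fin 6) (Fin 6) K) * A.1 * Q,
      (Matrix.det_units_conj Pu A.1).trans A.2⟩) fun A B => Subtype.ext (by
        show _ * (A.1 * B.1) * _ = (_ * A.1 * _) * (_ * B.1 * _)
        simp only [mul_assoc, Q, Units.inv_mul_cancel_left])
  -- being fixed is preserving the form
  have hfix : ∀ g : Matrix.SpecialLinearGroup (Fin 6) K,
      sigma6 T.φ g = g ↔ g.1 * J6m * (g.1.map T.φ)ᵀ = J6m := by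
    intro g
    have e : sigma6 T.φ g = g ↔
        g * J6 * Matrix.SpecialLinearGroup.transpose (Matrix.SpecialLinearGroup.map (T.φ : K →+* K) g) = J6 := by
      show J6 * _ * J6⁻¹ = g ↔ _
      rw [mul_inv_eq_iff_eq_mul, mul_inv_eq_iff_eq_mul, eq_comm]
    exact e.trans Subtype.ext_iff
  have hSU : ∀ A : Matrix.SpecialLinearGroup (Fin 6) K, A ∈ Cfsg.SU 6 K q ↔ A.1 * (A.1.map T.φ)ᵀ = 1 := by
    intro A
    have hh : ∀ u v : Fin 6 → K, hermForm 6 K q u v = u ⬝ᵥ fun i => T.φ (v i) := fun u v => by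
      simp [hermForm, dotProduct, hφ]
    have hm : ∀ v : Fin 6 → K, (fun i => T.φ ((A.1 *ᵥ v) i)) = A.1.map T.φ *ᵥ fun i => T.φ (v i) :=
      fun v => funext fun i => by simp [Matrix.mulVec, dotProduct, map_sum]
    have hp : ∀ u v : Fin 6 → K, hermForm 6 K q (A.1 *ᵥ u) (A.1 *ᵥ v) =
        u ⬝ᵥ ((A.1ᵀ * A.1.map T.φ) *ᵥ fun i => T.φ (v i)) := fun u v => by
      rw [hh, hm, ← Matrix.mulVec_mulVec, Matrix.dotProduct_mulVec u, Matrix.vecMul_transpose]
    have hflip : A.1 * (A.1.map T.φ)ᵀ = 1 ↔ A.1ᵀ * A.1.map T.φ = 1 := by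
      constructor <;> intro h
      · have := congrArg Matrix.transpose (mul_eq_one_comm.1 h)
        rwa [Matrix.transpose_mul, Matrix.transpose_transpose, Matrix.transpose_one] at this
      · have := congrArg Matrix.transpose h
        rw [Matrix.transpose_mul, Matrix.transpose_transpose, Matrix.transpose_one] at this
        exact mul_eq_one_comm.1 this
    rw [Unitary.mem_SU_iff, hflip]
    constructor
    · intro h
      ext i j
      have h' := h (Pi.single i 1) (Pi.single j 1)
      rw [hp, hh] at h'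
      simp only [single_dotProduct, one_mul] at h'
      have e : (fun l => T.φ ((Pi.single j (1 : K) : Fin 6 → K) l)) = Pi.single j 1 := by
        funext l; by_cases hl : l = j <;> simp [hl]
      rw [e, Matrix.mulVec_single_one] at h'
      rw [Matrix.col_apply] at h'
      rw [h', Matrix.one_apply, Pi.single_apply]
      split_ifs <;> simp
    · intro h u v
      rw [hp, h, Matrix.one_mulVec, hh]
  have hPinv : Q * P = 1 := Pu.inv_mul
  have hPinv' : P * Q = 1 := Pu.mul_inv
  have hiff : ∀ A : Matrix.SpecialLinearGroup (Fin 6) K, sigma6 T.φ (cj A) = cj A ↔ A ∈ Cfsg.SU 6 K q := by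
    intro A
    rw [hfix, hSU]
    show P * A.1 * Q * J6m * ((P * A.1 * Q).map T.φ)ᵀ = J6m ↔ _
    have hQP : (Q.map T.φ) * (P.map T.φ) = 1 := by
      rw [← Matrix.map_mul, hPinv, Matrix.map_one T.φ (map_zero _) (map_one _)]
    have key : τ • (P * A.1 * Q * J6m * ((P * A.1 * Q).map T.φ)ᵀ) = P * (A.1 * (A.1.map T.φ)ᵀ) * (P.map T.φ)ᵀ := by
      rw [Matrix.map_mul, Matrix.map_mul, Matrix.transpose_mul, Matrix.transpose_mul,
        ← Matrix.smul_mul, ← Matrix.mul_smul, ← hP]
      have hQPt : (P.map T.φ)ᵀ * (Q.map T.φ)ᵀ = 1 := by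
        rw [← Matrix.transpose_mul, hQP, Matrix.transpose_one]
      calc P * A.1 * Q * (P * (P.map T.φ)ᵀ) * ((Q.map T.φ)ᵀ * ((A.1.map T.φ)ᵀ * (P.map T.φ)ᵀ))
          = P * A.1 * (Q * P) * ((P.map T.φ)ᵀ * (Q.map T.φ)ᵀ) * (A.1.map T.φ)ᵀ * (P.map T.φ)ᵀ := by
            simp only [mul_assoc]
        _ = _ := by rw [hPinv, hQPt]; simp only [mul_one, mul_assoc]
    constructor
    · intro h
      rw [h, ← hP] at key
      have h1 := congrArg (fun M => Q * M * (Q.map T.φ)ᵀ) key
      have hPQt : (P.map T.φ)ᵀ * (Q.map T.φ)ᵀ = 1 := by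
        rw [← Matrix.transpose_mul, hQP, Matrix.transpose_one]
      simp only [← mul_assoc, hPinv, one_mul] at h1
      simpa only [mul_assoc, hPQt, mul_one] using h1.symm
    · intro h
      rw [h, mul_one, hP] at key
      exact (smul_right_injective _ hτ0) key
  refine ⟨MonoidHom.mk' (fun A => ⟨φ6 (cj A.1), (T.mem_G1 _).2 ⟨hmem _, by rw [← hσ, (hiff A.1).2 A.2]⟩⟩)
    (fun A B => Subtype.ext (by simp only [Subgroup.coe_mul, map_mul])), fun A v hv => hnorm _ v hv, fun a x hx => ?_⟩
  obtain ⟨g, hg, hgv⟩ := himg a x hx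
  set A : Matrix.SpecialLinearGroup (Fin 6) K :=
    ⟨Q * g.1 * Pu, (Matrix.det_units_conj' Pu g.1).trans g.2⟩ with hA
  have hcj : cj A = g := Subtype.ext (by
    show P * (Q * g.1 * P) * Q = g.1
    rw [mul_assoc, mul_assoc, hPinv', mul_one, ← mul_assoc, hPinv', one_mul])
  refine ⟨⟨A, (hiff A).1 (by rw [hcj, hg])⟩, ?_⟩
  show φ6 (cj A) = _
  rw [hcj, hgv]

end Tws

/-- A representation of `SU₆` of small degree is trivial. -/
theorem su6_trivial_of_small [Fintype K] {q : ℕ} (hK : Fintype.card K = q ^ 2) {M : Type*} [AddCommGroup M]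
    [Module ℂ M] [FiniteDimensional ℂ M] (σ : Representation ℂ (Cfsg.SU 6 K q) M)
    (hsmall : finrank ℂ M < (q ^ 6 - 1) / (q + 1)) : ∀ g, σ g = 1 := by
  classical
  intro g
  have hle : Subgroup.closure {A : Cfsg.SU 6 K q | Unitary.IsTv (Unitary.suToGU 6 K q A)} ≤
      MonoidHom.ker (σ : Cfsg.SU 6 K q →* Module.End ℂ M) := by
    refine (Subgroup.closure_le _).2 fun A hA => ?_
    obtain ⟨v, c, hv, hc, hT⟩ := hA
    show σ A = 1
    rcases eq_or_ne v 0 with rfl | hv0
    · have : A = 1 := UniDeg48.su_ext fun x => by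
        rw [UniDeg48.act, hT x, smul_zero, add_zero, UniDeg48.act, map_one, Unitary.GU_one_mulVec]
      rw [this, map_one]
    · rw [show A = UniDeg48.tvHom hK v hv (Multiplicative.ofAdd ⟨c, UniDeg48.mem_T0.2 hc⟩) from
        UniDeg48.su_ext fun x => by rw [UniDeg48.act, hT x, UniDeg48.tvHom_act]]
      by_contra hne
      have hb := UniDeg48.deg_bound hK 6 (by norm_num) M σ (UniDeg48.scal_of_three hK (by norm_num) σ)
        ⟨v, hv, _, hv0, hne⟩
      rw [UniDeg48.bnd, if_pos (by decide)] at hb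
      omega
  exact hle (by rw [Unitary.suTransvections_closure hK (by norm_num) (by norm_num)]; trivial)

end Cfsg.Agent.Lib.E6Deg29.Tw
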