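import Cfsg.Agent.Lib.E6Deg29.Arith
import Cfsg.Agent.Lib.E6Deg29.Braid
import Cfsg.Agent.Lib.E6Deg29.Levi
import Cfsg.Agent.Lib.Characters.Degree
import Cfsg.Agent.Lib.ChevStructure.Order.CertE6

/-!
The minimal degree of E₆(q): every non-trivial irreducible representation has degree at least
`q(q⁶+q³+1)(q⁴+1)`.
-/

set_option autoImplicit false
set_option linter.unusedSectionVars false
set_option maxRecDepth 100000

namespace Cfsg.Agent.Lib.E6Deg29

open Cfsg.Lie Cfsg.Agent.Lib.ChevStructure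
open Module

/-- The size of the small orbit as a polynomial. -/
theorem orbSize_eq (q : ℕ) : orbSize q = (q - 1) *
    (1 + q + 2 * q ^ 2 + 3 * q ^ 3 + 3 * q ^ 4 + 3 * q ^ 5 + 3 * q ^ 6 + 2 * q ^ 7 + q ^ 8 + q ^ 9) := by
  simp only [orbSize, ← Finset.mul_sum]
  refine congrArg ((q - 1) * ·) ?_
  rw [Fin.sum_univ_def, show (fun w => q ^ lw w) = (fun n => q ^ n) ∘ lw from rfl, ← List.map_map,
    show (List.finRange 20).map lw = [0, 1, 2, 3, 2, 3, 4, 4, 5, 6, 3, 4, 5, 5, 6, 7, 6, 7, 8, 9] by decide +kernel]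
  simp only [List.map_cons, List.map_nil, List.sum_cons, List.sum_nil]
  ring

theorem orbit_total {q : ℕ} (hq : 2 ≤ q) :
    orbSize q + (q - 1) * q ^ 10 + (q ^ 5 + q ^ 4 + q ^ 3 + q ^ 2 + q + 1) = q * (q ^ 6 + q ^ 3 + 1) * (q ^ 4 + 1) := by
  obtain ⟨r, rfl⟩ : ∃ r, q = r + 1 := ⟨q - 1, by omega⟩
  rw [orbSize_eq, Nat.add_sub_cancel]
  ring

theorem orbit_big {q : ℕ} (hq : 2 ≤ q) :
    q * (q ^ 6 + q ^ 3 + 1) * (q ^ 4 + 1) ≤ (q - 1) * q ^ 9 * 3 + (q - 1) * q ^ 10 := by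
  obtain ⟨r, rfl⟩ : ∃ r, q = r + 2 := ⟨q - 2, by omega⟩
  rw [show r + 2 - 1 = r + 1 by omega]
  have h : ∀ n, 2 * (r + 2) ^ n ≤ (r + 2) ^ (n + 1) := fun n => by
    rw [pow_succ', add_mul]; omega
  have e : ((r + 1) * (r + 2) ^ 9 * 3 + (r + 1) * (r + 2) ^ 10) =
      (r + 2) ^ 11 + (2 * r + 1) * (r + 2) ^ 9 := by ring
  have e' : (r + 2) * ((r + 2) ^ 6 + (r + 2) ^ 3 + 1) * ((r + 2) ^ 4 + 1) =
      (r + 2) ^ 11 + ((r + 2) ^ 8 + (r + 2) ^ 7 + (r + 2) ^ 5 + (r + 2) ^ 4 + (r + 2)) := by ring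
  rw [e, e']
  have h1 : (r + 2) ^ 9 ≤ (2 * r + 1) * (r + 2) ^ 9 := Nat.le_mul_of_pos_left _ (by omega)
  have : 2 * (r + 2) ^ 2 ≤ (r + 2) ^ 3 := h 2
  have : 2 * (r + 2) ^ 3 ≤ (r + 2) ^ 4 := h 3
  have : 2 * (r + 2) ^ 4 ≤ (r + 2) ^ 5 := h 4
  have : 2 * (r + 2) ^ 5 ≤ (r + 2) ^ 6 := h 5
  have : 2 * (r + 2) ^ 6 ≤ (r + 2) ^ 7 := h 6
  have : 2 * (r + 2) ^ 7 ≤ (r + 2) ^ 8 := h 7
  have : 2 * (r + 2) ^ 8 ≤ (r + 2) ^ 9 := h 8
  have h0 : 2 * (r + 2) ^ 1 ≤ (r + 2) ^ 2 := h 1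
  simp only [pow_one] at h0
  omega

theorem pow_five_sum (q : ℕ) : ∑ i ∈ Finset.range 5, q ^ (i + 1) = q + q ^ 2 + q ^ 3 + q ^ 4 + q ^ 5 := by
  simp only [Finset.sum_range_succ, Finset.sum_range_zero]
  ring

theorem card_dvd_ordU {F : Type*} [Field F] [Fintype F] :
    Nat.card ↥(chevE6.group F) ∣ ordU (Fintype.card F) := by
  have h := Order.CertE6.card_group (K := F) rfl
  refine (Dvd.intro_left _ h).trans (dvd_of_eq ?_)
  show _ = ordU _
  simp only [ordU, List.map_cons, List.map_nil, List.prod_cons, List.prod_nil, mul_one]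
  rw [show chevE6.nroots / 2 = 36 by decide +kernel]
  ring

theorem grade_neg : ∀ r : Rt chevE6,
    (pr chevE6 top r ≤ -1 → r.val < 36) ∧ (r.val < 36 → pr chevE6 top r ≤ -1 ∨ pr chevE6 top r = 0) := by
  decide +kernel

variable {F : Type*} [Field F] [Fintype F]

theorem fixed_dim {k : ℕ} (ρ : Representation ℂ ↥(chevE6.group F) (Fin k → ℂ)) (hρ : ρ.IsIrreducible) (hk : 2 ≤ k)
    (ψ : AddChar F ℂ)
    (hsmall : (heis F).m ψ ρ 0 < ∑ i ∈ Finset.range 5, Fintype.card F ^ (i + 1)) :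
    (heis F).m ψ ρ 0 = 0 := by
  classical
  set V0 := (heis F).esp ψ ρ 0 with hV0
  have mem0 : ∀ v, v ∈ V0 ↔ ∀ h ∈ rad F, ρ h v = v := fun v => by
    rw [hV0, Heis.mem_esp]
    simp only [dot, Pi.zero_apply, zero_mul, Finset.sum_const_zero, AddChar.map_zero_eq_one, one_smul]
    exact ⟨fun h g hg => h ⟨g, hg⟩, fun h g => h g g.2⟩
  obtain ⟨φ, hφn, hφ⟩ := exists_levi F
  have hinv : ∀ (g : SLDeg48.SL' 6 F), ∀ v ∈ V0, ρ (φ g) v ∈ V0 := by
    intro g v hv
    rw [mem0] at hv ⊢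
    intro h hh
    have hc : (φ g)⁻¹ * h * φ g ∈ rad F := by
      have := (Subgroup.mem_normalizer_iff.1 (inv_mem (hφn g)) h).1 hh
      rwa [inv_inv] at this
    conv_rhs => rw [← hv _ hc]
    rw [← Module.End.mul_apply, ← map_mul, ← Module.End.mul_apply, ← map_mul]
    group
  let σ : Representation ℂ (SLDeg48.SL' 6 F) V0 :=
    (⟨V0, fun g v hv => hinv g v hv⟩ : Subrepresentation (ρ.comp φ)).toRepresentation
  have htriv := trivial_of_small σ hsmall
  have hLV : ∀ v ∈ V0, ∀ a t, ρ (xg F (rt30 a) t) v = v := fun v hv a t => by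
    obtain ⟨g, hg⟩ := hφ a t
    rw [← hg]
    exact congrArg Subtype.val (htriv g ⟨v, hv⟩)
  have hUV : ∀ v, UFix ρ v → v ∈ V0 := fun v hv => by
    rw [mem0]
    intro h hh
    have key : ∀ w ∈ radM F, ∀ hw : w ∈ chevE6.group F, ρ ⟨w, hw⟩ v = v := by
      intro w hw
      refine rad_induction (fun w => ∀ hw : w ∈ chevE6.group F, ρ ⟨w, hw⟩ v = v) (fun t _ => ?_) (fun i t _ => ?_)
        ?_ ?_ ?_ hw
      · exact hv low (by decide) t
      · exact hv _ ((grade_neg _).1 (wt20_le i)) t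
      · intro hw1
        rw [show (⟨1, hw1⟩ : ↥(chevE6.group F)) = 1 from rfl]; simp
      · intro x y hx hy ihx ihy hxy
        have hx' := radM_le F hx
        have hy' := radM_le F hy
        rw [show (⟨x * y, hxy⟩ : ↥(chevE6.group F)) = ⟨x, hx'⟩ * ⟨y, hy'⟩ from rfl, rho_mul, ihy hy', ihx hx']
      · intro x hx ih hxi
        have hx' := radM_le F hx
        rw [show (⟨x⁻¹, hxi⟩ : ↥(chevE6.group F)) = (⟨x, hx'⟩)⁻¹ from rfl]
        conv_lhs => rw [← ih hx', ← rho_mul, inv_mul_cancel]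
        simp
    exact key _ ((mem_rad F).1 hh) h.2
  by_contra hne
  obtain ⟨v, hv, hv0⟩ := V0.ne_bot_iff.1 (fun h => hne (show finrank ℂ V0 = 0 by rw [h, finrank_bot]))
  have hU : UFix ρ v := fun r hr t => by
    rcases (grade_neg r).2 hr with h | h
    · exact (mem0 v).1 hv _ ((mem_rad F).2 (X_rad h t))
    · obtain ⟨a, rfl⟩ := rt30_cases r h
      exact hLV v hv a t
  have hall := fixed_all ρ (fun w hw => hLV w (hUV w hw)) hU
  let S : Subrepresentation ρ :=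
    ⟨ℂ ∙ v, fun g w hw => by
      obtain ⟨c, rfl⟩ := Submodule.mem_span_singleton.1 hw
      rw [map_smul, hall]
      exact Submodule.smul_mem _ _ (Submodule.mem_span_singleton_self v)⟩
  rcases hρ.eq_bot_or_eq_top S with hS | hS
  · have h1 : v ∈ S.toSubmodule := Submodule.mem_span_singleton_self v
    rw [hS] at h1
    exact hv0 ((Submodule.mem_bot ℂ).1 h1)
  · have h2 : (ℂ ∙ v) = (⊤ : Submodule ℂ (Fin k → ℂ)) := congrArg Subrepresentation.toSubmodule hS
    have h3 := finrank_span_singleton (K := ℂ) hv0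
    rw [h2, finrank_top, Module.finrank_fin_fun] at h3
    omega

/-- The bound. -/
theorem e6_bound {k : ℕ} (ρ : Representation ℂ ↥(chevE6.group F) (Fin k → ℂ)) (hρ : ρ.IsIrreducible) (hk : 2 ≤ k) :
    Fintype.card F * (Fintype.card F ^ 6 + Fintype.card F ^ 3 + 1) * (Fintype.card F ^ 4 + 1) ≤ k := by
  classical
  by_contra hlt
  push Not at hlt
  have hq : 2 ≤ Fintype.card F := Fintype.one_lt_card
  have := hρ
  have : Finite ↥(chevE6.group F) := inferInstance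
  have hsimple := (simple_big chevE6 (by simp) (K := F)).1
  obtain ⟨ψ, hψ⟩ : ∃ ψ : AddChar F ℂ, ψ ≠ 1 := by
    have hnt : Nontrivial (AddChar F ℂ) := by
      rw [← Fintype.one_lt_card_iff_nontrivial, AddChar.card_eq]
      exact Fintype.one_lt_card
    exact exists_ne 1
  have hf : ρ (((heis F).ζ (Multiplicative.ofAdd 1) : ↥(heis F).Q) : ↥(chevE6.group F)) ≠ 1 := by
    intro h
    rcases Subgroup.Normal.eq_bot_or_eq_top (MonoidHom.normal_ker ρ) with hb | ht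
    · have h1 : (((heis F).ζ (Multiplicative.ofAdd 1) : ↥(heis F).Q) : ↥(chevE6.group F)) = 1 :=
        Subgroup.mem_bot.1 (hb ▸ MonoidHom.mem_ker.2 h)
      exact one_ne_zero (cE.X_eq_one (congrArg Subtype.val h1 : cE.X F low (1 : F) = 1))
    · have h1 := MinDegree.finrank_le_one_of_trivial hρ
        (fun g => MonoidHom.mem_ker.1 (show g ∈ MonoidHom.ker ρ by rw [ht]; trivial))
      rw [Module.finrank_fin_fun] at h1
      omega
  set H := heis F
  have hact : ∀ a x y, H.m ψ ρ (act a x y) = H.m ψ ρ y := fun a x y =>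
    H.m_moves ψ ρ (moves_act F a x) y
  have hsc : ∀ s : F, s ≠ 0 → ∀ y, H.m ψ ρ (s • y) = H.m ψ ρ y := fun s hs y =>
    H.m_moves ψ ρ (moves_smul F (Units.mk0 s hs)) y
  have hM := H.M_pos ψ ρ hψ hf
  have hdim := H.finrank_eq ψ ρ hψ
  rw [Module.finrank_fin_fun] at hdim
  rcases dichotomy (H.m ψ ρ) hact hsc hψ hM (H.sum_m_sub ψ ρ hψ) with hbig | ⟨m1, hm1, hsum, hMeq⟩
  · have hsq := H.pow_le_sq ψ ρ hψ hf
    rw [show Fintype.card F ^ 20 = Fintype.card F ^ 10 * Fintype.card F ^ 10 by ring] at hsq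
    have hM10 := Nat.mul_self_le_mul_self_iff.1 hsq
    have := Nat.mul_le_mul_left (Fintype.card F - 1) hM10
    have := orbit_big hq
    omega
  rw [hsum, hMeq] at hdim
  have htot := orbit_total hq
  have hk' : k = H.m ψ ρ 0 + m1 * (orbSize (Fintype.card F) + (Fintype.card F - 1) * Fintype.card F ^ 10) :=
    hdim.trans (by ring)
  have hS := pow_five_sum (Fintype.card F)
  have hm1' : m1 = 1 := by
    by_contra h
    have h2 : 2 * (orbSize (Fintype.card F) + (Fintype.card F - 1) * Fintype.card F ^ 10) ≤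
        m1 * (orbSize (Fintype.card F) + (Fintype.card F - 1) * Fintype.card F ^ 10) :=
      Nat.mul_le_mul_right _ (by omega)
    have h6 : Fintype.card F ^ 5 + Fintype.card F ^ 4 + Fintype.card F ^ 3 + Fintype.card F ^ 2 + Fintype.card F + 1 ≤
        (Fintype.card F - 1) * Fintype.card F ^ 10 := by
      obtain ⟨r, hr⟩ : ∃ r, Fintype.card F = r + 2 := ⟨Fintype.card F - 2, by omega⟩
      rw [hr, show r + 2 - 1 = r + 1 by omega]
      have h1 : ∀ n, n ≤ 6 → (r + 2) ^ n ≤ (r + 2) ^ 6 := fun n hn => Nat.pow_le_pow_right (by omega) hn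
      have := h1 5 (by norm_num)
      have := h1 4 (by norm_num)
      have := h1 3 (by norm_num)
      have := h1 2 (by norm_num)
      have h11 := h1 1 (by norm_num)
      rw [pow_one] at h11
      have h10 : 16 * (r + 2) ^ 6 ≤ (r + 2) ^ 10 := by
        rw [show (r + 2) ^ 10 = (r + 2) ^ 4 * (r + 2) ^ 6 by ring]
        exact Nat.mul_le_mul_right _ (Nat.pow_le_pow_left (show 2 ≤ r + 2 by omega) 4)
      have : (r + 2) ^ 10 ≤ (r + 1) * (r + 2) ^ 10 := Nat.le_mul_of_pos_left _ (by omega)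
      omega
    omega
  rw [hm1', one_mul] at hk'
  have hdvd : k ∣ ordU (Fintype.card F) := by
    refine dvd_trans ?_ card_dvd_ordU
    simpa [Module.finrank_fin_fun] using Characters.Degree.finrank_dvd_card ρ
  by_cases hsm : H.m ψ ρ 0 < ∑ i ∈ Finset.range 5, Fintype.card F ^ (i + 1)
  · have h0 := fixed_dim ρ hρ hk ψ hsm
    refine not_dvd_one hq ?_ hdvd
    rw [h0, zero_add] at hk'
    have e : (orbSize (Fintype.card F) + (Fintype.card F - 1) * Fintype.card F ^ 10 : ℕ) +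
        (Fintype.card F ^ 5 + Fintype.card F ^ 4 + Fintype.card F ^ 3 + Fintype.card F ^ 2 + Fintype.card F + 1) =
        Fintype.card F * (Fintype.card F ^ 6 + Fintype.card F ^ 3 + 1) * (Fintype.card F ^ 4 + 1) := htot
    rw [← hk'] at e
    have e' := congrArg (fun n : ℕ => (n : ℤ)) e
    push_cast at e'
    linear_combination e'
  · refine not_dvd_two hq ?_ hdvd
    have h1 : k + 1 = Fintype.card F * (Fintype.card F ^ 6 + Fintype.card F ^ 3 + 1) * (Fintype.card F ^ 4 + 1) := by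
      omega
    exact_mod_cast h1

end Cfsg.Agent.Lib.E6Deg29
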