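import Cfsg.Agent.Lib.E6Deg29.Arith2
import Cfsg.Agent.Lib.E6Deg29.Braid2
import Cfsg.Agent.Lib.E6Deg29.Comb2
import Cfsg.Agent.Lib.E6Deg29.Levi2
import Cfsg.Agent.Lib.Characters.Degree
import Cfsg.Agent.Lib.LieTwisted.Twist.E6Thms

/-!
The minimal degree of ²E₆(q): every non-trivial irreducible representation has degree at least
`q(q⁶−q³+1)(q⁴+1)`.
-/

set_option autoImplicit false
set_option linter.unusedSectionVars false
set_option maxRecDepth 100000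

namespace Cfsg.Agent.Lib.E6Deg29.Tw

open Cfsg.Lie Cfsg.Agent.Lib.ChevStructure
open Module
open Cfsg.Agent.Lib.LieTwisted
open scoped MatrixGroups

/-- The degree of the small orbit with its centre. -/
def T1 (q : ℕ) : ℕ := orbT q + (q - 1) * q ^ 10

theorem arith {q : ℕ} (hq : 2 ≤ q) :
    (T1 q : ℤ) = (q : ℤ) ^ 11 - (q : ℤ) ^ 8 + (q : ℤ) ^ 7 - (q : ℤ) ^ 3 + (q : ℤ) ^ 2 - 1 ∧
    T1 q + (q ^ 6 - 1) / (q + 1) + 2 = q * (q ^ 6 - q ^ 3 + 1) * (q ^ 4 + 1) ∧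
    (q ^ 6 - 1) / (q + 1) + 2 ≤ T1 q ∧
    ((q * (q ^ 6 - q ^ 3 + 1) * (q ^ 4 + 1) : ℕ) : ℤ) =
      (q : ℤ) * ((q : ℤ) ^ 6 - (q : ℤ) ^ 3 + 1) * ((q : ℤ) ^ 4 + 1) ∧
    q * (q ^ 6 - q ^ 3 + 1) * (q ^ 4 + 1) ≤ (q - 1) * q ^ 9 * 2 + (q - 1) * q ^ 10 := by
  have h1 : 1 ≤ q := by omega
  have h36 : q ^ 3 ≤ q ^ 6 := Nat.pow_le_pow_right h1 (by norm_num)
  have hW : (q ^ 6 - 1) / (q + 1) = (q - 1) * (q ^ 4 + q ^ 2 + 1) := by
    refine Nat.div_eq_of_eq_mul_left (by omega) ?_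
    have h6 : 1 ≤ q ^ 6 := Nat.one_le_pow _ _ (by omega)
    zify [h1, h6]; ring
  refine ⟨?_, ?_, ?_, ?_, ?_⟩
  · simp only [T1, orbT]; push_cast [Nat.cast_sub h1]; ring
  · rw [hW]; simp only [T1, orbT]; zify [h1, h36]; ring
  · rw [hW]
    simp only [T1]
    have h10 : q ^ 4 + q ^ 2 + 1 + 2 ≤ q ^ 10 := by
      have a : 4 * q ^ 2 ≤ q ^ 4 := by
        rw [show q ^ 4 = q ^ 2 * q ^ 2 by ring]
        exact Nat.mul_le_mul_right _ (Nat.pow_le_pow_left hq 2)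
      have b : 2 * q ^ 4 ≤ q ^ 10 := by
        rw [show q ^ 10 = q ^ 6 * q ^ 4 by ring]
        exact Nat.mul_le_mul_right _ ((Nat.le_self_pow (by norm_num) q).trans' hq)
      have c : 4 ≤ q ^ 2 := Nat.pow_le_pow_left hq 2
      omega
    have := Nat.mul_le_mul_left (q - 1) h10
    rw [Nat.mul_add _ (q ^ 4 + q ^ 2 + 1) 2] at this
    omega
  · zify [h36]
  · zify [h1, h36]
    obtain ⟨r, hr⟩ : ∃ r : ℕ, q = r + 2 := ⟨q - 2, by omega⟩
    subst hr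
    push_cast
    have hr0 : (0 : ℤ) ≤ (r : ℤ) := Int.natCast_nonneg r
    have hb : (2 : ℤ) ^ 3 ≤ ((r : ℤ) + 2) ^ 3 := pow_le_pow_left₀ (by norm_num) (by omega) 3
    have hp : (8 : ℤ) * 1 * 7 ≤ ((r : ℤ) + 2) ^ 3 * ((r : ℤ) + 1) * (((r : ℤ) + 2) ^ 3 - 1) :=
      mul_le_mul (mul_le_mul (by linarith) (by omega) (by norm_num) (by positivity)) (by linarith) (by norm_num)
        (by positivity)
    have h9 : (0 : ℤ) ≤ ((r : ℤ) + 2) ^ 9 * ((r : ℤ) * (r : ℤ) + 5 * r + 4) :=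
      mul_nonneg (by positivity) (by positivity)
    nlinarith [mul_le_mul_of_nonneg_left hp (show (0 : ℤ) ≤ (r : ℤ) + 2 by omega)]

variable {K : Type*} [Field K] [Fintype K]

theorem fixed_dim1 (T : Tws K) [Fintype (Fx T.φ)] {q : ℕ} (hq : 1 < q) (hK : Fintype.card K = q ^ 2)
    (hφ : ∀ x, T.φ x = x ^ q) (hgen : T.G1 ≤ Subgroup.closure T.gens1) {k : ℕ}
    (ρ : Representation ℂ ↥T.G1 (Fin k → ℂ)) (hρ : ρ.IsIrreducible) (hk : 2 ≤ k)
    (ψ : AddChar (Fx T.φ) ℂ) (hsmall : T.heis1.m ψ ρ 0 < (q ^ 6 - 1) / (q + 1)) :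
    T.heis1.m ψ ρ 0 = 0 := by
  classical
  set V0 := T.heis1.esp ψ ρ 0 with hV0
  have mem0 : ∀ v, v ∈ V0 ↔ T.QFix ρ v := fun v => by
    rw [hV0, Heis.mem_esp]
    simp only [dot, Pi.zero_apply, zero_mul, Finset.sum_const_zero, AddChar.map_zero_eq_one, one_smul]
    exact ⟨fun h g hg => h ⟨g, hg⟩, fun h g => h g g.2⟩
  obtain ⟨χ, hχn, hχ⟩ := T.exists_unitary hq hK hφ
  have hinv : ∀ (g : Cfsg.SU 6 K q), ∀ v ∈ V0, ρ (χ g) v ∈ V0 := by
    intro g v hv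
    rw [mem0] at hv ⊢
    intro h hh
    have hc : (χ g)⁻¹ * h * χ g ∈ T.Q1 := by
      have e := hχn g⁻¹ _ ((T.mem_Q1).1 hh)
      rw [map_inv] at e
      rw [Tws.mem_Q1]
      simpa using e
    conv_rhs => rw [← hv _ hc]
    rw [← Module.End.mul_apply, ← map_mul, ← Module.End.mul_apply, ← map_mul]
    group
  let σ : Representation ℂ (Cfsg.SU 6 K q) V0 :=
    (⟨V0, fun g v hv => hinv g v hv⟩ : Subrepresentation (ρ.comp χ)).toRepresentation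
  have htriv := su6_trivial_of_small hK σ hsmall
  have hLV : ∀ v, T.QFix ρ v → ∀ a x, (hx : p30 a = a → T.φ x = x) → ρ ⟨T.lev a x, T.lev_mem hx⟩ v = v := by
    intro v hv a x hx
    obtain ⟨g, hg⟩ := hχ a x hx
    rw [show (⟨T.lev a x, T.lev_mem hx⟩ : ↥T.G1) = χ g from Subtype.ext hg.symm]
    exact congrArg Subtype.val (LinearMap.congr_fun (htriv g) ⟨v, (mem0 v).2 hv⟩)
  by_contra hne
  obtain ⟨v, hv, hv0⟩ := V0.ne_bot_iff.1 (fun h => hne (show finrank ℂ V0 = 0 by rw [h, finrank_bot]))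
  have hall := T.fixed_all1 ρ hLV hgen ((mem0 v).1 hv)
  let S : Subrepresentation ρ :=
    ⟨ℂ ∙ v, fun g w hw => by
      obtain ⟨c, rfl⟩ := Submodule.mem_span_singleton.1 hw
      rw [map_smul, hall]
      exact Submodule.smul_mem _ _ (Submodule.mem_span_singleton_self v)⟩
  rcases hρ.eq_bot_or_eq_top S with hS | hS
  · have h1 : v ∈ S.toSubmodule := Submodule.mem_span_singleton_self v
    rw [hS] at h1
    exact hv0 ((Submodule.mem_bot ℂ).1 h1)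
  · have h2 : (ℂ ∙ v) = (⊤ : Submodule ℂ (Fin k → ℂ)) := congrArg Subrepresentation.toSubmodule hS
    have h3 := finrank_span_singleton (K := ℂ) hv0
    rw [h2, finrank_top, Module.finrank_fin_fun] at h3
    omega

/-- The bound for a twisting. -/
theorem bound_tws (T : Tws K) {q : ℕ} (hq : 1 < q) (hK : Fintype.card K = q ^ 2) (hφ : ∀ x, T.φ x = x ^ q)
    (hfx : Nat.card (Fx T.φ) = q) (hgen : T.G1 ≤ Subgroup.closure T.gens1) (hord : Nat.card ↥T.G1 ∣ ordT q)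
    (hsimple : IsSimpleGroup ↥T.G1) {k : ℕ} (ρ : Representation ℂ ↥T.G1 (Fin k → ℂ)) (hρ : ρ.IsIrreducible)
    (hk : 2 ≤ k) : q * (q ^ 6 - q ^ 3 + 1) * (q ^ 4 + 1) ≤ k := by
  classical
  by_contra hlt
  push Not at hlt
  have := hρ
  have := hsimple
  have : Fintype (Fx T.φ) := Fintype.ofFinite _
  rw [Nat.card_eq_fintype_card] at hfx
  obtain ⟨ψ, hψ⟩ : ∃ ψ : AddChar (Fx T.φ) ℂ, ψ ≠ 1 := by
    have hnt : Nontrivial (AddChar (Fx T.φ) ℂ) := by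
      rw [← Fintype.one_lt_card_iff_nontrivial, AddChar.card_eq]
      exact Fintype.one_lt_card
    exact exists_ne 1
  set H := T.heis1 with hH
  have hf : ρ ((H.ζ (Multiplicative.ofAdd 1) : ↥H.Q) : ↥T.G1) ≠ 1 := by
    intro h
    rcases Subgroup.Normal.eq_bot_or_eq_top (MonoidHom.normal_ker ρ) with hb | ht
    · have h1 : ((H.ζ (Multiplicative.ofAdd 1) : ↥H.Q) : ↥T.G1) = 1 := Subgroup.mem_bot.1 (hb ▸ MonoidHom.mem_ker.2 h)
      exact one_ne_zero (cE.X_eq_one (congrArg Subtype.val h1 : cE.X K low (1 : K) = 1))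
    · have h1 := MinDegree.finrank_le_one_of_trivial hρ
        (fun g => MonoidHom.mem_ker.1 (show g ∈ MonoidHom.ker ρ by rw [ht]; trivial))
      rw [Module.finrank_fin_fun] at h1
      omega
  have hM := H.M_pos ψ ρ hψ hf
  have hdim := H.finrank_eq ψ ρ hψ
  rw [Module.finrank_fin_fun, hfx] at hdim
  have hsum : ∑ Y : Fin 20 → K, T.mS ψ ρ Y = ∑ y, H.m ψ ρ y := by
    have h := T.sum_mS ψ ρ fun _ => 1
    simp only [mul_one] at h
    exact_mod_cast h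
  have hid : ∑ Y : Fin 20 → K, (T.mS ψ ρ Y : ℂ) * (1 - (fun z => ψ (prj T.φ z)) (Y 19)) = H.M ψ ρ := by
    rw [T.sum_mS ψ ρ fun Y => 1 - ψ (prj T.φ (Y 19)), ← H.sum_m_sub ψ ρ hψ]
    exact Finset.sum_congr rfl fun y _ => by rw [emb_fixed _ _ top_fix.1, prj_val]; rfl
  have hΨ : ∑ c : Fx T.φ, ψ (prj T.φ (c : K)) = 0 := by
    simp only [prj_val]; exact AddChar.sum_eq_zero_of_ne_one hψ
  have hΨ0 : ψ (prj T.φ 0) = 1 := by
    rw [show (0 : K) = ((0 : Fx T.φ) : K) from rfl, prj_val, AddChar.map_zero_eq_one]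
  obtain ⟨a1, a2, a3, a4, a5⟩ := arith (q := q) hq
  have hsq := H.pow_le_sq ψ ρ hψ hf
  rw [hfx, show q ^ 20 = q ^ 10 * q ^ 10 by ring] at hsq
  rcases dichotomyT T.h2 (T.mS ψ ρ) (fun Y => T.mS_sym ψ ρ) (fun a ha x hx Y => T.mS_fix ψ ρ ha hx Y)
      (fun a ha x Y => T.mS_pair ψ ρ ha x Y) (fun s hs hs0 Y => T.mS_scale ψ ρ hs hs0 Y) T.hω
      (Ψ := fun z => ψ (prj T.φ z)) hΨ0 hΨ hM hid with hbig | ⟨m1, hm1, hsum', hMeq⟩
  · rw [hsum, hfx] at hbig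
    have := Nat.mul_le_mul_left (q - 1) (Nat.mul_self_le_mul_self_iff.1 hsq)
    omega
  rw [hsum, T.mS_zero, hfx] at hsum'
  rw [hfx] at hMeq
  rw [hsum', hMeq] at hdim
  have hk' : k = H.m ψ ρ 0 + m1 * T1 q := hdim.trans (by rw [T1]; ring)
  have hm1' : m1 = 1 := by
    by_contra h
    have h2 : 2 * T1 q ≤ m1 * T1 q := Nat.mul_le_mul_right _ (by omega)
    omega
  rw [hm1', one_mul] at hk'
  have hdvd : k ∣ ordT q := by
    refine dvd_trans ?_ hord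
    simpa [Module.finrank_fin_fun] using Characters.Degree.finrank_dvd_card ρ
  rw [← a2] at hlt
  by_cases hsm : H.m ψ ρ 0 < (q ^ 6 - 1) / (q + 1)
  · have h0 := fixed_dim1 T hq hK hφ hgen ρ hρ hk ψ hsm
    rw [h0, zero_add] at hk'
    exact not_dvd_Q0 hq (by rw [hk', a1]) hdvd
  · rcases (show k + 2 = q * (q ^ 6 - q ^ 3 + 1) * (q ^ 4 + 1) ∨ k + 1 = q * (q ^ 6 - q ^ 3 + 1) * (q ^ 4 + 1) by
      omega) with h | h
    · refine not_dvd_Q2 hq ?_ hdvd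
      rw [← a4, ← h]; push_cast; ring
    · refine not_dvd_Q1 hq ?_ hdvd
      rw [← a4, ← h]; push_cast; ring

theorem gen_cases : ∀ m : Fin 4,
    (m = 0 ∧ Twist.E6.pD (Twist.E6.osD m) = rA) ∨
      ∀ s : Bool, ∃ a, rt30 a = Twist.sd s (Twist.E6.pD (Twist.E6.osD m)) ∧
        (p30 a = a ↔ m.val < 2) ∧ e30 a = true ∧
        (¬ m.val < 2 → rt30 (p30 a) = Twist.sd s (Twist.E6.pD (Twist.Frob.nodePerm Twist.E6.g (Twist.E6.osD m)))) := by
  decide +kernel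

/-- The twisting of ²E₆(q). -/
theorem exists_tws {q : ℕ} (hq : IsPrimePow q) (hK : Fintype.card K = q ^ 2) :
    ∃ T : Tws K, (∀ x, T.φ x = x ^ q) ∧ Nat.card (Fx T.φ) = q ∧ T.G1 ≤ Subgroup.closure T.gens1 ∧
      T.G1 = Cfsg.Lie.twistedE6 K q := by
  obtain ⟨φ, F⟩ := Twist.Frob.exists_frob hq hK (by norm_num)
  set O := Twist.E6.orth F hq.one_lt hK with hO
  obtain ⟨ω, hω⟩ := Twist.Frob.ne_id F (by norm_num) hq.one_lt
  let T : Tws K :=
    { φ := φ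
      h2 := fun x => F.pow x
      ω := ω
      hω := hω
      Θ := O.Θ
      hΘ := fun r t => O.Θ_X r t
      G1 := O.G1
      mem_G1 := fun g => O.tw.mem_W_iff }
  refine ⟨T, F.apply, F.card_fix, ?_, Twist.E6.G1_eq F hq.one_lt hK⟩
  show O.G1 ≤ _
  refine (Subgroup.closure_le _).2 ?_
  rintro g ⟨m, s, t, ht, rfl⟩
  refine Subgroup.subset_closure ?_
  have hsz : O.sz (O.os m) = if m.val < 2 then 1 else 2 := Twist.E6.sz_os F hq.one_lt hK m
  have hxS : O.xS s (O.os m) t = ((List.range (if m.val < 2 then 1 else 2)).map fun k =>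
      cE.X K (Twist.sd s (Twist.E6.pD ((Twist.Frob.nodePerm Twist.E6.g : _ → _)^[k] (Twist.E6.osD m))))
        ((φ : K → K)^[k] t)).prod := by
    rw [Twist.Orth.xS, Twist.Orth.oprod, hsz]
    refine congrArg List.prod (List.map_congr_left fun k _ => ?_)
    rw [Twist.E6.p_eq]
    rfl
  have hv : m.val < 2 → φ t = t := fun h => by
    have ht' : (φ : K → K)^[O.sz (O.os m)] t = t := ht
    rw [hsz, if_pos h] at ht'
    exact ht'
  rcases gen_cases m with ⟨hm, hp⟩ | hm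
  · have hlt : m.val < 2 := lt_of_eq_of_lt (congrArg Fin.val hm) Nat.zero_lt_two
    refine Or.inr ⟨Twist.sd s rA, ?_, t, hv hlt, ?_⟩
    · cases s
      · exact Or.inl rfl
      · exact Or.inr rfl
    · rw [hxS, if_pos hlt]
      simp [hp]
  · obtain ⟨a, ha, hfix, hea, hpair⟩ := hm s
    refine Or.inl ⟨a, t, fun h => hv (hfix.1 h), ?_⟩
    rw [hxS, Tws.lev]
    by_cases h : m.val < 2
    · rw [if_pos h, if_pos (hfix.2 h)]
      simp [ha]
    · rw [if_neg h, if_neg (fun e => h (hfix.1 e)), hea, sg_true, one_mul]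
      simp [List.range_succ, ha, hpair h, T]

/-- The bound for ²E₆(q). -/
theorem e6_twisted_bound {q : ℕ} (hq : IsPrimePow q) (hK : Fintype.card K = q ^ 2) {k : ℕ}
    (ρ : Representation ℂ ↥(Cfsg.Lie.twistedE6 K q) (Fin k → ℂ)) (hρ : ρ.IsIrreducible) (hk : 2 ≤ k) :
    q * (q ^ 6 - q ^ 3 + 1) * (q ^ 4 + 1) ≤ k := by
  obtain ⟨T, hφ, hfx, hgen, e⟩ := exists_tws hq hK
  have hord : Nat.card ↥(Cfsg.Lie.twistedE6 K q) ∣ ordT q := by
    refine (Dvd.intro_left _ (LieTwisted.Twist.E6.card_twisted hq hK)).trans (dvd_of_eq ?_)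
    rw [ordT]; ring
  have hsimple := (LieTwisted.Twist.E6.simple hq hK).1
  revert ρ hord hsimple
  rw [← e]
  intro ρ hρ hord hsimple
  exact bound_tws T hq.one_lt hK hφ hfx hgen hord hsimple ρ hρ hk

end Cfsg.Agent.Lib.E6Deg29.Tw
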