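import Mathlib

/-!
The twenty weights of the third exterior power of the six dimensional module: the thirty root moves, the
neighbours of a weight, and the certificates used for the orbit count.
-/

set_option autoImplicit false

namespace Cfsg.Agent.Lib.E6Deg29

/-- The moves: for each root, the coordinates it changes with their sources and signs. -/
def mvTabL : List (List (Fin 20 × Fin 20 × Bool)) := [
  [(12, 0, true), (14, 1, true), (15, 2, true), (17, 4, true), (18, 5, true), (19, 7, true)],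
  [(11, 0, false), (13, 1, false), (15, 3, true), (16, 4, false), (18, 6, true), (19, 8, true)],
  [(10, 0, true), (13, 2, false), (14, 3, false), (16, 5, false), (17, 6, false), (19, 9, true)],
  [(10, 1, true), (11, 2, true), (12, 3, true), (16, 7, false), (17, 8, false), (18, 9, false)],
  [(10, 4, true), (11, 5, true), (12, 6, true), (13, 7, true), (14, 8, true), (15, 9, true)],
  [(6, 0, false), (8, 1, false), (9, 2, false), (17, 10, true), (18, 11, true), (19, 13, true)],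
  [(5, 0, true), (7, 1, true), (9, 3, false), (16, 10, false), (18, 12, true), (19, 14, true)],
  [(4, 0, false), (7, 2, true), (8, 3, true), (16, 11, false), (17, 12, false), (19, 15, true)],
  [(4, 1, false), (5, 2, false), (6, 3, false), (16, 13, false), (17, 14, false), (18, 15, false)],
  [(3, 0, false), (8, 4, true), (9, 5, true), (14, 10, true), (15, 11, true), (19, 16, false)],
  [(2, 0, true), (7, 4, false), (9, 6, true), (13, 10, false), (15, 12, true), (19, 17, false)],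
  [(1, 0, false), (7, 5, false), (8, 6, false), (13, 11, false), (14, 12, false), (19, 18, false)],
  [(3, 1, true), (6, 4, true), (9, 7, false), (12, 10, true), (15, 13, false), (18, 16, false)],
  [(2, 1, false), (5, 4, false), (9, 8, false), (11, 10, false), (15, 14, false), (18, 17, false)],
  [(3, 2, false), (6, 5, false), (8, 7, false), (12, 11, false), (14, 13, false), (17, 16, false)],
  [(2, 3, false), (5, 6, false), (7, 8, false), (11, 12, false), (13, 14, false), (16, 17, false)],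
  [(1, 2, false), (4, 5, false), (8, 9, false), (10, 11, false), (14, 15, false), (17, 18, false)],
  [(1, 3, true), (4, 6, true), (7, 9, false), (10, 12, true), (13, 15, false), (16, 18, false)],
  [(0, 1, false), (5, 7, false), (6, 8, false), (11, 13, false), (12, 14, false), (18, 19, false)],
  [(0, 2, true), (4, 7, false), (6, 9, true), (10, 13, false), (12, 15, true), (17, 19, false)],
  [(0, 3, false), (4, 8, true), (5, 9, true), (10, 14, true), (11, 15, true), (16, 19, false)],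
  [(1, 4, false), (2, 5, false), (3, 6, false), (13, 16, false), (14, 17, false), (15, 18, false)],
  [(0, 4, false), (2, 7, true), (3, 8, true), (11, 16, false), (12, 17, false), (15, 19, true)],
  [(0, 5, true), (1, 7, true), (3, 9, false), (10, 16, false), (12, 18, true), (14, 19, true)],
  [(0, 6, false), (1, 8, false), (2, 9, false), (10, 17, true), (11, 18, true), (13, 19, true)],
  [(4, 10, true), (5, 11, true), (6, 12, true), (7, 13, true), (8, 14, true), (9, 15, true)],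
  [(1, 10, true), (2, 11, true), (3, 12, true), (7, 16, false), (8, 17, false), (9, 18, false)],
  [(0, 10, true), (2, 13, false), (3, 14, false), (5, 16, false), (6, 17, false), (9, 19, true)],
  [(0, 11, false), (1, 13, false), (3, 15, true), (4, 16, false), (6, 18, true), (8, 19, true)],
  [(0, 12, true), (1, 14, true), (2, 15, true), (4, 17, true), (5, 18, true), (7, 19, true)]]

/-- The lookup. -/
def mvTab : Fin 30 → List (Fin 20 × Fin 20 × Bool) := fun i => mvTabL.getD i.val []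

/-- The source and sign of the move of a root at a coordinate. -/
def mv (a : Fin 30) (s : Fin 20) : Option (Fin 20 × Bool) :=
  ((mvTab a).find? fun p => p.1 == s).map fun p => p.2

/-- The neighbours of a weight with the roots moving it to them. -/
def nbL : List (List (Fin 20 × Fin 30)) := [
  [(1, 11), (2, 10), (3, 9), (4, 7), (5, 6), (6, 5), (10, 2), (11, 1), (12, 0)],
  [(0, 18), (2, 13), (3, 12), (4, 8), (7, 6), (8, 5), (10, 3), (13, 1), (14, 0)],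
  [(0, 19), (1, 16), (3, 14), (5, 8), (7, 7), (9, 5), (11, 3), (13, 2), (15, 0)],
  [(0, 20), (1, 17), (2, 15), (6, 8), (8, 7), (9, 6), (12, 3), (14, 2), (15, 1)],
  [(0, 22), (1, 21), (5, 13), (6, 12), (7, 10), (8, 9), (10, 4), (16, 1), (17, 0)],
  [(0, 23), (2, 21), (4, 16), (6, 14), (7, 11), (9, 9), (11, 4), (16, 2), (18, 0)],
  [(0, 24), (3, 21), (4, 17), (5, 15), (8, 11), (9, 10), (12, 4), (17, 2), (18, 1)],
  [(1, 23), (2, 22), (4, 19), (5, 18), (8, 14), (9, 12), (13, 4), (16, 3), (19, 0)],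
  [(1, 24), (3, 22), (4, 20), (6, 18), (7, 15), (9, 13), (14, 4), (17, 3), (19, 1)],
  [(2, 24), (3, 23), (5, 20), (6, 19), (7, 17), (8, 16), (15, 4), (18, 3), (19, 2)],
  [(0, 27), (1, 26), (4, 25), (11, 13), (12, 12), (13, 10), (14, 9), (16, 6), (17, 5)],
  [(0, 28), (2, 26), (5, 25), (10, 16), (12, 14), (13, 11), (15, 9), (16, 7), (18, 5)],
  [(0, 29), (3, 26), (6, 25), (10, 17), (11, 15), (14, 11), (15, 10), (17, 7), (18, 6)],
  [(1, 28), (2, 27), (7, 25), (10, 19), (11, 18), (14, 14), (15, 12), (16, 8), (19, 5)],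
  [(1, 29), (3, 27), (8, 25), (10, 20), (12, 18), (13, 15), (15, 13), (17, 8), (19, 6)],
  [(2, 29), (3, 28), (9, 25), (11, 20), (12, 19), (13, 17), (14, 16), (18, 8), (19, 7)],
  [(4, 28), (5, 27), (7, 26), (10, 23), (11, 22), (13, 21), (17, 14), (18, 12), (19, 9)],
  [(4, 29), (6, 27), (8, 26), (10, 24), (12, 22), (14, 21), (16, 15), (18, 13), (19, 10)],
  [(5, 29), (6, 28), (9, 26), (11, 24), (12, 23), (15, 21), (16, 17), (17, 16), (19, 11)],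
  [(7, 29), (8, 28), (9, 27), (13, 24), (14, 23), (15, 22), (16, 20), (17, 19), (18, 18)]]

/-- The lookup. -/
def nb : Fin 20 → List (Fin 20 × Fin 30) := fun i => nbL.getD i.val []

/-- A pair of stabiliser moves for each other weight. -/
structure Rest where
  /-- the weight -/
  v : Fin 20
  /-- the first root -/
  a1 : Fin 30
  /-- the second root -/
  a2 : Fin 30
  /-- the first target -/
  s1 : Fin 20
  /-- the second target -/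
  s2 : Fin 20
  /-- whether it is the opposite weight -/
  bot : Bool

/-- The table of stabiliser moves. -/
def restL : List (List Rest) := [
  [⟨7, 3, 4, 16, 13, false⟩, ⟨8, 3, 4, 17, 14, false⟩, ⟨9, 3, 4, 18, 15, false⟩, ⟨13, 8, 12, 16, 15, false⟩, ⟨14, 8, 13, 17, 15, false⟩, ⟨15, 8, 16, 18, 14, false⟩, ⟨16, 12, 14, 18, 17, false⟩, ⟨17, 13, 15, 18, 16, false⟩, ⟨18, 16, 17, 17, 16, false⟩, ⟨19, 18, 19, 18, 17, true⟩],
  [⟨5, 2, 4, 16, 11, false⟩, ⟨6, 2, 4, 17, 12, false⟩, ⟨9, 2, 4, 19, 15, false⟩, ⟨11, 7, 9, 16, 15, false⟩, ⟨12, 7, 10, 17, 15, false⟩, ⟨15, 7, 19, 19, 12, false⟩, ⟨16, 9, 14, 19, 17, false⟩, ⟨17, 10, 15, 19, 16, false⟩, ⟨18, 11, 16, 19, 17, true⟩, ⟨19, 19, 20, 17, 16, false⟩],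
  [⟨4, 1, 4, 16, 10, false⟩, ⟨6, 1, 4, 18, 12, false⟩, ⟨8, 1, 4, 19, 14, false⟩, ⟨10, 6, 9, 16, 14, false⟩, ⟨12, 6, 11, 18, 14, false⟩, ⟨14, 6, 18, 19, 12, false⟩, ⟨16, 9, 12, 19, 18, false⟩, ⟨17, 10, 13, 19, 18, true⟩, ⟨18, 11, 17, 19, 16, false⟩, ⟨19, 18, 20, 18, 16, false⟩],
  [⟨4, 0, 4, 17, 10, false⟩, ⟨5, 0, 4, 18, 11, false⟩, ⟨7, 0, 4, 19, 13, false⟩, ⟨10, 5, 10, 17, 13, false⟩, ⟨11, 5, 11, 18, 13, false⟩, ⟨13, 5, 18, 19, 11, false⟩, ⟨16, 9, 12, 19, 18, true⟩, ⟨17, 10, 13, 19, 18, false⟩, ⟨18, 11, 16, 19, 17, false⟩, ⟨19, 18, 19, 18, 17, false⟩],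
  [⟨2, 2, 3, 13, 11, false⟩, ⟨3, 2, 3, 14, 12, false⟩, ⟨9, 2, 3, 19, 18, false⟩, ⟨11, 5, 11, 18, 13, false⟩, ⟨12, 6, 11, 18, 14, false⟩, ⟨13, 5, 14, 19, 14, false⟩, ⟨14, 6, 15, 19, 13, false⟩, ⟨15, 7, 8, 19, 18, true⟩, ⟨18, 11, 23, 19, 12, false⟩, ⟨19, 18, 23, 18, 14, false⟩],
  [⟨1, 1, 3, 13, 10, false⟩, ⟨3, 1, 3, 15, 12, false⟩, ⟨8, 1, 3, 19, 17, false⟩, ⟨10, 5, 10, 17, 13, false⟩, ⟨12, 7, 10, 17, 15, false⟩, ⟨13, 5, 12, 19, 15, false⟩, ⟨14, 6, 8, 19, 17, true⟩, ⟨15, 7, 17, 19, 13, false⟩, ⟨17, 10, 22, 19, 12, false⟩, ⟨19, 19, 22, 17, 15, false⟩],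
  [⟨1, 0, 3, 14, 10, false⟩, ⟨2, 0, 3, 15, 11, false⟩, ⟨7, 0, 3, 19, 16, false⟩, ⟨10, 6, 9, 16, 14, false⟩, ⟨11, 7, 9, 16, 15, false⟩, ⟨13, 5, 8, 19, 16, true⟩, ⟨14, 6, 13, 19, 15, false⟩, ⟨15, 7, 16, 19, 14, false⟩, ⟨16, 9, 22, 19, 11, false⟩, ⟨19, 20, 22, 16, 15, false⟩],
  [⟨0, 1, 2, 11, 10, false⟩, ⟨3, 1, 2, 15, 14, false⟩, ⟨6, 1, 2, 18, 17, false⟩, ⟨10, 5, 9, 17, 14, false⟩, ⟨11, 5, 9, 18, 15, false⟩, ⟨12, 6, 7, 18, 17, true⟩, ⟨14, 8, 13, 17, 15, false⟩, ⟨15, 8, 16, 18, 14, false⟩, ⟨17, 13, 21, 18, 14, false⟩, ⟨18, 16, 21, 17, 15, false⟩],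
  [⟨0, 0, 2, 12, 10, false⟩, ⟨2, 0, 2, 15, 13, false⟩, ⟨5, 0, 2, 18, 16, false⟩, ⟨10, 6, 10, 16, 13, false⟩, ⟨11, 5, 7, 18, 16, true⟩, ⟨12, 6, 10, 18, 15, false⟩, ⟨13, 8, 12, 16, 15, false⟩, ⟨15, 8, 17, 18, 13, false⟩, ⟨16, 12, 21, 18, 13, false⟩, ⟨18, 17, 21, 16, 15, false⟩],
  [⟨0, 0, 1, 12, 11, false⟩, ⟨1, 0, 1, 14, 13, false⟩, ⟨4, 0, 1, 17, 16, false⟩, ⟨10, 5, 6, 17, 16, true⟩, ⟨11, 7, 11, 16, 13, false⟩, ⟨12, 7, 11, 17, 14, false⟩, ⟨13, 8, 14, 16, 14, false⟩, ⟨14, 8, 15, 17, 13, false⟩, ⟨16, 14, 21, 17, 13, false⟩, ⟨17, 15, 21, 16, 14, false⟩],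
  [⟨2, 0, 7, 15, 7, false⟩, ⟨3, 1, 7, 15, 8, false⟩, ⟨5, 0, 11, 18, 7, false⟩, ⟨6, 1, 11, 18, 8, false⟩, ⟨7, 0, 14, 19, 8, false⟩, ⟨8, 1, 15, 19, 7, false⟩, ⟨9, 2, 3, 19, 18, true⟩, ⟨15, 7, 8, 19, 18, false⟩, ⟨18, 11, 21, 19, 15, false⟩, ⟨19, 18, 22, 18, 15, false⟩],
  [⟨1, 0, 6, 14, 7, false⟩, ⟨3, 2, 6, 14, 9, false⟩, ⟨4, 0, 10, 17, 7, false⟩, ⟨6, 2, 10, 17, 9, false⟩, ⟨7, 0, 12, 19, 9, false⟩, ⟨8, 1, 3, 19, 17, true⟩, ⟨9, 2, 17, 19, 7, false⟩, ⟨14, 6, 8, 19, 17, false⟩, ⟨17, 10, 21, 19, 14, false⟩, ⟨19, 19, 23, 17, 14, false⟩],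
  [⟨1, 1, 5, 13, 8, false⟩, ⟨2, 2, 5, 13, 9, false⟩, ⟨4, 1, 9, 16, 8, false⟩, ⟨5, 2, 9, 16, 9, false⟩, ⟨7, 0, 3, 19, 16, true⟩, ⟨8, 1, 13, 19, 9, false⟩, ⟨9, 2, 16, 19, 8, false⟩, ⟨13, 5, 8, 19, 16, false⟩, ⟨16, 9, 21, 19, 13, false⟩, ⟨19, 20, 24, 16, 13, false⟩],
  [⟨0, 0, 6, 12, 5, false⟩, ⟨3, 3, 6, 12, 9, false⟩, ⟨4, 0, 9, 17, 8, false⟩, ⟨5, 0, 9, 18, 9, false⟩, ⟨6, 1, 2, 18, 17, true⟩, ⟨8, 3, 13, 17, 9, false⟩, ⟨9, 3, 16, 18, 8, false⟩, ⟨12, 6, 7, 18, 17, false⟩, ⟨17, 13, 22, 18, 12, false⟩, ⟨18, 16, 23, 17, 12, false⟩],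
  [⟨0, 1, 5, 11, 6, false⟩, ⟨2, 3, 5, 11, 9, false⟩, ⟨4, 1, 10, 16, 7, false⟩, ⟨5, 0, 2, 18, 16, true⟩, ⟨6, 1, 10, 18, 9, false⟩, ⟨7, 3, 12, 16, 9, false⟩, ⟨9, 3, 17, 18, 7, false⟩, ⟨11, 5, 7, 18, 16, false⟩, ⟨16, 12, 22, 18, 11, false⟩, ⟨18, 17, 24, 16, 11, false⟩],
  [⟨0, 2, 5, 10, 6, false⟩, ⟨1, 3, 5, 10, 8, false⟩, ⟨4, 0, 1, 17, 16, true⟩, ⟨5, 2, 11, 16, 7, false⟩, ⟨6, 2, 11, 17, 8, false⟩, ⟨7, 3, 14, 16, 8, false⟩, ⟨8, 3, 15, 17, 7, false⟩, ⟨10, 5, 6, 17, 16, false⟩, ⟨16, 14, 23, 17, 10, false⟩, ⟨17, 15, 24, 16, 10, false⟩],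
  [⟨0, 0, 5, 12, 6, false⟩, ⟨1, 0, 5, 14, 8, false⟩, ⟨2, 0, 5, 15, 9, false⟩, ⟨3, 1, 2, 15, 14, true⟩, ⟨6, 4, 10, 12, 9, false⟩, ⟨8, 4, 13, 14, 9, false⟩, ⟨9, 4, 16, 15, 8, false⟩, ⟨12, 10, 11, 15, 14, false⟩, ⟨14, 13, 18, 15, 12, false⟩, ⟨15, 16, 19, 14, 12, false⟩],
  [⟨0, 1, 6, 11, 5, false⟩, ⟨1, 1, 6, 13, 7, false⟩, ⟨2, 0, 2, 15, 13, true⟩, ⟨3, 1, 6, 15, 9, false⟩, ⟨5, 4, 9, 11, 9, false⟩, ⟨7, 4, 12, 13, 9, false⟩, ⟨9, 4, 17, 15, 7, false⟩, ⟨11, 9, 11, 15, 13, false⟩, ⟨13, 12, 18, 15, 11, false⟩, ⟨15, 17, 20, 13, 11, false⟩],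
  [⟨0, 2, 7, 10, 4, false⟩, ⟨1, 0, 1, 14, 13, true⟩, ⟨2, 2, 7, 13, 7, false⟩, ⟨3, 2, 7, 14, 8, false⟩, ⟨4, 4, 9, 10, 8, false⟩, ⟨7, 4, 14, 13, 8, false⟩, ⟨8, 4, 15, 14, 7, false⟩, ⟨10, 9, 10, 14, 13, false⟩, ⟨13, 14, 19, 14, 10, false⟩, ⟨14, 15, 20, 13, 10, false⟩],
  [⟨0, 0, 1, 12, 11, true⟩, ⟨1, 3, 8, 10, 4, false⟩, ⟨2, 3, 8, 11, 5, false⟩, ⟨3, 3, 8, 12, 6, false⟩, ⟨4, 4, 12, 10, 6, false⟩, ⟨5, 4, 14, 11, 6, false⟩, ⟨6, 4, 15, 12, 5, false⟩, ⟨10, 12, 13, 12, 11, false⟩, ⟨11, 14, 16, 12, 10, false⟩, ⟨12, 15, 17, 11, 10, false⟩]]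

/-- The lookup. -/
def rest : Fin 20 → List Rest := fun i => restL.getD i.val []

/-- A step up from each weight below the top. -/
def upL : List (Fin 20 × Fin 30 × Fin 30) := [
  (1, 11, 18),
  (2, 13, 16),
  (3, 14, 15),
  (6, 8, 21),
  (5, 13, 16),
  (6, 14, 15),
  (8, 11, 18),
  (8, 14, 15),
  (9, 13, 16),
  (15, 4, 25),
  (11, 13, 16),
  (12, 14, 15),
  (14, 11, 18),
  (14, 14, 15),
  (15, 13, 16),
  (18, 8, 21),
  (17, 14, 15),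
  (18, 13, 16),
  (19, 11, 18),
  (19, 0, 0)]

/-- The lookup. -/
def up : Fin 20 → Fin 20 × Fin 30 × Fin 30 := fun i => upL.getD i.val (0, 0, 0)

/-- The number of neighbours below a weight. -/
def lwL : List (ℕ) := [
  0,
  1,
  2,
  3,
  2,
  3,
  4,
  4,
  5,
  6,
  3,
  4,
  5,
  5,
  6,
  7,
  6,
  7,
  8,
  9]

/-- The lookup. -/
def lw : Fin 20 → ℕ := fun i => lwL.getD i.val 0

/-- The coordinates that vanish before a stabiliser move is applied. -/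
def Zero (w : Fin 20) (e : Rest) (T : Fin 20) : Prop :=
  T ∈ (nb w).map Prod.fst ∨ (e.bot = true ∧ T ≠ w ∧ T ≠ e.v)

instance (w : Fin 20) (e : Rest) (T : Fin 20) : Decidable (Zero w e T) := by unfold Zero; infer_instance

theorem mv_acyclic : ∀ a s, (match mv a s with | none => true | some p => (mv a p.1).isNone) = true := by
  decide +kernel

theorem nb_spec : ∀ w, ∀ p ∈ nb w, mv p.2 w = none ∧ ((mv p.2 p.1).map Prod.fst = some w) ∧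
    ∀ p' ∈ nb w, p'.1 ≠ p.1 → mv p.2 p'.1 = none := by
  decide +kernel

theorem nb_down : ∀ w, ∀ p ∈ nb w, p.1 < w → ∀ s, (match mv p.2 s with | none => true | some q => decide (s < q.1)) = true := by
  decide +kernel

theorem nb_nodup : ∀ w, ((nb w).map Prod.fst).Nodup ∧ ((nb w).map Prod.fst).length = 9 ∧
    w ∉ (nb w).map Prod.fst ∧ (((nb w).map Prod.fst).filter fun v => decide (v < w)).length = lw w := by
  decide +kernel

theorem rest_spec : ∀ w, ∀ e ∈ rest w, e.v ≠ w ∧ e.v ∉ (nb w).map Prod.fst ∧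
    (mv e.a1 e.s1).map Prod.fst = some e.v ∧ (mv e.a2 e.s2).map Prod.fst = some e.v ∧ e.s1 ≠ e.s2 ∧
    mv e.a2 e.s1 = none ∧ ∀ a ∈ [e.a1, e.a2], ∀ s, (s = w ∨ s ∈ (nb w).map Prod.fst) →
      (match mv a s with | none => true | some q => decide (Zero w e q.1)) = true := by
  decide +kernel

theorem rest_cover : ∀ w v, v = w ∨ v ∈ (nb w).map Prod.fst ∨ v ∈ (rest w).map Rest.v := by
  decide +kernel

theorem bot_unique : ∀ w, ∀ e ∈ rest w, ∀ e' ∈ rest w, e.bot = true → e'.bot = true → e.v = e'.v := by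
  decide +kernel

theorem up_spec : ∀ w, w.val < 19 → w < (up w).1 ∧ (mv (up w).2.1 (up w).1).map Prod.fst = some w ∧
    (mv (up w).2.2 w).map Prod.fst = some (up w).1 ∧
    (∀ s, s ≠ (up w).1 → (mv (up w).2.1 s).map Prod.fst ≠ some w) ∧
    ∀ s, s ≠ w → (mv (up w).2.2 s).map Prod.fst ≠ some w ∧ (mv (up w).2.2 s).map Prod.fst ≠ some (up w).1 := by
  decide +kernel

theorem lw_top : lw 19 = 9 := rfl

end Cfsg.Agent.Lib.E6Deg29
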