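import Cfsg.Agent.Lib.E6Deg29.Comb

/-!
The symmetry of the twenty weights and thirty roots under the graph automorphism, with the certificates for
the orbit count in the twisted case.
-/

set_option autoImplicit false
set_option maxRecDepth 100000
set_option synthInstance.maxSize 4000
set_option synthInstance.maxHeartbeats 200000

namespace Cfsg.Agent.Lib.E6Deg29.Tw

/-- The permutation of the weights. -/
def p20L : List (Fin 20) := [0, 1, 4, 10, 2, 5, 11, 7, 13, 16, 3, 6, 12, 8, 14, 17, 9, 15, 18, 19]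

/-- The lookup. -/
def p20 (i : Fin 20) : Fin 20 := p20L.getD i.val 0

/-- The signs on the weights. -/
def e20L : List Bool := [true, true, true, false, true, true, false, true, false, false, false, false, true, false, true, true, false, true, true, true]

/-- The lookup. -/
def e20 (i : Fin 20) : Bool := e20L.getD i.val true

/-- The permutation of the roots. -/
def p30L : List (Fin 30) := [0, 5, 9, 12, 14, 1, 6, 10, 13, 2, 7, 11, 3, 8, 4, 25, 21, 26, 18, 22, 27, 16, 19, 23, 28, 15, 17, 20, 24, 29]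

/-- The lookup. -/
def p30 (a : Fin 30) : Fin 30 := p30L.getD a.val 0

/-- The signs on the roots. -/
def e30L : List Bool := [true, false, true, false, true, false, true, false, true, true, false, true, false, true, true, true, true, false, true, false, true, true, false, true, false, true, false, true, false, true]

/-- The lookup. -/
def e30 (a : Fin 30) : Bool := e30L.getD a.val true

/-- One neighbour of each pair. -/
def grpL : List (List (Fin 20 × Fin 30)) := [
  [(1, 11), (2, 10), (3, 9), (5, 6), (6, 5), (12, 0)],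
  [(0, 18), (2, 13), (3, 12), (7, 6), (8, 5), (14, 0)],
  [],
  [],
  [],
  [(0, 23), (2, 21), (6, 14), (7, 11), (9, 9), (18, 0)],
  [],
  [(1, 23), (2, 22), (5, 18), (8, 14), (9, 12), (19, 0)],
  [],
  [],
  [],
  [],
  [(0, 29), (3, 26), (6, 25), (14, 11), (15, 10), (18, 6)],
  [],
  [(1, 29), (3, 27), (8, 25), (12, 18), (15, 13), (19, 6)],
  [],
  [],
  [],
  [(5, 29), (6, 28), (9, 26), (12, 23), (15, 21), (19, 11)],
  [(7, 29), (8, 28), (9, 27), (14, 23), (15, 22), (18, 18)]]

/-- The lookup. -/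
def grp (w : Fin 20) : List (Fin 20 × Fin 30) := grpL.getD w.val []

/-- One move for each weight away from a fixed one: the weight, the root, a changed coordinate and
whether it is the opposite weight. -/
def restTL : List (List (Fin 20 × Fin 30 × Fin 20 × Bool)) := [
  [(7, 3, 16, false), (8, 3, 17, false), (9, 4, 15, false), (13, 8, 16, false), (14, 8, 17, false), (15, 17, 13, false), (16, 14, 17, false), (17, 15, 16, false), (18, 16, 17, false), (19, 18, 18, true)],
  [(5, 2, 16, false), (6, 2, 17, false), (9, 4, 15, false), (11, 7, 16, false), (12, 7, 17, false), (15, 20, 11, false), (16, 14, 17, false), (17, 15, 16, false), (18, 11, 19, true), (19, 19, 17, false)],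
  [],
  [],
  [],
  [(1, 1, 13, false), (3, 1, 15, false), (8, 3, 17, false), (10, 5, 17, false), (12, 7, 17, false), (13, 12, 15, false), (14, 6, 19, true), (15, 17, 13, false), (17, 24, 10, false), (19, 19, 17, false)],
  [],
  [(0, 1, 11, false), (3, 1, 15, false), (6, 2, 17, false), (10, 5, 17, false), (11, 9, 15, false), (12, 6, 18, true), (14, 8, 17, false), (15, 20, 11, false), (17, 24, 10, false), (18, 16, 17, false)],
  [],
  [],
  [],
  [],
  [(1, 1, 13, false), (2, 2, 13, false), (4, 1, 16, false), (5, 2, 16, false), (7, 0, 19, true), (8, 13, 9, false), (9, 16, 8, false), (13, 8, 16, false), (16, 21, 13, false), (19, 20, 16, false)],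
  [],
  [(0, 1, 11, false), (2, 3, 11, false), (4, 1, 16, false), (5, 0, 18, true), (6, 10, 9, false), (7, 3, 16, false), (9, 19, 6, false), (11, 7, 16, false), (16, 22, 11, false), (18, 17, 16, false)],
  [],
  [],
  [],
  [(0, 2, 10, false), (1, 0, 14, true), (2, 2, 13, false), (3, 7, 8, false), (4, 4, 10, false), (7, 4, 13, false), (8, 20, 4, false), (10, 10, 13, false), (13, 19, 10, false), (14, 15, 13, false)],
  [(0, 0, 12, true), (1, 3, 10, false), (2, 3, 11, false), (3, 8, 6, false), (4, 4, 10, false), (5, 4, 11, false), (6, 17, 4, false), (10, 13, 11, false), (11, 16, 10, false), (12, 15, 11, false)]]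

/-- The lookup. -/
def restT (w : Fin 20) : List (Fin 20 × Fin 30 × Fin 20 × Bool) := restTL.getD w.val []

/-- A step up between fixed weights. -/
def upTL : List (Fin 20 × Fin 30 × Fin 30) := [(1, 11, 18), (7, 6, 23), (0, 0, 0), (0, 0, 0), (0, 0, 0), (7, 11, 18), (0, 0, 0), (19, 0, 29), (0, 0, 0), (0, 0, 0), (0, 0, 0), (0, 0, 0), (14, 11, 18), (0, 0, 0), (19, 6, 23), (0, 0, 0), (0, 0, 0), (0, 0, 0), (19, 11, 18), (0, 0, 0)]

/-- The lookup. -/
def upT (w : Fin 20) : Fin 20 × Fin 30 × Fin 30 := upTL.getD w.val (0, 0, 0)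

/-- For a moved maximal weight: a fixed weight below, a root, a higher coordinate and the root of the neighbour. -/
def lowTL : List (Fin 20 × Fin 30 × Fin 20 × Fin 30) := [(0, 0, 0, 0), (0, 0, 0, 0), (0, 0, 0, 0), (0, 0, 0, 0), (0, 22, 7, 7), (0, 0, 0, 0), (0, 0, 0, 0), (0, 0, 0, 0), (0, 0, 0, 0), (0, 0, 0, 0), (0, 27, 14, 2), (0, 28, 18, 1), (0, 0, 0, 0), (1, 28, 19, 1), (0, 0, 0, 0), (0, 0, 0, 0), (5, 27, 19, 2), (12, 22, 19, 7), (0, 0, 0, 0), (0, 0, 0, 0)]

/-- The lookup. -/
def lowT (v : Fin 20) : Fin 20 × Fin 30 × Fin 20 × Fin 30 := lowTL.getD v.val (0, 0, 0, 0)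

/-- A neighbour with its partner. -/
def pairL (p : Fin 20 × Fin 30) : List (Fin 20 × Fin 30) :=
  if p20 p.1 = p.1 then [p] else [p, (p20 p.1, p30 p.2)]

/-- The expanded list. -/
def expandL (G : List (Fin 20 × Fin 30)) : List (Fin 20 × Fin 30) := (G.map pairL).flatten

theorem p20_inv : ∀ i, p20 (p20 i) = i ∧ e20 (p20 i) = e20 i ∧ (p20 i = i → e20 i = true) := by decide +kernel

theorem p30_inv : ∀ a, p30 (p30 a) = a ∧ (p30 a = a → e30 a = true) := by decide +kernel

theorem grp_spec : ∀ w, p20 w = w →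
    List.Perm (expandL (grp w)) (nb w) ∧ ∀ p ∈ grp w, p ∈ nb w ∧ (p20 p.1, p30 p.2) ∈ nb w ∧
      (p20 p.1 = p.1 ↔ p30 p.2 = p.2) := by
  decide +kernel

theorem sign_spec : ∀ w, p20 w = w → ∀ p ∈ nb w, (p20 p.1, p30 p.2) ∈ nb w ∧
    (bt (p20 p.1, p30 p.2) == e20 p.1) = (e30 p.2 == bt p) ∧ (p.1 < w ↔ p20 p.1 < w) := by
  decide +kernel

/-- The conditions on a stabiliser move. -/
def RestOK (w : Fin 20) (e : Fin 20 × Fin 30 × Fin 20 × Bool) : Prop :=
  (mv e.2.1 e.2.2.1).map Prod.fst = some e.1 ∧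
    (if e.2.2.2 then p30 e.2.1 = e.2.1 else p30 e.2.1 ≠ e.2.1 ∧ mv (p30 e.2.1) e.2.2.1 = none) ∧
    ∀ a ∈ [e.2.1, p30 e.2.1], ∀ s, (s = w ∨ s ∈ (nb w).map Prod.fst) →
      (match mv a s with
        | none => true
        | some q => decide (q.1 ∈ (nb w).map Prod.fst ∨ (e.2.2.2 = true ∧ q.1 ≠ w ∧ q.1 ≠ e.1))) = true

instance (w : Fin 20) (e : Fin 20 × Fin 30 × Fin 20 × Bool) : Decidable (RestOK w e) := by
  unfold RestOK; infer_instance

theorem restT_specB : ∀ w, ((restTL.getD w.val []).all fun e => decide (RestOK w e)) = true := by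
  intro w
  fin_cases w <;> decide +kernel

theorem restT_spec : ∀ w, p20 w = w → ∀ e ∈ restT w, RestOK w e :=
  fun w _ e he => of_decide_eq_true (List.all_eq_true.1 (restT_specB w) e he)

theorem restT_cover : ∀ w, p20 w = w → ∀ v, v = w ∨ v ∈ (nb w).map Prod.fst ∨ v ∈ (restT w).map Prod.fst := by
  decide +kernel

theorem botT_count : ∀ w, ((restT w).filter fun e => e.2.2.2).length ≤ 1 := by
  intro w
  fin_cases w <;> decide +kernel

theorem botT_unique (w : Fin 20) : ∀ e ∈ restT w, ∀ e' ∈ restT w, e.2.2.2 = true → e'.2.2.2 = true → e.1 = e'.1 := by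
  intro e he e' he' h h'
  have h1 : e ∈ (restT w).filter fun e => e.2.2.2 := List.mem_filter.2 ⟨he, h⟩
  have h2 : e' ∈ (restT w).filter fun e => e.2.2.2 := List.mem_filter.2 ⟨he', h'⟩
  rcases hl : (restT w).filter fun e => e.2.2.2 with _ | ⟨x, _ | ⟨y, L⟩⟩
  · rw [hl] at h1; simp at h1
  · rw [hl, List.mem_singleton] at h1 h2; rw [h1, h2]
  · have := botT_count w; rw [hl] at this; simp at this

theorem upT_spec : ∀ w, p20 w = w → w.val < 19 → w < (upT w).1 ∧ p20 (upT w).1 = (upT w).1 ∧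
    p30 (upT w).2.1 = (upT w).2.1 ∧ p30 (upT w).2.2 = (upT w).2.2 ∧
    (mv (upT w).2.1 (upT w).1).map Prod.fst = some w ∧
    (mv (upT w).2.2 w).map Prod.fst = some (upT w).1 ∧
    (∀ s, s ≠ (upT w).1 → (mv (upT w).2.1 s).map Prod.fst ≠ some w) ∧
    ∀ s, s ≠ w → (mv (upT w).2.2 s).map Prod.fst ≠ some w ∧ (mv (upT w).2.2 s).map Prod.fst ≠ some (upT w).1 := by
  decide +kernel

/-- The conditions on a moved maximal weight. -/
def LowOK (v : Fin 20) : Prop :=
  p20 (lowT v).1 = (lowT v).1 ∧ (lowT v).1 < v ∧ p30 (lowT v).2.1 ≠ (lowT v).2.1 ∧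
  (mv (lowT v).2.1 (lowT v).1).map Prod.fst = some v ∧
  (mv (p30 (lowT v).2.1) (lowT v).1).map Prod.fst = some (p20 v) ∧
  ((((mv (p30 (lowT v).2.1) (lowT v).1).map Prod.snd).getD true == e30 (lowT v).2.1) == e20 v) =
    ((mv (lowT v).2.1 (lowT v).1).map Prod.snd).getD true ∧
  (match mv (lowT v).2.1 (p20 v) with | none => true | some q => decide (v < q.1)) = true ∧
  (∀ a ∈ [(lowT v).2.1, p30 (lowT v).2.1], ∀ s,
    (match mv a s with | none => true | some q => decide (s < q.1)) = true) ∧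
  (v, (lowT v).2.2.2) ∈ nb (lowT v).1 ∧
  v < (lowT v).2.2.1 ∧ (lowT v).2.2.1 ∉ (nb (lowT v).1).map Prod.fst ∧
  (mv (lowT v).2.2.2 (lowT v).2.2.1).map Prod.fst = some (p20 v) ∧
  (mv (p30 (lowT v).2.2.2) (lowT v).2.2.1).map Prod.fst = some v ∧
  ∀ p ∈ nb (lowT v).1, p.1 ≠ v → p.1 ≠ p20 v →
    (match mv p.2 (lowT v).2.2.1 with
      | none => true
      | some q => decide (q.1 = v ∨ q.1 = p20 v ∨ v < q.1 ∨ v < p.1)) = true

theorem lowT_spec : ∀ v, p20 v < v → LowOK v := by
  unfold LowOK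
  decide +kernel

theorem top_fix : p20 19 = 19 ∧ p20 0 = 0 := by decide

theorem orb_list : (((List.finRange 20).filter fun w => decide (p20 w = w)).map lw) = [0, 1, 3, 4, 5, 6, 8, 9] := by
  decide +kernel

end Cfsg.Agent.Lib.E6Deg29.Tw
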